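import Mathlib
import Cfsg.Agent.Lib.Transfer.ThompsonJ
import Cfsg.Agent.Lib.Transfer.Sylow

/-!
Glauberman's replacement theorem: `p` odd, `A` a member of `maxAbExp e P`, `B` a subgroup of the
`p`-group `P` normalized by `A`, of class at most two, with `[B, B]` centralizing `A`. If `B` does
not normalize `A`, another member normalizing `A` meets `B` in a larger subgroup.
-/

set_option autoImplicit false
set_option linter.style.haveILetI false

open scoped commutatorElement Pointwise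

namespace CfsgLib.ZJ

open CfsgLib.Transfer

variable {G : Type*} [Group G]

theorem mul_pow_of_central {x y : G} (hx : Commute ⁅y, x⁆ x) (hy : Commute ⁅y, x⁆ y) :
    ∀ n : ℕ, (x * y) ^ n = x ^ n * y ^ n * ⁅y, x⁆ ^ (n.choose 2) := by
  have hswap : ∀ n : ℕ, y ^ n * x = x * y ^ n * ⁅y, x⁆ ^ n := by
    intro n
    induction n with
    | zero => simp
    | succ n ih =>
      have e : y * x = x * y * ⁅y, x⁆ := by
        have h1 : ⁅y, x⁆ * (x * y) = y * x := by rw [commutatorElement_def]; group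
        rw [← h1, (hx.mul_right hy).eq]
      rw [pow_succ, mul_assoc, e, ← mul_assoc, ← mul_assoc, ih, pow_succ ⁅y, x⁆,
        mul_assoc (x * y ^ n) _ y, (hy.pow_left n).eq]
      simp only [mul_assoc]
  intro n
  induction n with
  | zero => simp
  | succ n ih =>
    set q := ⁅y, x⁆ with hq
    calc (x * y) ^ (n + 1) = x ^ n * y ^ n * (q ^ n.choose 2 * (x * y)) := by
          rw [pow_succ, ih, mul_assoc]
      _ = x ^ n * (y ^ n * x) * (y * q ^ n.choose 2) := by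
          rw [((hx.mul_right hy).pow_left _).eq]; simp only [mul_assoc]
      _ = x ^ n * x * y ^ n * (q ^ n * y) * q ^ n.choose 2 := by
          rw [hswap n]; simp only [mul_assoc]
      _ = x ^ (n + 1) * y ^ (n + 1) * q ^ ((n + 1).choose 2) := by
          rw [(hy.pow_left n).eq, pow_succ x n, pow_succ y n, Nat.choose_succ_succ n 1,
            Nat.choose_one_right, pow_add, show Nat.succ 1 = 2 from rfl]
          simp only [mul_assoc]

theorem exists_mul_of_mem_sup {N H : Subgroup G} (h : H ≤ Subgroup.normalizer (N : Set G)) {x : G}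
    (hx : x ∈ N ⊔ H) : ∃ n ∈ N, ∃ k ∈ H, n * k = x := by
  rwa [← SetLike.mem_coe, Subgroup.coe_mul_of_right_le_normalizer_left _ _ h, Set.mem_mul] at hx

/-- In a `p`-group a self-centralizing element of a largest abelian subgroup lies in it. -/
theorem mem_of_commute [Finite G] {e : ℕ} {P A : Subgroup G} (hA : A ∈ maxAbExp e P) {c : G}
    (hc : c ∈ P) (he : c ^ e = 1) (hcomm : ∀ a ∈ A, a * c = c * a) : c ∈ A := by
  obtain ⟨hAP, ⟨hAc, hAe⟩, hmax⟩ := hA
  have hzn : Subgroup.zpowers c ≤ Subgroup.normalizer (A : Set G) := by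
    rw [Subgroup.zpowers_le]
    exact Subgroup.centralizer_le_normalizer _ fun a ha => hcomm a ha
  have hmem : ∀ x ∈ A ⊔ Subgroup.zpowers c, ∃ a ∈ A, ∃ z ∈ Subgroup.zpowers c, a * z = x :=
    fun x hx => exists_mul_of_mem_sup hzn hx
  have hcz : ∀ a ∈ A, ∀ z ∈ Subgroup.zpowers c, Commute a z := fun a ha z hz => by
    obtain ⟨i, rfl⟩ := Subgroup.mem_zpowers_iff.mp hz
    exact Commute.zpow_right (hcomm a ha) i
  have hab : IsAbExp e (A ⊔ Subgroup.zpowers c) := by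
    refine ⟨⟨⟨fun x y => Subtype.ext ?_⟩⟩, fun x hx => ?_⟩
    · obtain ⟨a, ha, z, hz, hx⟩ := hmem x x.2
      obtain ⟨b, hb, w, hw, hy⟩ := hmem y y.2
      show (x : G) * y = y * x
      rw [← hx, ← hy]
      have hab' : Commute a b := congrArg Subtype.val (mul_comm' (⟨a, ha⟩ : A) ⟨b, hb⟩)
      have hzw : Commute z w := congrArg Subtype.val
        (mul_comm' (⟨z, hz⟩ : Subgroup.zpowers c) ⟨w, hw⟩)
      exact ((hab'.mul_right (hcz a ha w hw)).mul_left ((hcz b hb z hz).symm.mul_right hzw)).eq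
    · obtain ⟨a, ha, z, hz, rfl⟩ := hmem x hx
      obtain ⟨i, rfl⟩ := Subgroup.mem_zpowers_iff.mp hz
      rw [(hcz a ha _ hz).mul_pow, hAe a ha, one_mul, ← zpow_natCast, ← zpow_mul, mul_comm,
        zpow_mul, zpow_natCast, he, one_zpow]
  have h := Subgroup.eq_of_le_of_card_ge le_sup_left
    (hmax _ (sup_le hAP (Subgroup.zpowers_le.mpr hc)) hab)
  rw [h]
  exact Subgroup.mem_sup_right (Subgroup.mem_zpowers c)

/-- Glauberman replacement for a family inside a subgroup `P` normalized by `B`. -/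
theorem glauberman_replacement_relative [Finite G] {p : ℕ} [hp : Fact p.Prime] {e : ℕ}
    (he : e = 0 ∨ e = p) {P : Subgroup G} {A B : Subgroup G}
    (hA : A ∈ maxAbExp e P) {S : Subgroup G} (hS : IsPGroup p S) (hPS : P ≤ S) (hBS : B ≤ S)
    (hBN : B ≤ Subgroup.normalizer (P : Set G)) (hcP : ∀ x ∈ B, ∀ y ∈ B, ⁅x, y⁆ ∈ P)
    (hAB : A ≤ Subgroup.normalizer (B : Set G))
    (hB' : ∀ x ∈ B, ∀ y ∈ B, ∀ a ∈ A, a * ⁅x, y⁆ = ⁅x, y⁆ * a)
    (hB2 : ∀ x ∈ B, ∀ y ∈ B, ∀ z ∈ B, z * ⁅x, y⁆ = ⁅x, y⁆ * z)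
    (hn : ¬ B ≤ Subgroup.normalizer (A : Set G))
    (hodd : p ≠ 2 ∨ ((∀ x ∈ B, ∀ y ∈ B, Commute x y) ∧ ∀ x ∈ B, x ^ e = 1)) :
    ∃ A' ∈ maxAbExp e P, A ⊓ B < A' ⊓ B ∧ A' ≤ Subgroup.normalizer (A : Set G) := by
  obtain ⟨hAP, ⟨hAc, hAe⟩, hmax⟩ := id hA
  have hAcomm : ∀ x ∈ A, ∀ y ∈ A, Commute x y := fun x hx y hy =>
    congrArg Subtype.val (mul_comm' (⟨x, hx⟩ : A) ⟨y, hy⟩)
  set N := B ⊓ Subgroup.normalizer (A : Set G) with hN
  have hcN : ∀ x ∈ B, ∀ y ∈ B, ⁅x, y⁆ ∈ N := fun x hx y hy =>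
    Subgroup.mem_inf.mpr ⟨mul_mem (mul_mem (mul_mem hx hy) (inv_mem hx)) (inv_mem hy),
      Subgroup.centralizer_le_normalizer _ fun a ha => hB' x hx y hy a ha⟩
  have hNB : ∀ y ∈ B, ∀ n ∈ N, y * n * y⁻¹ ∈ N := fun y hy n hn' => by
    rw [show y * n * y⁻¹ = ⁅y, n⁆ * n by rw [commutatorElement_def]; group]
    exact mul_mem (hcN y hy n hn'.1) hn'
  -- an element of `B` outside `N` whose commutators with `A` lie in `N`
  have hAN : A ≤ Subgroup.normalizer (N : Set G) :=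
    Coprime.le_normalizer_inf_of_le hAB (A.le_normalizer.trans
      (Subgroup.normalizer (A : Set G)).le_normalizer)
  set H := A ⊔ N with hH
  have hHn : H ≤ Subgroup.normalizer (A : Set G) := sup_le Subgroup.le_normalizer inf_le_right
  obtain ⟨y, hyB, hyN, hyH⟩ : ∃ y ∈ B, y ∉ N ∧ ∀ a ∈ A, y⁻¹ * (a * y * a⁻¹) ∈ N := by
    have hne : ¬ B ≤ N := fun h => hn (h.trans inf_le_right)
    have hAN' : A ≤ Subgroup.normalizer ((A ⊔ B : Subgroup G) : Set G) :=
      le_sup_left.trans Subgroup.le_normalizer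
    have hAlt : A ⊔ N < A ⊔ B := by
      refine lt_of_le_of_ne (sup_le_sup_left inf_le_left A) fun heq => hn ?_
      exact le_trans le_sup_right (heq.ge.trans hHn)
    have hlt := lt_inf_normalizer (hS.to_le (sup_le (hAP.trans hPS) hBS)) hAlt
    obtain ⟨g, hg, hgH⟩ := SetLike.exists_of_lt hlt
    obtain ⟨a₀, ha₀, y, hy, rfl⟩ : ∃ a ∈ A, ∃ y ∈ B, a * y = g := by
      obtain ⟨b, hb, a, ha, hba⟩ := exists_mul_of_mem_sup hAB
        (show g⁻¹ ∈ B ⊔ A from inv_mem (sup_comm A B ▸ hg.1))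
      exact ⟨a⁻¹, inv_mem ha, b⁻¹, inv_mem hb, by rw [← mul_inv_rev, hba, inv_inv]⟩
    have hyn : y ∈ Subgroup.normalizer (H : Set G) := by
      have := mul_mem (inv_mem (H.le_normalizer (Subgroup.mem_sup_left ha₀))) hg.2
      rwa [inv_mul_cancel_left] at this
    refine ⟨y, hy, fun h => hgH (mul_mem (Subgroup.mem_sup_left ha₀) (Subgroup.mem_sup_right h)),
      fun a ha => ?_⟩
    have h1 : y⁻¹ * a * y * a⁻¹ ∈ H := mul_mem
      ((Subgroup.mem_normalizer_iff''.mp hyn a).mp (Subgroup.mem_sup_left ha))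
      (inv_mem (Subgroup.mem_sup_left ha))
    rw [show y⁻¹ * (a * y * a⁻¹) = y⁻¹ * a * y * a⁻¹ by group]
    refine Subgroup.mem_inf.mpr ⟨?_, hHn h1⟩
    rw [show y⁻¹ * a * y * a⁻¹ = y⁻¹ * (a * y * a⁻¹) by group]
    exact mul_mem (inv_mem hy) ((Subgroup.mem_normalizer_iff.mp (hAB ha) y).mp hy)
  -- `u a = a^y a⁻¹`
  set c : G →* G := (MulAut.conj y⁻¹).toMonoidHom with hc
  have hcapp : ∀ g, c g = y⁻¹ * g * y := fun g => by simp [hc]
  set A₁ := A.map c with hA₁
  have hA₁c : ∀ x ∈ A₁, ∀ z ∈ A₁, Commute x z := by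
    rintro _ ⟨a, ha, rfl⟩ _ ⟨b, hb, rfl⟩
    exact (hAcomm a ha b hb).map c
  have hu : ∀ a ∈ A, c a * a⁻¹ ∈ N := fun a ha => by
    rw [hcapp, show y⁻¹ * a * y * a⁻¹ = y⁻¹ * (a * y * a⁻¹) by group]
    exact hyH a ha
  have hA₁H : A₁ ≤ H := by
    rintro _ ⟨a, ha, rfl⟩
    have := mul_mem (Subgroup.mem_sup_right (S := A) (hu a ha)) (Subgroup.mem_sup_left ha)
    rwa [inv_mul_cancel_right] at this
  have hA₁n : A₁ ≤ Subgroup.normalizer (A : Set G) := hA₁H.trans hHn
  have hcN' : ∀ n ∈ N, c n ∈ N := fun n hn' => by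
    rw [hcapp]; simpa using hNB y⁻¹ (inv_mem hyB) n hn'
  have hAn₁ : A ≤ Subgroup.normalizer (A₁ : Set G) := by
    intro a ha
    have h0 : y * a * y⁻¹ * a⁻¹ = y * (y⁻¹ * (a * y * a⁻¹))⁻¹ * y⁻¹ := by group
    have h1 : y * a * y⁻¹ ∈ Subgroup.normalizer (A : Set G) := by
      have h2 : y * a * y⁻¹ * a⁻¹ ∈ N := h0 ▸ hNB y hyB _ (inv_mem (hyH a ha))
      have := mul_mem h2.2 (Subgroup.le_normalizer ha)
      rwa [inv_mul_cancel_right] at this
    have h3 := Subgroup.le_normalizer_map c ⟨_, h1, rfl⟩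
    rwa [show c (y * a * y⁻¹) = a by rw [hcapp]; group] at h3
  have hcentral : ∀ x ∈ A, ∀ z ∈ A₁, ⁅x, z⁆ ∈ A ∧ ⁅x, z⁆ ∈ A₁ := fun x hx z hz => by
    refine ⟨?_, ?_⟩
    · rw [show ⁅x, z⁆ = x * (z * x⁻¹ * z⁻¹) by rw [commutatorElement_def]; group]
      exact mul_mem hx ((Subgroup.mem_normalizer_iff.mp (hA₁n hz) _).mp (inv_mem hx))
    · rw [show ⁅x, z⁆ = (x * z * x⁻¹) * z⁻¹ by rw [commutatorElement_def]]
      exact mul_mem ((Subgroup.mem_normalizer_iff.mp (hAn₁ hx) _).mp hz) (inv_mem hz)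
  set Z := A ⊓ A₁ with hZ
  have hZA : ∀ z ∈ Z, ∀ a ∈ A, Commute z a := fun z hz a ha => hAcomm z hz.1 a ha
  have hZA₁ : ∀ z ∈ Z, ∀ a ∈ A₁, Commute z a := fun z hz a ha => hA₁c z hz.2 a ha
  have hZu : ∀ z ∈ Z, ∀ a ∈ A, Commute z (c a * a⁻¹) := fun z hz a ha =>
    (hZA₁ z hz _ ⟨a, ha, rfl⟩).mul_right (hZA z hz a ha).inv_right
  have hZc : ∀ x ∈ A, ∀ z ∈ A₁, ⁅x, z⁆ ∈ Z := fun x hx z hz => hcentral x hx z hz
  -- the elements `u a` commute
  have hucomm : ∀ a ∈ A, ∀ b ∈ A, Commute (c a * a⁻¹) (c b * b⁻¹) := by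
    intro a ha b hb
    set u := c a * a⁻¹ with hu_def
    set v := c b * b⁻¹ with hv_def
    have hca : c a = u * a := by rw [hu_def, inv_mul_cancel_right]
    have hcb : c b = v * b := by rw [hv_def, inv_mul_cancel_right]
    have huB : u ∈ B := (hu a ha).1
    have hvB : v ∈ B := (hu b hb).1
    set s := ⁅a, v⁆ with hs
    set t := ⁅b, u⁆ with ht
    have hva : ⁅a, c b⁆ = s := by
      rw [hs, hcb, commutatorElement_def, commutatorElement_def, mul_inv_rev,
        show a * (v * b) * a⁻¹ * (b⁻¹ * v⁻¹) = a * v * (b * a⁻¹) * b⁻¹ * v⁻¹ by group,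
        (hAcomm b hb a ha).inv_right.eq]
      group
    have hub : ⁅b, c a⁆ = t := by
      rw [ht, hca, commutatorElement_def, commutatorElement_def, mul_inv_rev,
        show b * (u * a) * b⁻¹ * (a⁻¹ * u⁻¹) = b * u * (a * b⁻¹) * a⁻¹ * u⁻¹ by group,
        (hAcomm a ha b hb).inv_right.eq]
      group
    have hsZ : s ∈ Z := hva ▸ hZc a ha _ ⟨b, hb, rfl⟩
    have htZ : t ∈ Z := hub ▸ hZc b hb _ ⟨a, ha, rfl⟩
    have hsa := (hZA s hsZ a ha)
    have htb := (hZA t htZ b hb)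
    have hsv : Commute s v := hZu s hsZ b hb
    have htu : Commute t u := hZu t htZ a ha
    have hsu : Commute s u := hZu s hsZ a ha
    have htv : Commute t v := hZu t htZ b hb
    have hsb := (hZA s hsZ b hb)
    have hta := (hZA t htZ a ha)
    set k := ⁅u, v⁆ with hk
    have hkA : ∀ x ∈ A, Commute k x := fun x hx => (hB' u huB v hvB x hx).symm
    have hkB : ∀ x ∈ B, Commute k x := fun x hx => (hB2 u huB v hvB x hx).symm
    have hst : Commute s t := hZA s hsZ t htZ.1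
    have hks : Commute k s := hkA s hsZ.1
    have hkt : Commute k t := hkA t htZ.1
    have hav : a * v = s * v * a := by rw [hs, commutatorElement_def]; group
    have hbu : b * u = t * u * b := by rw [ht, commutatorElement_def]; group
    have huv : u * v = k * v * u := by rw [hk, commutatorElement_def]; group
    have hab : Commute a b := hAcomm a ha b hb
    -- conjugating by `y⁻¹`
    have e1 : s * k = t := by
      have h := ((hAcomm a ha b hb).map c).eq
      rw [hca, hcb] at h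
      have hl : u * a * (v * b) = s * k * (v * u * (a * b)) := by
        calc u * a * (v * b) = u * (a * v) * b := by group
          _ = u * s * (v * a * b) := by rw [hav]; group
          _ = s * (u * v) * (a * b) := by rw [← hsu.eq]; group
          _ = _ := by rw [huv]; group
      have hr : v * b * (u * a) = t * (v * u * (a * b)) := by
        calc v * b * (u * a) = v * (b * u) * a := by group
          _ = v * t * (u * (b * a)) := by rw [hbu]; group
          _ = _ := by rw [← htv.eq, hab.eq]; group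
      rw [hl, hr] at h
      exact mul_right_cancel h
    -- conjugating by `y`
    have e2 : t * k = s := by
      set c' : G →* G := (MulAut.conj y).toMonoidHom with hc'
      have hc'app : ∀ g, c' g = y * g * y⁻¹ := fun g => by simp [hc']
      set ea := ⁅y, u⁻¹⁆ with hea
      set eb := ⁅y, v⁻¹⁆ with heb
      have hca' : c' a = ea * (u⁻¹ * a) := by
        rw [hc'app, hea, commutatorElement_def, hu_def, hcapp]; group
      have hcb' : c' b = eb * (v⁻¹ * b) := by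
        rw [hc'app, heb, commutatorElement_def, hv_def, hcapp]; group
      have heA : ∀ x ∈ A, Commute ea x ∧ Commute eb x := fun x hx =>
        ⟨(hB' y hyB _ (inv_mem huB) x hx).symm, (hB' y hyB _ (inv_mem hvB) x hx).symm⟩
      have heB : ∀ x ∈ B, Commute ea x ∧ Commute eb x := fun x hx =>
        ⟨(hB2 y hyB _ (inv_mem huB) x hx).symm, (hB2 y hyB _ (inv_mem hvB) x hx).symm⟩
      have heb' : eb ∈ B := (hcN y hyB _ (inv_mem hvB)).1
      have hee : Commute ea eb := (heB eb heb').1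
      have h := ((hAcomm a ha b hb).map c').eq
      rw [hca', hcb'] at h
      have c1 : Commute (u⁻¹ * a) eb :=
        (((heB u huB).2).symm.inv_left).mul_left ((heA a ha).2).symm
      have c2 : Commute (v⁻¹ * b) ea :=
        (((heB v hvB).1).symm.inv_left).mul_left ((heA b hb).1).symm
      have h' : u⁻¹ * a * (v⁻¹ * b) = v⁻¹ * b * (u⁻¹ * a) := by
        have hl : ea * (u⁻¹ * a) * (eb * (v⁻¹ * b)) = ea * eb * (u⁻¹ * a * (v⁻¹ * b)) := by
          rw [mul_assoc ea, ← mul_assoc (u⁻¹ * a), c1.eq]; group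
        have hr : eb * (v⁻¹ * b) * (ea * (u⁻¹ * a)) = ea * eb * (v⁻¹ * b * (u⁻¹ * a)) := by
          rw [mul_assoc eb, ← mul_assoc (v⁻¹ * b), c2.eq, hee.eq]; group
        rw [hl, hr] at h
        exact mul_left_cancel h
      have hav' : a * v⁻¹ = v⁻¹ * a * s⁻¹ := by
        have : v * a = s⁻¹ * (a * v) := by rw [hav]; group
        calc a * v⁻¹ = v⁻¹ * (v * a) * v⁻¹ := by group
          _ = v⁻¹ * s⁻¹ * a := by rw [this]; group
          _ = _ := by rw [mul_assoc, (hsa.inv_left).eq]; group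
      have hbu' : b * u⁻¹ = u⁻¹ * b * t⁻¹ := by
        have : u * b = t⁻¹ * (b * u) := by rw [hbu]; group
        calc b * u⁻¹ = u⁻¹ * (u * b) * u⁻¹ := by group
          _ = u⁻¹ * t⁻¹ * b := by rw [this]; group
          _ = _ := by rw [mul_assoc, (htb.inv_left).eq]; group
      have huv' : u⁻¹ * v⁻¹ = v⁻¹ * u⁻¹ * k := by
        rw [hk, commutatorElement_def]
        have := (hkB (u⁻¹ * v⁻¹) (mul_mem (inv_mem huB) (inv_mem hvB))).eq
        rw [hk, commutatorElement_def] at this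
        calc u⁻¹ * v⁻¹ = v⁻¹ * u⁻¹ * (u * v * u⁻¹ * v⁻¹) := by group
          _ = _ := rfl
      have hl2 : u⁻¹ * a * (v⁻¹ * b) = v⁻¹ * u⁻¹ * (a * b) * (k * s⁻¹) := by
        calc u⁻¹ * a * (v⁻¹ * b) = u⁻¹ * (a * v⁻¹) * b := by group
          _ = u⁻¹ * v⁻¹ * a * (s⁻¹ * b) := by rw [hav']; group
          _ = u⁻¹ * v⁻¹ * (a * b) * s⁻¹ := by rw [hsb.inv_left.eq]; group
          _ = v⁻¹ * u⁻¹ * (k * (a * b)) * s⁻¹ := by rw [huv']; group
          _ = _ := by rw [((hkA a ha).mul_right (hkA b hb)).eq]; group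
      have hr2 : v⁻¹ * b * (u⁻¹ * a) = v⁻¹ * u⁻¹ * (a * b) * t⁻¹ := by
        calc v⁻¹ * b * (u⁻¹ * a) = v⁻¹ * (b * u⁻¹) * a := by group
          _ = v⁻¹ * u⁻¹ * b * (t⁻¹ * a) := by rw [hbu']; group
          _ = v⁻¹ * u⁻¹ * (b * a) * t⁻¹ := by rw [hta.inv_left.eq]; group
          _ = _ := by rw [hab.eq]
      rw [hl2, hr2] at h'
      have h2 := mul_left_cancel h'
      rw [mul_inv_eq_iff_eq_mul, eq_inv_mul_iff_mul_eq] at h2
      exact h2
    have hk2 : k * k = 1 := by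
      have h4 : s * (k * k) = s * 1 := by rw [← mul_assoc, e1, e2, mul_one]
      exact mul_left_cancel h4
    have hk1 : k = 1 := by
      rcases hodd with hp2 | ⟨hBab, -⟩
      swap
      · exact commutatorElement_eq_one_iff_commute.mpr (hBab u huB v hvB)
      obtain ⟨i, hi⟩ := hS.to_le hBS ⟨k, (hcN u huB v hvB).1⟩
      have hi' : k ^ p ^ i = 1 := congrArg Subtype.val hi
      rw [← orderOf_eq_one_iff]
      refine Nat.eq_one_of_dvd_coprimes (a := 2) (b := p ^ i)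
        (Nat.Coprime.pow_right i ((Nat.coprime_primes Nat.prime_two hp.out).mpr hp2.symm)) ?_
        (orderOf_dvd_of_pow_eq_one hi')
      exact orderOf_dvd_of_pow_eq_one (by rw [pow_two, hk2])
    exact commutatorElement_eq_one_iff_commute.mp hk1
  -- the new subgroup
  set K := Subgroup.closure ((fun a => c a * a⁻¹) '' (A : Set G)) with hK
  set A' := Z ⊔ K with hA'
  have hKN : K ≤ N := (Subgroup.closure_le _).mpr (by rintro _ ⟨a, ha, rfl⟩; exact hu a ha)
  have hA'P : A' ≤ P := sup_le (inf_le_left.trans hAP) ((Subgroup.closure_le _).mpr (by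
    rintro _ ⟨a, ha, rfl⟩
    refine mul_mem ?_ (inv_mem (hAP ha))
    rw [hcapp]
    exact (Subgroup.mem_normalizer_iff''.mp (hBN hyB) a).mp (hAP ha)))
  set gens := (Z : Set G) ∪ (fun a => c a * a⁻¹) '' (A : Set G) with hgens
  have hA'cl : A' = Subgroup.closure gens := by
    rw [hA', hgens, hK, Subgroup.closure_union, Subgroup.closure_eq]
  have hgc : ∀ x ∈ gens, ∀ z ∈ gens, x * z = z * x := by
    rintro x (hx | ⟨a, ha, rfl⟩) z (hz | ⟨b, hb, rfl⟩)
    · exact hZA x hx z hz.1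
    · exact hZu x hx b hb
    · exact (hZu z hz a ha).symm
    · exact hucomm a ha b hb
  have hA'c : IsMulCommutative A' := hA'cl ▸ Subgroup.isMulCommutative_closure hgc
  have hA'e : ∀ x ∈ A', x ^ e = 1 := by
    rcases he with rfl | he'
    · exact fun x _ => pow_zero x
    rw [he'] at hAe ⊢
    let Ω : Subgroup A' :=
      { carrier := {x | x ^ p = 1}
        one_mem' := one_pow p
        mul_mem' := fun {x z} hx hz => by
          show (x * z) ^ p = 1
          rw [Commute.mul_pow (mul_comm' x z), hx, hz, one_mul]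
        inv_mem' := fun {x} hx => by show x⁻¹ ^ p = 1; rw [inv_pow, hx, inv_one] }
    have hgen : ∀ x ∈ gens, x ^ p = 1 := by
      rintro x (hx | ⟨a, ha, rfl⟩)
      · exact hAe x hx.1
      · rcases hodd with hp2 | ⟨-, hBe⟩
        swap
        · rw [← he']
          exact hBe _ (hu a ha).1
        have hq : ⁅a⁻¹, c a⁆ ∈ Z := hZc _ (inv_mem ha) _ ⟨a, ha, rfl⟩
        have hqx : Commute ⁅a⁻¹, c a⁆ (c a) := hZA₁ _ hq _ ⟨a, ha, rfl⟩
        have hqy : Commute ⁅a⁻¹, c a⁆ a⁻¹ := hZA _ hq _ (inv_mem ha)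
        show (c a * a⁻¹) ^ p = 1
        rw [mul_pow_of_central hqx hqy, ← map_pow, hAe a ha, map_one, hAe _ (inv_mem ha), one_mul,
          one_mul]
        obtain ⟨d, hd⟩ : p ∣ p.choose 2 :=
          hp.out.dvd_choose_self (by norm_num) (lt_of_le_of_ne hp.out.two_le hp2.symm)
        rw [hd, pow_mul, hAe _ hq.1, one_pow]
    intro x hx
    have hle : A' ≤ Ω.map A'.subtype := by
      conv_lhs => rw [hA'cl]
      rw [Subgroup.closure_le]
      intro z hz
      exact ⟨⟨z, hA'cl.ge (Subgroup.subset_closure hz)⟩, Subtype.ext (hgen z hz), rfl⟩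
    obtain ⟨w, hw, rfl⟩ := hle hx
    exact congrArg Subtype.val hw
  -- it is as large as `A`
  have hcardA : Nat.card A ≤ Nat.card A' := by
    have hZA' : Z ≤ A' := le_sup_left
    have hcinj : Function.Injective c := (MulAut.conj y⁻¹).injective
    set Z₀ := A ⊓ A.comap c with hZ₀
    have hcardZ : Nat.card Z₀ = Nat.card Z := by
      have : Z₀.map c = Z := by
        ext x
        constructor
        · rintro ⟨a, ⟨ha, hca⟩, rfl⟩; exact ⟨hca, a, ha, rfl⟩
        · rintro ⟨hx, a, ha, rfl⟩; exact ⟨a, ⟨ha, hx⟩, rfl⟩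
      rw [← this, Subgroup.card_map_of_injective hcinj]
    let f : A → A' := fun a => ⟨c a * (a : G)⁻¹,
      Subgroup.mem_sup_right (Subgroup.subset_closure ⟨a, a.2, rfl⟩)⟩
    have hf : ∀ a b : A, (f a : A' ⧸ Z.subgroupOf A') = (f b : A' ⧸ _) →
        (a : A ⧸ Z₀.subgroupOf A) = (b : A ⧸ Z₀.subgroupOf A) := by
      intro a b h
      rw [QuotientGroup.eq, Subgroup.mem_subgroupOf] at h
      rw [QuotientGroup.eq, Subgroup.mem_subgroupOf]
      refine ⟨(a⁻¹ * b).2, ?_⟩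
      have h' : (c a * (a : G)⁻¹)⁻¹ * (c b * (b : G)⁻¹) ∈ A := h.1
      show c ((a : G)⁻¹ * b) ∈ A
      have := mul_mem (mul_mem (inv_mem a.2) h') b.2
      rw [map_mul, map_inv]
      convert this using 1
      group
    have hle : Nat.card (A ⧸ Z₀.subgroupOf A) ≤ Nat.card (A' ⧸ Z.subgroupOf A') :=
      Nat.card_le_card_of_injective (fun q => ((f q.out : A') : A' ⧸ Z.subgroupOf A'))
        fun q r h => by rw [← q.out_eq, ← r.out_eq]; exact hf _ _ h
    have h1 := Subgroup.card_eq_card_quotient_mul_card_subgroup (Z₀.subgroupOf A)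
    have h2 := Subgroup.card_eq_card_quotient_mul_card_subgroup (Z.subgroupOf A')
    rw [Nat.card_congr (Subgroup.subgroupOfEquivOfLe (inf_le_left : Z₀ ≤ A)).toEquiv] at h1
    rw [Nat.card_congr (Subgroup.subgroupOfEquivOfLe hZA').toEquiv] at h2
    rw [h1, h2, hcardZ]
    exact Nat.mul_le_mul_right _ hle
  refine ⟨A', ⟨hA'P, ⟨hA'c, hA'e⟩, fun C hC hCe => (hmax C hC hCe).trans hcardA⟩, ?_,
    sup_le (inf_le_left.trans Subgroup.le_normalizer) (hKN.trans inf_le_right)⟩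
  refine lt_of_le_of_ne (le_inf ?_ inf_le_right) ?_
  · intro x hx
    refine Subgroup.mem_sup_left ⟨hx.1, ?_⟩
    have hxy : ⁅x, y⁆ ∈ A := by
      refine mem_of_commute hA (hcP x hx.2 y hyB) ?_ (hB' x hx.2 y hyB)
      have hcen : Commute ⁅x, y⁆ x := (hB2 x hx.2 y hyB x hx.2).symm
      have hpw : ∀ n : ℕ, ⁅x ^ n, y⁆ = ⁅x, y⁆ ^ n := fun n => by
        induction n with
        | zero => simp [commutatorElement_def]
        | succ n ih =>
          have : ⁅x ^ (n + 1), y⁆ = x * ⁅x ^ n, y⁆ * x⁻¹ * ⁅x, y⁆ := by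
            simp only [commutatorElement_def, pow_succ']; group
          rw [this, ih, ← (hcen.pow_left n).eq, mul_inv_cancel_right, ← pow_succ]
      rw [← hpw, hAe x hx.1]
      simp [commutatorElement_def]
    have hxy' : ⁅x, y⁆ ∈ A₁ := ⟨⁅x, y⁆, hxy, by
      rw [hcapp, mul_assoc, ← hB2 x hx.2 y hyB y hyB, inv_mul_cancel_left]⟩
    have hmem := mul_mem (inv_mem hxy') (show c x ∈ A₁ from ⟨x, hx.1, rfl⟩)
    have hcom : ⁅x, y⁆⁻¹ * c x = x := by
      have h7 := hB2 x hx.2 y hyB y hyB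
      have h8 : c x = y⁻¹ * (⁅x, y⁆ * y) * x := by
        rw [hcapp, commutatorElement_def]; group
      rw [h8, ← h7, inv_mul_cancel_left, inv_mul_cancel_left]
    rwa [hcom] at hmem
  · intro heq
    refine hyN (Subgroup.mem_inf.mpr ⟨hyB, ?_⟩)
    rw [Coprime.mem_normalizer_iff_conj_smul]
    have hA₁A : A₁ ≤ A := by
      rintro _ ⟨a, ha, rfl⟩
      have h1 : c a * a⁻¹ ∈ A' ⊓ B :=
        ⟨Subgroup.mem_sup_right (Subgroup.subset_closure ⟨a, ha, rfl⟩), (hu a ha).1⟩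
      rw [← heq] at h1
      have := mul_mem h1.1 ha
      rwa [inv_mul_cancel_right] at this
    have heq' : A₁ = A := Subgroup.eq_of_le_of_card_ge hA₁A
      (by rw [hA₁, Subgroup.card_map_of_injective (MulAut.conj y⁻¹).injective])
    have h8 : MulAut.conj y⁻¹ • A = A := heq'
    calc MulAut.conj y • A = MulAut.conj y • (MulAut.conj y⁻¹ • A) := by rw [h8]
      _ = A := by rw [← mul_smul, ← map_mul, mul_inv_cancel, map_one, one_smul]

/-- **Glauberman replacement**; for `B` abelian of exponent dividing `e` this is Thompson's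
replacement and needs no parity assumption. -/
theorem glauberman_replacement' [Finite G] {p : ℕ} [hp : Fact p.Prime] {e : ℕ}
    (he : e = 0 ∨ e = p) {P : Subgroup G} (hP : IsPGroup p P) {A B : Subgroup G}
    (hA : A ∈ maxAbExp e P) (hBP : B ≤ P) (hAB : A ≤ Subgroup.normalizer (B : Set G))
    (hB' : ∀ x ∈ B, ∀ y ∈ B, ∀ a ∈ A, a * ⁅x, y⁆ = ⁅x, y⁆ * a)
    (hB2 : ∀ x ∈ B, ∀ y ∈ B, ∀ z ∈ B, z * ⁅x, y⁆ = ⁅x, y⁆ * z)
    (hn : ¬ B ≤ Subgroup.normalizer (A : Set G))
    (hodd : p ≠ 2 ∨ ((∀ x ∈ B, ∀ y ∈ B, Commute x y) ∧ ∀ x ∈ B, x ^ e = 1)) :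
    ∃ A' ∈ maxAbExp e P, A ⊓ B < A' ⊓ B ∧ A' ≤ Subgroup.normalizer (A : Set G) :=
  glauberman_replacement_relative he hA hP le_rfl hBP (hBP.trans Subgroup.le_normalizer)
    (fun x hx y hy => mul_mem (mul_mem (mul_mem (hBP hx) (hBP hy)) (inv_mem (hBP hx)))
      (inv_mem (hBP hy))) hAB hB' hB2 hn hodd

/-- Glauberman replacement for odd `p`. -/
theorem glauberman_replacement [Finite G] {p : ℕ} [Fact p.Prime] (hp2 : p ≠ 2) {e : ℕ}
    (he : e = 0 ∨ e = p) {P : Subgroup G} (hP : IsPGroup p P) {A B : Subgroup G}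
    (hA : A ∈ maxAbExp e P) (hBP : B ≤ P) (hAB : A ≤ Subgroup.normalizer (B : Set G))
    (hB' : ∀ x ∈ B, ∀ y ∈ B, ∀ a ∈ A, a * ⁅x, y⁆ = ⁅x, y⁆ * a)
    (hB2 : ∀ x ∈ B, ∀ y ∈ B, ∀ z ∈ B, z * ⁅x, y⁆ = ⁅x, y⁆ * z)
    (hn : ¬ B ≤ Subgroup.normalizer (A : Set G)) :
    ∃ A' ∈ maxAbExp e P, A ⊓ B < A' ⊓ B ∧ A' ≤ Subgroup.normalizer (A : Set G) :=
  glauberman_replacement' he hP hA hBP hAB hB' hB2 hn (Or.inl hp2)

end CfsgLib.ZJ
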