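import Mathlib
import Cfsg.Agent.Lib.ZJ.Replacement
import Cfsg.Agent.Lib.Fitting.Basic
import Cfsg.Agent.Lib.Transfer.Basic
import Cfsg.Agent.Lib.OddOmega.Basic

/-!
Glauberman's ZJ theorem. `p` odd, `S` a Sylow `p`-subgroup, every `p`-element of `S` acting
quadratically on a normal `p`-subgroup `W` lies in `opMod p W`, the preimage of
`O_p(G / C(W))`. Then `B ⊓ X` is normal for every normal `p`-subgroup `B` and every subgroup `X` of
`Z(J(S))` normalized by `N(J(S))`; under `C(O_p) ≤ O_p` such an `X` is characteristic.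
-/

set_option autoImplicit false
set_option linter.style.haveILetI false

open scoped commutatorElement Pointwise

namespace CfsgLib.ZJ

open CfsgLib.Transfer

variable {G : Type*} [Group G]

/-- The preimage of `O_p(G / C(W))`. -/
def opMod (p : ℕ) (W : Subgroup G) [W.Normal] : Subgroup G :=
  (Cfsg.pCore p (G ⧸ Subgroup.centralizer (W : Set G))).comap
    (QuotientGroup.mk' (Subgroup.centralizer (W : Set G)))

theorem mem_opMod {p : ℕ} {W : Subgroup G} [W.Normal] {a : G} :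
    a ∈ opMod p W ↔ (QuotientGroup.mk a : G ⧸ Subgroup.centralizer (W : Set G)) ∈
      Cfsg.pCore p (G ⧸ Subgroup.centralizer (W : Set G)) := Iff.rfl

theorem opMod_normal (p : ℕ) (W : Subgroup G) [W.Normal] : (opMod p W).Normal :=
  (Fitting.pCore_normal p).comap _

theorem centralizer_le_opMod (p : ℕ) (W : Subgroup G) [W.Normal] :
    Subgroup.centralizer (W : Set G) ≤ opMod p W := fun c hc => by
  rw [mem_opMod, (QuotientGroup.eq_one_iff c).mpr hc]
  exact one_mem _

theorem exists_pow_mem_centralizer {p : ℕ} (W : Subgroup G) [W.Normal] {d : G}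
    (hd : d ∈ opMod p W) : ∃ k : ℕ, d ^ p ^ k ∈ Subgroup.centralizer (W : Set G) := by
  obtain ⟨k, hk⟩ := Fitting.pCore_isPGroup p (⟨_, hd⟩ :
    Cfsg.pCore p (G ⧸ Subgroup.centralizer (W : Set G)))
  refine ⟨k, (QuotientGroup.eq_one_iff _).mp ?_⟩
  rw [QuotientGroup.mk_pow]
  exact congrArg Subtype.val hk

/-- A normal subgroup that is a `p`-group modulo `C(B)` lies in `opMod p B`. -/
theorem le_opMod {p : ℕ} (B D : Subgroup G) [B.Normal] [D.Normal]
    (h : ∀ d ∈ D, ∃ k : ℕ, d ^ p ^ k ∈ Subgroup.centralizer (B : Set G)) : D ≤ opMod p B := by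
  rw [opMod, ← Subgroup.map_le_iff_le_comap]
  refine Fitting.le_pCore (Subgroup.Normal.map inferInstance _ (QuotientGroup.mk'_surjective _)) ?_
  rintro ⟨_, d, hd, rfl⟩
  obtain ⟨k, hk⟩ := h d hd
  refine ⟨k, Subtype.ext ?_⟩
  show (QuotientGroup.mk' _ d) ^ p ^ k = 1
  rw [← map_pow, QuotientGroup.mk'_apply, QuotientGroup.eq_one_iff]
  exact hk

/-- `p`-stability at `S`. -/
def StableAt (p : ℕ) (S : Subgroup G) : Prop :=
  ∀ (W : Subgroup G) [W.Normal], IsPGroup p W → ∀ a ∈ S,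
    ⁅⁅W, Subgroup.zpowers a⁆, Subgroup.zpowers a⁆ = ⊥ → a ∈ opMod p W

/-- Elements of an abelian subgroup normalized by `W` act quadratically on `W`. -/
theorem quadratic_of_normalizes {W A : Subgroup G}
    (hA : ∀ x ∈ A, ∀ y ∈ A, x * y = y * x) (hW : W ≤ Subgroup.normalizer (A : Set G))
    {a : G} (ha : a ∈ A) : ⁅⁅W, Subgroup.zpowers a⁆, Subgroup.zpowers a⁆ = ⊥ := by
  have hz : Subgroup.zpowers a ≤ A := Subgroup.zpowers_le.mpr ha
  have h1 : ⁅W, Subgroup.zpowers a⁆ ≤ A := by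
    refine Subgroup.commutator_le.mpr fun w hw z hzm => ?_
    rw [commutatorElement_def]
    exact mul_mem ((Subgroup.mem_normalizer_iff.mp (hW hw) z).mp (hz hzm)) (inv_mem (hz hzm))
  rw [eq_bot_iff]
  refine (Subgroup.commutator_mono h1 hz).trans (Subgroup.commutator_le.mpr fun x hx y hy => ?_)
  rw [Subgroup.mem_bot, commutatorElement_eq_one_iff_commute]
  exact hA x hx y hy

variable [Finite G] {p : ℕ} [hp : Fact p.Prime] {e : ℕ}

omit [Finite G] hp in
theorem sylow_le_normalizer_of_thompsonJ (S : Sylow p G) {X : Subgroup G}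
    (hXN : Subgroup.normalizer (thompsonJ e (S : Subgroup G) : Set G)
      ≤ Subgroup.normalizer (X : Set G)) :
    (S : Subgroup G) ≤ Subgroup.normalizer (X : Set G) :=
  ((S : Subgroup G).le_normalizer.trans (normalizer_le_normalizer_thompsonJ e _)).trans hXN

omit [Finite G] hp in
theorem normal_le_sylow {B : Subgroup G} [B.Normal] (hB : IsPGroup p B) (S : Sylow p G) :
    B ≤ (S : Subgroup G) :=
  le_sup_left.trans (S.3 (hB.to_sup_of_normal_left S.2) le_sup_right).le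

/-- **Glauberman's theorem** for a strongly closed `D₀`; only the elements of the abelian
subgroups of largest order need act stably. -/
theorem inf_normal_closed_of_max (hp2 : p ≠ 2) (he : e = 0 ∨ e = p) (S : Sylow p G)
    {D₀ : Subgroup G} (hDS : D₀ ≤ (S : Subgroup G))
    (hst : ∀ (W : Subgroup G) [W.Normal], IsPGroup p W → ∀ A ∈ maxAbExp e D₀, ∀ a ∈ A,
      ⁅⁅W, Subgroup.zpowers a⁆, Subgroup.zpowers a⁆ = ⊥ → a ∈ opMod p W)
    (hcl : ∀ x ∈ D₀, ∀ g : G, g * x * g⁻¹ ∈ (S : Subgroup G) → g * x * g⁻¹ ∈ D₀) {X : Subgroup G}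
    (hXJ : X ≤ thompsonJ e D₀)
    (hXC : X ≤ Subgroup.centralizer (thompsonJ e D₀ : Set G))
    (hXN : Subgroup.normalizer (thompsonJ e D₀ : Set G) ≤ Subgroup.normalizer (X : Set G)) :
    ∀ (n : ℕ) (B : Subgroup G), Nat.card B = n → B.Normal → IsPGroup p B → (B ⊓ X).Normal := by
  intro n
  induction n using Nat.strong_induction_on with
  | _ n IH =>
  intro B hn hBn hB
  haveI := hBn
  rcases eq_or_ne B ⊥ with rfl | hB1
  · rw [bot_inf_eq]; infer_instance
  have hBS := normal_le_sylow hB S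
  set Z := B ⊓ X with hZ
  set B₁ := Subgroup.normalClosure (Z : Set G) with hB₁
  have hB₁B : B₁ ≤ B := Subgroup.normalClosure_le_normal (inf_le_left : Z ≤ B)
  by_cases hlt : B₁ < B
  · have h : B₁ ⊓ X = Z := le_antisymm (inf_le_inf_right X hB₁B)
      (le_inf Subgroup.le_normalClosure inf_le_right)
    rw [← h]
    exact IH _ (hn ▸ (Set.ncard_lt_ncard hlt (Set.toFinite _))) B₁ rfl Subgroup.normalClosure_normal
      (hB.to_le hB₁B)
  replace hB₁B : B₁ = B := hB₁B.eq_or_lt.resolve_right hlt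
  have hBD : B ≤ D₀ := by
    rw [← hB₁B]
    refine (Subgroup.closure_le _).mpr ?_
    intro w hw
    obtain ⟨z, hz, hconj⟩ := Group.mem_conjugatesOfSet_iff.mp hw
    obtain ⟨h, rfl⟩ := isConj_iff.mp hconj
    exact hcl z (thompsonJ_le e _ (hXJ hz.2)) h (hBS (hBn.conj_mem z hz.1 h))
  have hSX : D₀ ≤ Subgroup.normalizer (X : Set G) :=
    (Subgroup.le_normalizer.trans (normalizer_le_normalizer_thompsonJ e D₀)).trans hXN
  have hgen : ∀ Y : Subgroup G, Y.Normal → Z ≤ Y → B ≤ Y := fun Y hY hZY => by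
    haveI := hY
    rw [← hB₁B]
    exact Subgroup.normalClosure_le_normal hZY
  -- the derived subgroup
  set D := ⁅B, B⁆ with hD
  have hDB : D < B := by
    haveI := hB.isNilpotent
    refine lt_of_le_of_ne (Subgroup.commutator_le_self B) fun h => ?_
    exact (Coprime.commutator_lt_of_isNilpotent le_rfl le_rfl B.le_normalizer hB1).ne h
  haveI hZ₁n : (D ⊓ X).Normal :=
    IH _ (hn ▸ (Set.ncard_lt_ncard hDB (Set.toFinite _))) D rfl inferInstance (hB.to_le hDB.le)
  set Z₁ := D ⊓ X with hZ₁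
  have hZB : ∀ z ∈ Z, ∀ b ∈ B, ⁅z, b⁆ ∈ Z₁ := fun z hz b hb => by
    refine Subgroup.mem_inf.mpr ⟨Subgroup.commutator_mem_commutator hz.1 hb, ?_⟩
    rw [commutatorElement_def, show z * b * z⁻¹ * b⁻¹ = z * (b * z⁻¹ * b⁻¹) by group]
    exact mul_mem hz.2 ((Subgroup.mem_normalizer_iff.mp (hSX (hBD hb)) _).mp (inv_mem hz.2))
  have hBB : ∀ x ∈ B, ∀ y ∈ B, ⁅x, y⁆ ∈ Z₁ := by
    set π := QuotientGroup.mk' Z₁
    haveI : (B.map π).Normal := Subgroup.Normal.map hBn _ (QuotientGroup.mk'_surjective _)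
    have h : B ≤ (Subgroup.centralizer ((B.map π : Subgroup (G ⧸ Z₁)) : Set (G ⧸ Z₁))).comap π := by
      refine hgen _ (Subgroup.Normal.comap inferInstance π) fun z hz => ?_
      rintro _ ⟨b, hb, rfl⟩
      have h1 : π ⁅z, b⁆ = 1 := (QuotientGroup.eq_one_iff _).mpr (hZB z hz b hb)
      rw [map_commutatorElement, commutatorElement_eq_one_iff_commute] at h1
      exact h1.eq.symm
    intro x hx y hy
    rw [← QuotientGroup.eq_one_iff, ← QuotientGroup.mk'_apply, map_commutatorElement,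
      commutatorElement_eq_one_iff_commute]
    exact (h hx (π y) ⟨y, hy, rfl⟩).symm
  have hXJc : ∀ x ∈ X, ∀ j ∈ thompsonJ e D₀, j * x = x * j := fun x hx j hj =>
    hXC hx j hj
  have hBZ₁ : B ≤ Subgroup.centralizer (Z₁ : Set G) :=
    hgen _ inferInstance fun z hz c hc => hXJc z hz.2 c (hXJ hc.2)
  have hB2 : ∀ x ∈ B, ∀ y ∈ B, ∀ z ∈ B, z * ⁅x, y⁆ = ⁅x, y⁆ * z := fun x hx y hy z hz =>
    (hBZ₁ hz _ (hBB x hx y hy)).symm
  have hB' : ∀ A ∈ maxAbExp e D₀, ∀ x ∈ B, ∀ y ∈ B, ∀ a ∈ A,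
      a * ⁅x, y⁆ = ⁅x, y⁆ * a := fun A hA x hx y hy a ha =>
    hXJc _ (hBB x hx y hy).2 a (le_sSup hA ha)
  -- the largest subgroup acting as a `p`-group
  set L := opMod p B with hL
  haveI hLn : L.Normal := opMod_normal p B
  set C := Subgroup.centralizer (B : Set G) with hC
  set SL := (S : Subgroup G) ⊓ L with hSL
  set DL := D₀ ⊓ L with hDL
  have hSLDL : Subgroup.normalizer (SL : Set G) ≤ Subgroup.normalizer (DL : Set G) := by
    have key : ∀ m ∈ Subgroup.normalizer (SL : Set G), ∀ x ∈ DL, m * x * m⁻¹ ∈ DL := fun m hm x hx => by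
      have h1 := (Subgroup.mem_normalizer_iff.mp hm x).mp
        (Subgroup.mem_inf.mpr ⟨hDS hx.1, hx.2⟩)
      exact Subgroup.mem_inf.mpr ⟨hcl x hx.1 m h1.1, h1.2⟩
    intro m hm
    refine Subgroup.mem_normalizer_iff.mpr fun x => ⟨key m hm x, fun hx => ?_⟩
    simpa [mul_assoc] using key m⁻¹ (inv_mem hm) _ hx
  suffices hG₀ : ∀ g : G, ∃ m ∈ Subgroup.normalizer (SL : Set G), ∃ c ∈ C, m * c = g from by
    have hG : ∀ g : G, ∃ m ∈ Subgroup.normalizer (DL : Set G), ∃ c ∈ C, m * c = g := fun g => by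
      obtain ⟨m, hm, r⟩ := hG₀ g
      exact ⟨m, hSLDL hm, r⟩
    have hZfix : ∀ c ∈ C, ∀ z ∈ Z, c * z * c⁻¹ = z := fun c hc z hz =>
      mul_inv_eq_iff_eq_mul.mpr (hc z hz.1).symm
    by_cases hall : ∀ A ∈ maxAbExp e D₀, A ≤ L
    · have hJ : thompsonJ e D₀ = thompsonJ e DL := by
        unfold thompsonJ
        congr 1
        ext A
        refine ⟨fun hA => ⟨le_inf hA.1 (hall A hA), hA.2.1, fun K hK =>
          hA.2.2 K (hK.trans inf_le_left)⟩, fun hA => ⟨hA.1.trans inf_le_left, hA.2.1, fun K hK hKe => ?_⟩⟩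
        obtain ⟨A₀, hA₀⟩ := thompsonJ_nonempty e D₀
        exact (hA₀.2.2 K hK hKe).trans (hA.2.2 A₀ (le_inf hA₀.1 (hall A₀ hA₀)) hA₀.2.1)
      refine ⟨fun z hz g => ?_⟩
      obtain ⟨m, hm, c, hc, rfl⟩ := hG g
      have hm' : m ∈ Subgroup.normalizer (X : Set G) :=
        hXN (hJ ▸ normalizer_le_normalizer_thompsonJ e DL hm)
      rw [show m * c * z * (m * c)⁻¹ = m * (c * z * c⁻¹) * m⁻¹ by group, hZfix c hc z hz]
      exact Subgroup.mem_inf.mpr ⟨hBn.conj_mem z hz.1 m,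
        (Subgroup.mem_normalizer_iff.mp hm' z).mp hz.2⟩
    exfalso
    push Not at hall
    classical
    haveI := Fintype.ofFinite (Subgroup G)
    obtain ⟨A₁, hA₁, hmax⟩ := Finset.exists_max_image
      (Finset.univ.filter fun A => A ∈ maxAbExp e D₀ ∧ ¬ A ≤ L)
      (fun A => Nat.card ↥(A ⊓ B)) (by
        obtain ⟨A, hA, hAL⟩ := hall
        exact ⟨A, by simp [hA, hAL]⟩)
    simp only [Finset.mem_filter, Finset.mem_univ, true_and] at hA₁ hmax
    obtain ⟨hA₁, hA₁L⟩ := hA₁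
    have hA₁c : ∀ x ∈ A₁, ∀ y ∈ A₁, x * y = y * x := fun x hx y hy => by
      haveI := hA₁.2.1.1
      exact congrArg Subtype.val (mul_comm' (⟨x, hx⟩ : A₁) ⟨y, hy⟩)
    have hBN : ¬ B ≤ Subgroup.normalizer (A₁ : Set G) := fun h => hA₁L fun a ha =>
      hst B hB A₁ hA₁ a ha (quadratic_of_normalizes hA₁c h ha)
    obtain ⟨A₂, hA₂, hlt2, hA₂n⟩ := glauberman_replacement hp2 he (S.2.to_le hDS) hA₁ hBD
      Subgroup.le_normalizer_of_normal (hB' A₁ hA₁) hB2 hBN
    have hA₂L : A₂ ≤ L := by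
      by_contra h
      exact absurd (hmax A₂ ⟨hA₂, h⟩) (not_le.mpr (Set.ncard_lt_ncard hlt2 (Set.toFinite _)))
    have hA₂DL : A₂ ∈ maxAbExp e DL :=
      ⟨le_inf hA₂.1 hA₂L, hA₂.2.1, fun K hK => hA₂.2.2 K (hK.trans inf_le_left)⟩
    set J₁ := thompsonJ e DL with hJ₁
    have hJ₁J : J₁ ≤ thompsonJ e D₀ :=
      sSup_le fun A hA => le_sSup ⟨hA.1.trans inf_le_left, hA.2.1, fun K hK hKe =>
        (hA₂.2.2 K hK hKe).trans (hA.2.2 A₂ hA₂DL.1 hA₂.2.1)⟩
    have hBC : B ≤ Subgroup.centralizer (J₁ : Set G) := by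
      rw [← hB₁B]
      refine (Subgroup.closure_le _).mpr ?_
      intro g hg
      obtain ⟨z, hz, hconj⟩ := Group.mem_conjugatesOfSet_iff.mp hg
      obtain ⟨h, rfl⟩ := isConj_iff.mp hconj
      obtain ⟨m, hm, c, hc, rfl⟩ := hG h
      rw [SetLike.mem_coe, show m * c * z * (m * c)⁻¹ = m * (c * z * c⁻¹) * m⁻¹ by group,
        hZfix c hc z hz]
      have hm' := Coprime.le_normalizer_centralizer (A := Subgroup.normalizer (J₁ : Set G)) le_rfl
        (normalizer_le_normalizer_thompsonJ e DL hm)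
      refine (Subgroup.mem_normalizer_iff.mp hm' z).mp ?_
      exact fun j hj => hXJc z hz.2 j (hJ₁J hj)
    set W := B ⊓ A₂ with hW
    have hWmem : ∀ x, x ∈ W ↔ x ∈ B ∧ x ^ e = 1 := fun x => by
      refine ⟨fun hx => ⟨hx.1, hA₂.2.1.2 x hx.2⟩, fun ⟨hx, hxe⟩ => Subgroup.mem_inf.mpr ⟨hx, ?_⟩⟩
      exact mem_of_commute hA₂ (hBD hx) hxe fun a ha => hBC hx a (le_sSup hA₂DL ha)
    haveI hWn : W.Normal := ⟨fun x hx g => (hWmem _).mpr
      ⟨hBn.conj_mem x ((hWmem x).mp hx).1 g, by rw [conj_pow, ((hWmem x).mp hx).2]; group⟩⟩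
    have hWL : opMod p W ≤ L := by
      haveI := opMod_normal p W
      refine le_opMod B (opMod p W) fun d hd => ?_
      obtain ⟨k, hk⟩ := exists_pow_mem_centralizer W hd
      obtain ⟨i, m, -, -, hco, -⟩ := exists_pow_coprime_part (p := p) (d ^ p ^ k)
      refine ⟨k + i, ?_⟩
      rw [pow_add, pow_mul]
      set c := (d ^ p ^ k) ^ p ^ i with hc'
      have hcW : c ∈ Subgroup.centralizer (W : Set G) := pow_mem hk _
      let φ : MulAut B := MulAut.conjNormal c
      have hφ : φ = 1 := by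
        rcases he with he | he
        · refine MulEquiv.ext fun x => Subtype.ext ?_
          show ((MulAut.conjNormal c x : B) : G) = x
          rw [MulAut.conjNormal_apply]
          exact mul_inv_eq_iff_eq_mul.mpr
            (hcW x ((hWmem x).mpr ⟨x.2, by rw [he, pow_zero]⟩)).symm
        · refine OddOmega.eq_one_of_fixes_omega hp2 hB φ ?_ fun x hx => Subtype.ext ?_
          · intro hdvd
            exact (hp.out.coprime_iff_not_dvd.mp hco.symm)
              (hdvd.trans (orderOf_map_dvd MulAut.conjNormal c))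
          · show ((MulAut.conjNormal c x : B) : G) = x
            rw [MulAut.conjNormal_apply]
            refine mul_inv_eq_iff_eq_mul.mpr (hcW x ((hWmem x).mpr ⟨x.2, ?_⟩)).symm
            rw [he]
            exact congrArg Subtype.val hx
      intro x hx
      have h1 : ((φ ⟨x, hx⟩ : B) : G) = x := by rw [hφ]; rfl
      rw [show φ = MulAut.conjNormal c from rfl, MulAut.conjNormal_apply] at h1
      exact (mul_inv_eq_iff_eq_mul.mp h1).symm
    refine hA₁L fun a ha => hWL (hst W (hB.to_le inf_le_left) A₁ hA₁ a ha ?_)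
    exact quadratic_of_normalizes hA₁c (inf_le_right.trans hA₂n) ha
  let P : Sylow p L := IsPGroup.toSylow (S.2.comap_of_injective L.subtype L.subtype_injective)
    fun h => S.not_dvd_index (h.trans (relIndex_dvd_index_of_normal (S : Subgroup G) L))
  have hPmap : (P : Subgroup L).map L.subtype = SL := by
    rw [hSL]
    exact Subgroup.subgroupOf_map_subtype (S : Subgroup G) L
  have hfr := Sylow.normalizer_sup_eq_top P
  rw [hPmap] at hfr
  have hLC : L = SL ⊔ C := by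
    refine le_antisymm ?_ (sup_le inf_le_right (centralizer_le_opMod p B))
    have hq : (P : Subgroup L) ⊔ C.subgroupOf L = ⊤ := by
      refine Transfer.sylow_sup_eq_top_of_isPGroup_quotient P _ fun x => ?_
      obtain ⟨d, rfl⟩ := QuotientGroup.mk'_surjective (C.subgroupOf L) x
      obtain ⟨k, hk⟩ := exists_pow_mem_centralizer B d.2
      refine ⟨k, ?_⟩
      rw [← map_pow, QuotientGroup.mk'_apply, QuotientGroup.eq_one_iff,
        Subgroup.mem_subgroupOf]
      exact hk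
    have h2 := congrArg (Subgroup.map L.subtype) hq
    rw [Subgroup.map_sup, hPmap, Subgroup.subgroupOf_map_subtype, ← MonoidHom.range_eq_map,
      Subgroup.range_subtype] at h2
    exact h2.ge.trans (sup_le_sup_left inf_le_left _)
  have hN : Subgroup.normalizer (SL : Set G) ⊔ C = ⊤ := by
    refine top_unique (hfr.ge.trans (sup_le le_sup_left (hLC.le.trans ?_)))
    exact sup_le_sup_right (Subgroup.le_normalizer (H := SL)) C
  intro g
  exact Subgroup.mem_sup_of_normal_right.mp (hN.ge (Subgroup.mem_top g))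

/-- **Glauberman's theorem** for a strongly closed `D₀`: `B ⊓ X` is normal. -/
theorem inf_normal_closed (hp2 : p ≠ 2) (he : e = 0 ∨ e = p) (S : Sylow p G)
    (hst : StableAt p (S : Subgroup G)) {D₀ : Subgroup G} (hDS : D₀ ≤ (S : Subgroup G))
    (hcl : ∀ x ∈ D₀, ∀ g : G, g * x * g⁻¹ ∈ (S : Subgroup G) → g * x * g⁻¹ ∈ D₀) {X : Subgroup G}
    (hXJ : X ≤ thompsonJ e D₀)
    (hXC : X ≤ Subgroup.centralizer (thompsonJ e D₀ : Set G))
    (hXN : Subgroup.normalizer (thompsonJ e D₀ : Set G) ≤ Subgroup.normalizer (X : Set G)) :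
    ∀ (n : ℕ) (B : Subgroup G), Nat.card B = n → B.Normal → IsPGroup p B → (B ⊓ X).Normal :=
  inf_normal_closed_of_max hp2 he S hDS (fun W _ hW _ hA a ha => hst W hW a (hDS (hA.1 ha)))
    hcl hXJ hXC hXN

omit hp in
theorem closed_self (S : Sylow p G) :
    ∀ x ∈ (S : Subgroup G), ∀ g : G, g * x * g⁻¹ ∈ (S : Subgroup G) → g * x * g⁻¹ ∈ (S : Subgroup G) :=
  fun _ _ _ h => h

/-- **Glauberman's theorem**: `B ⊓ X` is normal. -/
theorem inf_normal (hp2 : p ≠ 2) (he : e = 0 ∨ e = p) (S : Sylow p G)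
    (hst : StableAt p (S : Subgroup G)) {X : Subgroup G}
    (hXJ : X ≤ thompsonJ e (S : Subgroup G))
    (hXC : X ≤ Subgroup.centralizer (thompsonJ e (S : Subgroup G) : Set G))
    (hXN : Subgroup.normalizer (thompsonJ e (S : Subgroup G) : Set G)
      ≤ Subgroup.normalizer (X : Set G)) :
    ∀ (n : ℕ) (B : Subgroup G), Nat.card B = n → B.Normal → IsPGroup p B → (B ⊓ X).Normal :=
  inf_normal_closed hp2 he S hst le_rfl (closed_self S) hXJ hXC hXN

omit [Finite G] hp in
theorem sylow_le_normalizer_of_closed (S : Sylow p G) {D₀ : Subgroup G}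
    (hDS : D₀ ≤ (S : Subgroup G))
    (hcl : ∀ x ∈ D₀, ∀ g : G, g * x * g⁻¹ ∈ (S : Subgroup G) → g * x * g⁻¹ ∈ D₀) :
    (S : Subgroup G) ≤ Subgroup.normalizer (D₀ : Set G) := by
  have key : ∀ s ∈ (S : Subgroup G), ∀ x ∈ D₀, s * x * s⁻¹ ∈ D₀ := fun s hs x hx =>
    hcl x hx s (mul_mem (mul_mem hs (hDS hx)) (inv_mem hs))
  intro s hs
  refine Subgroup.mem_normalizer_iff.mpr fun x => ⟨key s hs x, fun hx => ?_⟩
  simpa [mul_assoc] using key s⁻¹ (inv_mem hs) _ hx

/-- **ZJ theorem** for a strongly closed `D₀`. -/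
theorem normal_of_constrained_closed (hp2 : p ≠ 2) (he : e = 0 ∨ e = p) (S : Sylow p G)
    (hc : Subgroup.centralizer (Cfsg.pCore p G : Set G) ≤ Cfsg.pCore p G)
    (hst : StableAt p (S : Subgroup G)) {D₀ : Subgroup G} (hDS : D₀ ≤ (S : Subgroup G))
    (hcl : ∀ x ∈ D₀, ∀ g : G, g * x * g⁻¹ ∈ (S : Subgroup G) → g * x * g⁻¹ ∈ D₀) {X : Subgroup G}
    (hXJ : X ≤ thompsonJ e D₀)
    (hXC : X ≤ Subgroup.centralizer (thompsonJ e D₀ : Set G))
    (hXN : Subgroup.normalizer (thompsonJ e D₀ : Set G) ≤ Subgroup.normalizer (X : Set G)) :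
    X.Normal := by
  haveI := Fitting.pCore_normal (G := G) p
  set U := Cfsg.pCore p G with hU
  have hUp : IsPGroup p U := Fitting.pCore_isPGroup p
  suffices hXU : X ≤ U by
    have h := inf_normal_closed hp2 he S hst hDS hcl hXJ hXC hXN _ U rfl inferInstance hUp
    rwa [inf_eq_right.mpr hXU] at h
  have hle : opMod p U ≤ U := by
    refine Fitting.le_pCore (opMod_normal p U) fun d => ?_
    obtain ⟨k, hk⟩ := exists_pow_mem_centralizer U d.2
    obtain ⟨i, hi⟩ := hUp ⟨_, hc hk⟩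
    refine ⟨k + i, Subtype.ext ?_⟩
    show (d : G) ^ p ^ (k + i) = 1
    rw [pow_add, pow_mul]
    exact congrArg Subtype.val hi
  intro a ha
  refine hle (hst U hUp a (hDS (thompsonJ_le e _ (hXJ ha))) ?_)
  exact quadratic_of_normalizes (fun x hx y hy => hXC hy x (hXJ hx))
    ((normal_le_sylow hUp S).trans (((sylow_le_normalizer_of_closed S hDS hcl).trans
      (normalizer_le_normalizer_thompsonJ e D₀)).trans hXN)) ha

/-- **Glauberman's ZJ theorem.** -/
theorem normal_of_constrained (hp2 : p ≠ 2) (he : e = 0 ∨ e = p) (S : Sylow p G)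
    (hc : Subgroup.centralizer (Cfsg.pCore p G : Set G) ≤ Cfsg.pCore p G)
    (hst : StableAt p (S : Subgroup G)) {X : Subgroup G}
    (hXJ : X ≤ thompsonJ e (S : Subgroup G))
    (hXC : X ≤ Subgroup.centralizer (thompsonJ e (S : Subgroup G) : Set G))
    (hXN : Subgroup.normalizer (thompsonJ e (S : Subgroup G) : Set G)
      ≤ Subgroup.normalizer (X : Set G)) :
    X.Normal :=
  normal_of_constrained_closed hp2 he S hc hst le_rfl (closed_self S) hXJ hXC hXN

end CfsgLib.ZJ
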