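import Mathlib
import Cfsg.Agent.Lib.ZJ.Core
import Cfsg.Agent.Lib.Offender.Basic
import Cfsg.Agent.Lib.PSolvable.Omega
import Cfsg.Agent.Lib.PSolvable.Constrained

/-!
`p`-stability in the configuration of the normal `p`-complement theorems: `U` a normal `p`-subgroup,
`K̄ ≤ G / U` an abelian normal `p'`-subgroup, minimal normal and self-centralizing.
-/

set_option autoImplicit false
set_option linter.style.haveILetI false

open scoped commutatorElement Pointwise

namespace CfsgLib.ZJ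

variable {G : Type*} [Group G] [Finite G] {p : ℕ} [hp : Fact p.Prime]

theorem stableAt_of_abelian_top (hp2 : p ≠ 2) {U : Subgroup G} [U.Normal] (hU : IsPGroup p U)
    (S : Subgroup G) (hS : IsPGroup p S) (Kb : Subgroup (G ⧸ U)) [Kb.Normal]
    (hKc : (Nat.card Kb).Coprime p) (hKab : ∀ x ∈ Kb, ∀ y ∈ Kb, x * y = y * x)
    (hq : IsPGroup p ((G ⧸ U) ⧸ Kb))
    (hKmin : ∀ L ≤ Kb, L.Normal → L = ⊥ ∨ L = Kb)
    (hfaith : Subgroup.centralizer (Kb : Set (G ⧸ U)) ≤ Kb) : StableAt p S := by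
  classical
  intro W hWn hW a haS hquad
  set π := QuotientGroup.mk' U with hπ
  have hπs : Function.Surjective π := QuotientGroup.mk'_surjective U
  -- lifting `p'`-elements of `K̄`
  have hlift : ∀ x ∈ Kb, ∃ d : G, π d = x ∧ (orderOf d).Coprime p := fun x hx => by
    obtain ⟨c, rfl⟩ := hπs x
    obtain ⟨i, m, hm, -, hco, -⟩ := Transfer.exists_pow_coprime_part (p := p) c
    have hxo : (orderOf (π c)).Coprime p :=
      Nat.Coprime.coprime_dvd_left (Kb.orderOf_dvd_natCard hx) hKc
    obtain ⟨j, hj⟩ : ∃ j : ℕ, p ^ i * j ≡ 1 [MOD orderOf (π c)] := by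
      rcases Nat.lt_or_ge 1 (orderOf (π c)) with h1 | h1
      · obtain ⟨j, -, hj⟩ :=
          Nat.exists_mul_mod_eq_one_of_coprime (Nat.Coprime.pow_left i hxo.symm) h1
        exact ⟨j, by rw [Nat.ModEq, hj, Nat.mod_eq_of_lt h1]⟩
      · have h2 : orderOf (π c) = 1 := le_antisymm h1 (orderOf_pos _)
        exact ⟨0, by rw [h2]; exact Nat.modEq_one⟩
    refine ⟨(c ^ p ^ i) ^ j, ?_, hco.coprime_dvd_left (orderOf_pow_dvd j)⟩
    rw [← pow_mul, map_pow, pow_eq_pow_iff_modEq.mpr hj, pow_one]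
  -- a normal subgroup of `G` with trivial or full intersection with `K̄`
  have hdich : ∀ C : Subgroup G, C.Normal →
      (∀ x ∈ Kb, x ∈ C.map π) ∨ C ≤ U := by
    intro C hC
    haveI := hC.map π hπs
    rcases hKmin (C.map π ⊓ Kb) inf_le_right inferInstance with h | h
    · right
      have hle : C.map π ≤ Kb := by
        intro x hx
        refine hfaith fun k hk => ?_
        exact (Coprime.commute_of_mem_normalizer (A := Kb) Subgroup.le_normalizer_of_normal h hx
          (by rw [Subgroup.normalizer_eq_top]; trivial)) k hk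
      rwa [inf_eq_left.mpr hle, Subgroup.map_eq_bot_iff, hπ, QuotientGroup.ker_mk'] at h
    · exact Or.inl fun x hx => (h.ge hx).1
  rcases hdich (Subgroup.centralizer (W : Set G)) inferInstance with hall | hCU
  · -- `G / C(W)` is a `p`-group
    haveI : (⊤ : Subgroup G).Normal := inferInstance
    refine le_opMod W ⊤ (fun g _ => ?_) (Subgroup.mem_top a)
    obtain ⟨k, hk⟩ := hq (QuotientGroup.mk (π g))
    rw [← QuotientGroup.mk_pow, ← map_pow, QuotientGroup.eq_one_iff] at hk
    obtain ⟨c, hc, hcg⟩ := hall _ hk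
    have hcU : c⁻¹ * g ^ p ^ k ∈ U := by
      rw [← QuotientGroup.eq_one_iff, ← QuotientGroup.mk'_apply, map_mul, map_inv, hcg,
        inv_mul_cancel]
    obtain ⟨i, hi⟩ := hU ⟨_, hcU⟩
    have hi' : (c⁻¹ * g ^ p ^ k) ^ p ^ i = 1 := congrArg Subtype.val hi
    refine ⟨k + i, ?_⟩
    rw [pow_add, pow_mul, ← QuotientGroup.eq_one_iff, QuotientGroup.mk_pow]
    have h1 : (QuotientGroup.mk (g ^ p ^ k) : G ⧸ Subgroup.centralizer (W : Set G))
        = QuotientGroup.mk (c⁻¹ * g ^ p ^ k) := by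
      rw [QuotientGroup.mk_mul, (QuotientGroup.eq_one_iff c⁻¹).mpr (inv_mem hc), one_mul]
    rw [h1, ← QuotientGroup.mk_pow, hi', QuotientGroup.mk_one]
  -- `K̄` is faithful on a chief factor below `W`
  suffices haU : a ∈ U from le_opMod W U (fun u hu => by
    obtain ⟨i, hi⟩ := hU ⟨u, hu⟩
    have hi' : u ^ p ^ i = 1 := congrArg Subtype.val hi
    exact ⟨i, by rw [hi']; exact one_mem _⟩) haU
  by_contra haU
  have hKne : Kb ≠ ⊥ := fun h => by
    subst h
    refine haU ((QuotientGroup.eq_one_iff a).mp (Subgroup.mem_bot.mp (hfaith ?_)))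
    intro x hx
    rw [SetLike.mem_coe, Subgroup.mem_bot] at hx
    rw [hx, one_mul, mul_one]
  have hK'C : ∀ d : G, π d ∈ Kb → (orderOf d).Coprime p → d ∈ U → d = 1 := fun d _ hco hd => by
    obtain ⟨i, hi⟩ := hU ⟨d, hd⟩
    rw [← orderOf_eq_one_iff]
    exact Nat.eq_one_of_dvd_coprimes (hco.pow_right i) dvd_rfl
      (orderOf_dvd_of_pow_eq_one (congrArg Subtype.val hi))
  let bad : Subgroup G → Prop := fun N => N.Normal ∧ N ≤ W ∧
    ∃ d : G, π d ∈ Kb ∧ (orderOf d).Coprime p ∧ d ∉ Subgroup.centralizer (N : Set G)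
  obtain ⟨N, -, ⟨⟨hNn, hNW, d, hdK, hdco, hdN⟩, hNmin⟩⟩ :=
    exists_minimal_le_of_wellFoundedLT bad W ⟨hWn, le_rfl, by
      obtain ⟨x, hx⟩ := Subgroup.ne_bot_iff_exists_ne_one.mp hKne
      obtain ⟨d, hd, hco⟩ := hlift x x.2
      refine ⟨d, hd ▸ x.2, hco, fun hdC => hx ?_⟩
      apply Subtype.ext
      rw [Subgroup.coe_one, ← hd, hK'C d (hd ▸ x.2) hco (hCU hdC), map_one]⟩
  have hN1 : N ≠ ⊥ := by
    rintro rfl
    exact hdN fun x hx => by rw [SetLike.mem_coe, Subgroup.mem_bot] at hx; rw [hx, one_mul, mul_one]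
  haveI := Fintype.ofFinite (Subgroup G)
  obtain ⟨M, hM, hMmax⟩ := Finset.exists_max_image
    (Finset.univ.filter fun M : Subgroup G => M.Normal ∧ M < N) (fun M => Nat.card M)
    ⟨⊥, by simp only [Finset.mem_filter, Finset.mem_univ, true_and]
           exact ⟨inferInstance, bot_lt_iff_ne_bot.mpr hN1⟩⟩
  simp only [Finset.mem_filter, Finset.mem_univ, true_and] at hM hMmax
  obtain ⟨hMn, hMN⟩ := hM
  haveI := hNn
  haveI := hMn
  have hNp : IsPGroup p N := hW.to_le hNW
  have hbelow : ∀ X : Subgroup G, X.Normal → X ≤ N → X ⊔ M ≠ N → X ≤ M := by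
    intro X hX hXN hne
    haveI := hX
    have hlt : X ⊔ M < N := lt_of_le_of_ne (sup_le hXN hMN.le) hne
    have h := Subgroup.eq_of_le_of_card_ge (le_sup_right : M ≤ X ⊔ M)
      (hMmax _ ⟨inferInstance, hlt⟩)
    exact h ▸ le_sup_left
  -- `N / M` is elementary abelian
  set Φ := (frattini ↥N).map N.subtype with hΦ
  have hΦM : Φ ≤ M := by
    haveI : Φ.Normal := PSolvable.normal_map_of_characteristic N _
    have hgen : Φ ⊔ M ≠ N := by
      intro h
      refine hMN.ne (le_antisymm hMN.le ?_)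
      have h1 : (frattini ↥N) ⊔ M.subgroupOf N = ⊤ := by
        apply Subgroup.map_injective N.subtype_injective
        rw [Subgroup.map_sup, Subgroup.map_subgroupOf_eq_of_le hMN.le, ← MonoidHom.range_eq_map,
          Subgroup.range_subtype]
        exact h
      have h2 : M.subgroupOf N = ⊤ := frattini_nongenerating (by rwa [sup_comm] at h1)
      exact Subgroup.subgroupOf_eq_top.mp h2
    by_cases hΦN : Φ = N
    · exact absurd (by rw [hΦN]; exact sup_eq_left.mpr hMN.le) hgen
    · exact hbelow Φ inferInstance (Subgroup.map_subtype_le _) hgen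
  obtain ⟨hcomΦ, hpowΦ⟩ := PSolvable.commutator_le_frattini hNp
  set μ := QuotientGroup.mk' M with hμ
  set V := N.map μ with hV
  haveI : V.Normal := hNn.map μ (QuotientGroup.mk'_surjective M)
  have hVc : ∀ u ∈ V, ∀ v ∈ V, u * v = v * u := by
    rintro _ ⟨u, hu, rfl⟩ _ ⟨v, hv, rfl⟩
    rw [← commutatorElement_eq_one_iff_mul_comm, ← map_commutatorElement, hμ,
      QuotientGroup.mk'_apply, QuotientGroup.eq_one_iff]
    exact hΦM ⟨⁅⟨u, hu⟩, ⟨v, hv⟩⁆, hcomΦ (Subgroup.commutator_mem_commutator (Subgroup.mem_top _)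
      (Subgroup.mem_top _)), map_commutatorElement N.subtype _ _⟩
  haveI : IsMulCommutative V := ⟨⟨fun u v => Subtype.ext (hVc u u.2 v v.2)⟩⟩
  letI : CommGroup V := { (inferInstance : Group V) with mul_comm := mul_comm' }
  have hVexp : ∀ v : Additive V, p • v = 0 := by
    intro v
    obtain ⟨u, hu, huv⟩ := (Additive.toMul v : V).2
    apply Subtype.ext
    show (((Additive.toMul v : V)) : G ⧸ M) ^ p = 1
    rw [← huv, ← map_pow, hμ, QuotientGroup.mk'_apply, QuotientGroup.eq_one_iff]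
    exact hΦM ⟨_, hpowΦ ⟨u, hu⟩, rfl⟩
  haveI : Nontrivial (Additive V) := by
    obtain ⟨u, hu, huM⟩ := SetLike.exists_of_lt hMN
    refine ⟨⟨Additive.ofMul (⟨μ u, u, hu, rfl⟩ : V), 0, fun h => huM ?_⟩⟩
    have h' := congrArg (fun t : Additive V => ((Additive.toMul t : V) : G ⧸ M)) h
    exact (QuotientGroup.eq_one_iff u).mp h'
  let φ₀ : G →* AddMonoid.End (Additive V) :=
    { toFun := fun g => MonoidHom.toAdditive ((MulAut.conjNormal (μ g) : MulAut V).toMonoidHom)
      map_one' := by rw [map_one, map_one]; rfl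
      map_mul' := fun g h => by rw [map_mul, map_mul]; rfl }
  have hφ₀ : ∀ (g : G) (v : Additive V),
      ((Additive.toMul (φ₀ g v) : V) : G ⧸ M) = μ g * (Additive.toMul v : V) * (μ g)⁻¹ :=
    fun g v => MulAut.conjNormal_apply (μ g) _
  have hker : ∀ g, g ∈ φ₀.ker → ∀ u ∈ N, ⁅g, u⁆ ∈ M := fun g hg u hu => by
    rw [← QuotientGroup.eq_one_iff, ← QuotientGroup.mk'_apply, map_commutatorElement,
      commutatorElement_eq_one_iff_commute]
    have h1 := hφ₀ g (Additive.ofMul (⟨μ u, u, hu, rfl⟩ : V))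
    rw [MonoidHom.mem_ker.mp hg] at h1
    exact mul_inv_eq_iff_eq_mul.mp h1.symm
  -- `U` is trivial on the chief factor
  have hUN : ⁅N, U⁆ ≤ M := by
    have hnil : Group.IsNilpotent ↥(N ⊔ U) := (hNp.to_sup_of_normal_left hU).isNilpotent
    have hlt : ⁅N, U⁆ < N := Coprime.commutator_lt_of_isNilpotent (X := N ⊔ U) le_sup_left
      le_sup_right Subgroup.le_normalizer_of_normal hN1
    refine hbelow _ inferInstance hlt.le fun h => ?_
    have hnil2 : Group.IsNilpotent ↥((N ⊔ U).map μ) :=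
      ((hNp.to_sup_of_normal_left hU).map μ).isNilpotent
    have hVne : V ≠ ⊥ := fun hb => by
      rw [hV, Subgroup.map_eq_bot_iff, hμ, QuotientGroup.ker_mk'] at hb
      exact hMN.not_ge hb
    have hlt2 := Coprime.commutator_lt_of_isNilpotent (X := (N ⊔ U).map μ) (U := V) (P := U.map μ)
      (Subgroup.map_mono le_sup_left) (Subgroup.map_mono le_sup_right)
      Subgroup.le_normalizer_of_normal hVne
    rw [hV, ← Subgroup.map_commutator] at hlt2
    refine hlt2.ne (le_antisymm hlt2.le ?_)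
    conv_lhs => rw [← h, Subgroup.map_sup, hμ, QuotientGroup.map_mk'_self, sup_bot_eq]
  have hUker : U ≤ φ₀.ker := fun u hu => by
    refine DFunLike.ext _ _ fun v => ?_
    obtain ⟨w, hw, hwv⟩ := (Additive.toMul v : V).2
    apply Additive.toMul.injective
    apply Subtype.ext
    rw [hφ₀, ← hwv]
    show μ u * μ w * (μ u)⁻¹ = ((Additive.toMul v : V) : G ⧸ M)
    rw [← hwv]
    have h1 : μ ⁅w, u⁆ = 1 := (QuotientGroup.eq_one_iff _).mpr
      (hUN (Subgroup.commutator_mem_commutator hw hu))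
    rw [map_commutatorElement, commutatorElement_eq_one_iff_commute] at h1
    exact mul_inv_eq_iff_eq_mul.mpr h1.eq.symm
  let φ : G ⧸ U →* AddMonoid.End (Additive V) := QuotientGroup.lift U φ₀ hUker
  have hφπ : ∀ g, φ (π g) = φ₀ g := fun g => rfl
  have hdker : d ∉ φ₀.ker := by
    intro hd
    refine hdN fun u hu => ?_
    have hMc : ∀ m ∈ M, m * d = d * m := fun m hm => by
      by_contra hne
      exact hMN.not_ge (hNmin ⟨hMn, hMN.le.trans hNW, d, hdK, hdco, fun h => hne (h m hm)⟩ hMN.le)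
    have hbot : ⁅⁅N, Subgroup.zpowers d⁆, Subgroup.zpowers d⁆ = ⊥ := by
      have h1 : ⁅N, Subgroup.zpowers d⁆ ≤ M := Subgroup.commutator_le.mpr fun x hx z hz => by
        have hz' : z ∈ φ₀.ker := (Subgroup.zpowers_le.mpr hd) hz
        have := inv_mem (hker z hz' x hx)
        rwa [commutatorElement_inv] at this
      rw [eq_bot_iff]
      refine (Subgroup.commutator_mono h1 le_rfl).trans (Subgroup.commutator_le.mpr fun m hm z hz => ?_)
      obtain ⟨i, rfl⟩ := Subgroup.mem_zpowers_iff.mp hz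
      rw [Subgroup.mem_bot, commutatorElement_eq_one_iff_commute]
      exact Commute.zpow_right (hMc m hm) i
    have hcop : (Nat.card (Subgroup.zpowers d)).Coprime (Nat.card N) := by
      obtain ⟨i, hi⟩ := hNp.exists_card_eq
      rw [Nat.card_zpowers, hi]
      exact hdco.pow_right i
    have h2 := Coprime.commutator_eq_bot_of_commutator_commutator
      Subgroup.le_normalizer_of_normal hcop hbot
    exact (Subgroup.commutator_eq_bot_iff_le_centralizer.mp h2 hu d (Subgroup.mem_zpowers d)).symm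
  have hφinj : Function.Injective φ := by
    rw [← MonoidHom.ker_eq_bot_iff]
    have hkn : φ₀.ker.Normal := inferInstance
    rcases hdich φ₀.ker hkn with h | h
    · exfalso
      obtain ⟨c, hc, hcd⟩ := h _ hdK
      refine hdker ?_
      have hcu : c⁻¹ * d ∈ U := by
        rw [← QuotientGroup.eq_one_iff, ← QuotientGroup.mk'_apply, map_mul, map_inv, hcd,
          inv_mul_cancel]
      simpa using mul_mem hc (hUker hcu)
    · rw [eq_bot_iff]
      intro x hx
      obtain ⟨g, rfl⟩ := hπs x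
      rw [Subgroup.mem_bot, hπ, QuotientGroup.mk'_apply, QuotientGroup.eq_one_iff]
      exact h hx
  have hqu : (φ (π a) - 1) * (φ (π a) - 1) = 0 := by
    refine DFunLike.ext _ _ fun v => ?_
    obtain ⟨u, hu, huv⟩ := (Additive.toMul v : V).2
    have h1 : ⁅⁅u, a⁆, a⁆ = 1 := Subgroup.mem_bot.mp (hquad ▸ Subgroup.commutator_mem_commutator
      (Subgroup.commutator_mem_commutator (hNW hu) (Subgroup.mem_zpowers a)) (Subgroup.mem_zpowers a))
    set w := φ (π a) v - v with hw
    have hwv : ((Additive.toMul w : V) : G ⧸ M) = μ ⁅a, u⁆ := by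
      rw [hw, toMul_sub, hφπ, Subgroup.coe_div, div_eq_mul_inv]
      rw [hφ₀, ← huv, ← map_inv, ← map_inv, ← map_mul, ← map_mul, ← map_mul]
      rfl
    have hfix : φ (π a) w = w := by
      apply Additive.toMul.injective
      apply Subtype.ext
      rw [hφπ, hφ₀, hwv, ← map_inv, ← map_mul, ← map_mul]
      congr 1
      have hcomm : Commute ⁅u, a⁆ a := commutatorElement_eq_one_iff_commute.mp h1
      rw [show ⁅a, u⁆ = ⁅u, a⁆⁻¹ from (commutatorElement_inv u a).symm, ← hcomm.inv_left.eq,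
        mul_inv_cancel_right]
    show φ (π a) w - w = 0
    rw [hfix, sub_self]
  have hcomm := Offender.commute_of_quadratic (p := p) hVexp hp2 φ hφinj hqu hKab hKc
    (by rw [Subgroup.normalizer_eq_top]; trivial)
  have haK : π a ∈ Kb := hfaith fun k hk => (hcomm k hk).symm
  refine haU ((QuotientGroup.eq_one_iff a).mp ?_)
  exact PSolvable.eq_one_of_mem_of_mem (hS.map π) hKc ⟨a, haS, rfl⟩ haK

end CfsgLib.ZJ
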