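import Mathlib
import Cfsg.Agent.Lib.ZJ.Core
import Cfsg.Agent.Lib.Transfer.ThompsonComplement

/-!
`Z(J(S))` and `Ω₁(Z(J(S)))` as functorial subgroups; their characteristic forms of the ZJ theorem;
`p`-stability hypotheses in the forms of the definitions.
-/

set_option autoImplicit false
set_option linter.style.haveILetI false

open scoped commutatorElement Pointwise

namespace CfsgLib.ZJ

open CfsgLib.Transfer

variable {G : Type*} [Group G]

/-- `Z(J(P))` for the exponent `e`. -/
def zJ (e : ℕ) (P : Subgroup G) : Subgroup G :=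
  thompsonJ e P ⊓ Subgroup.centralizer (thompsonJ e P : Set G)

theorem centerThompsonOf_eq (p : ℕ) (P : Subgroup G) : Cfsg.centerThompsonOf p P = zJ p P := by
  rw [Cfsg.centerThompsonOf, thompsonSubgroupOf_eq]; rfl

theorem centerThompsonAOf_eq (P : Subgroup G) : Cfsg.centerThompsonAOf P = zJ 0 P := by
  rw [Cfsg.centerThompsonAOf, thompsonSubgroupAOf_eq]; rfl

theorem zJ_le (e : ℕ) (P : Subgroup G) : zJ e P ≤ P := inf_le_left.trans (thompsonJ_le e P)

theorem map_zJ {G' : Type*} [Group G'] (e : ℕ) (f : G →* G') {P : Subgroup G}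
    (hf : Set.InjOn f (P : Set G)) : (zJ e P).map f = zJ e (P.map f) := by
  rw [zJ, map_centerOf f (hf.mono (thompsonJ_le e P)), map_thompsonJ e f hf]; rfl

theorem normalizer_thompsonJ_le_zJ (e : ℕ) (P : Subgroup G) :
    Subgroup.normalizer (thompsonJ e P : Set G) ≤ Subgroup.normalizer (zJ e P : Set G) :=
  Coprime.le_normalizer_inf_of_le le_rfl (Coprime.le_normalizer_centralizer le_rfl)

theorem normalizer_le_normalizer_zJ (e : ℕ) (P : Subgroup G) :
    Subgroup.normalizer (P : Set G) ≤ Subgroup.normalizer (zJ e P : Set G) :=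
  (normalizer_le_normalizer_thompsonJ e P).trans (normalizer_thompsonJ_le_zJ e P)

/-- A normal value at a Sylow subgroup of an automorphism-compatible assignment is characteristic. -/
theorem characteristic_of_functorial [Finite G] {p : ℕ} [Fact p.Prime]
    (F : Subgroup G → Subgroup G)
    (hF : ∀ (σ : MulAut G) (P : Subgroup G), (F P).map σ.toMonoidHom = F (P.map σ.toMonoidHom))
    (S : Sylow p G) (h : (F (S : Subgroup G)).Normal) : (F (S : Subgroup G)).Characteristic := by
  refine Subgroup.characteristic_iff_map_eq.mpr fun σ => ?_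
  let S' : Sylow p G := S.mapSurjective (f := σ.toMonoidHom) σ.surjective
  obtain ⟨g, hg⟩ := exists_map_conj_sylow_eq S S'
  have h1 : (S : Subgroup G).map σ.toMonoidHom = (S' : Subgroup G) :=
    (Sylow.coe_mapSurjective _ S).symm
  rw [hF σ, h1, ← hg, ← hF]
  exact Transfer.map_conj_eq_self_iff.mpr (Subgroup.normalizer_eq_top_iff.mpr h ▸ Subgroup.mem_top g)

variable {p : ℕ}

/-- `Ω₁(Z(J(P)))` inside `G`. -/
theorem map_omegaCenterThompson (p : ℕ) (P : Subgroup G) :
    (Cfsg.omegaCenterThompson p P).map P.subtype = Cfsg.omegaOne p (zJ p P) := by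
  have hJ : Cfsg.thompsonSubgroup p P = (thompsonJ p P).subgroupOf P := by
    apply Subgroup.map_injective P.subtype_injective
    rw [Subgroup.map_subgroupOf_eq_of_le (thompsonJ_le p P), ← thompsonSubgroupOf_eq]
    rfl
  have hz : Cfsg.thompsonSubgroup p P ⊓ Subgroup.centralizer (Cfsg.thompsonSubgroup p P : Set P)
      = (zJ p P).subgroupOf P := by
    apply Subgroup.map_injective P.subtype_injective
    rw [map_centerOf P.subtype (P.subtype_injective.injOn),
      Subgroup.map_subgroupOf_eq_of_le (zJ_le p P), hJ,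
      Subgroup.map_subgroupOf_eq_of_le (thompsonJ_le p P)]
    rfl
  rw [Cfsg.omegaCenterThompson, hz, Cfsg.omegaOne, Cfsg.omegaOne, MonoidHom.map_closure]
  congr 1
  ext x
  constructor
  · rintro ⟨y, ⟨hy, hye⟩, rfl⟩
    exact ⟨hy, congrArg Subtype.val hye⟩
  · rintro ⟨hx, hxe⟩
    exact ⟨⟨x, zJ_le p P hx⟩, ⟨hx, Subtype.ext hxe⟩, rfl⟩

theorem omegaOne_le (p : ℕ) (H : Subgroup G) : Cfsg.omegaOne p H ≤ H :=
  (Subgroup.closure_le _).mpr fun _ hx => hx.1

theorem map_omegaOne {G' : Type*} [Group G'] (p : ℕ) (f : G →* G') {H : Subgroup G}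
    (hf : Set.InjOn f (H : Set G)) :
    (Cfsg.omegaOne p H).map f = Cfsg.omegaOne p (H.map f) := by
  rw [Cfsg.omegaOne, Cfsg.omegaOne, MonoidHom.map_closure]
  congr 1
  ext x
  constructor
  · rintro ⟨y, ⟨hy, hye⟩, rfl⟩
    exact ⟨⟨y, hy, rfl⟩, by rw [← map_pow, hye, map_one]⟩
  · rintro ⟨⟨y, hy, rfl⟩, hxe⟩
    exact ⟨y, ⟨hy, hf (pow_mem hy p) (one_mem H) (by rw [map_pow, map_one, hxe])⟩, rfl⟩

theorem normalizer_le_normalizer_omegaOne (p : ℕ) (H : Subgroup G) :
    Subgroup.normalizer (H : Set G) ≤ Subgroup.normalizer (Cfsg.omegaOne p H : Set G) := by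
  intro g hg
  rw [Coprime.mem_normalizer_iff_conj_smul, Subgroup.pointwise_smul_def] at *
  exact (map_omegaOne p _ (MulEquiv.injective (MulAut.conj g)).injOn).trans (congrArg _ hg)

variable [Finite G] [hp : Fact p.Prime]

omit [Finite G] hp in
theorem stableAt_of_isPStableOn
    (hst : ∀ (P : Subgroup G) [P.Normal], IsPGroup p P → Cfsg.IsPStableOn p P) (S : Subgroup G) :
    StableAt p S :=
  fun W _ hW a _ hq => hst W hW a hq

omit [Finite G] hp in
/-- The pair-of-subgroups form of `p`-stability gives the element form. -/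
theorem stableAt_of_isPStable (h : Cfsg.IsPStable p G) (S : Sylow p G) :
    StableAt p (S : Subgroup G) := by
  intro W hWn hW a ha hq
  haveI := pPrimeCore_normal p G
  have hle : W ≤ Cfsg.pPrimePCore p G := by
    rw [Cfsg.pPrimePCore, ← Subgroup.map_le_iff_le_comap]
    exact Fitting.le_pCore (hWn.map _ (QuotientGroup.mk'_surjective _)) (hW.map _)
  have h1 := h.2.2 (Subgroup.zpowers a) W (S.2.to_le (Subgroup.zpowers_le.mpr ha)) hW
    (fun b _ x hx => hWn.conj_mem x hx b) hle inferInstance hq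
  set N := Subgroup.normalizer (W : Set G) with hN
  have hNtop : N = ⊤ := Subgroup.normalizer_eq_top W
  let ψ : N ⧸ (Subgroup.centralizer (W : Set G)).subgroupOf N →*
      G ⧸ Subgroup.centralizer (W : Set G) := QuotientGroup.map _ _ N.subtype le_rfl
  have hψ : Function.Surjective ψ := fun x => by
    obtain ⟨g, rfl⟩ := QuotientGroup.mk'_surjective _ x
    exact ⟨QuotientGroup.mk ⟨g, hNtop ▸ Subgroup.mem_top g⟩, rfl⟩
  have ha' : (⟨a, hNtop ▸ Subgroup.mem_top a⟩ : N) ∈ (Subgroup.zpowers a).subgroupOf N :=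
    Subgroup.mem_zpowers a
  have h2 := h1 ⟨_, ha', rfl⟩
  rw [mem_opMod]
  exact Fitting.le_pCore ((Fitting.pCore_normal p).map ψ hψ) ((Fitting.pCore_isPGroup p).map ψ)
    ⟨_, h2, rfl⟩

/-- ZJ theorem, characteristic form. -/
theorem zJ_characteristic (hp2 : p ≠ 2) {e : ℕ} (he : e = 0 ∨ e = p) (S : Sylow p G)
    (hc : Subgroup.centralizer (Cfsg.pCore p G : Set G) ≤ Cfsg.pCore p G)
    (hst : StableAt p (S : Subgroup G)) : (zJ e (S : Subgroup G)).Characteristic :=
  characteristic_of_functorial (zJ e) (fun σ _ => map_zJ e σ.toMonoidHom σ.injective.injOn) S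
    (normal_of_constrained hp2 he S hc hst inf_le_left inf_le_right (normalizer_thompsonJ_le_zJ e _))

theorem omega_zJ_characteristic (hp2 : p ≠ 2) (S : Sylow p G)
    (hc : Subgroup.centralizer (Cfsg.pCore p G : Set G) ≤ Cfsg.pCore p G)
    (hst : StableAt p (S : Subgroup G)) :
    (Cfsg.omegaOne p (zJ p (S : Subgroup G))).Characteristic := by
  refine characteristic_of_functorial (fun P => Cfsg.omegaOne p (zJ p P)) (fun σ P => ?_) S
    (normal_of_constrained hp2 (Or.inr rfl) S hc hst ((omegaOne_le p _).trans inf_le_left)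
      ((omegaOne_le p _).trans inf_le_right)
      ((normalizer_thompsonJ_le_zJ p _).trans (normalizer_le_normalizer_omegaOne p _)))
  show (Cfsg.omegaOne p (zJ p P)).map σ.toMonoidHom = _
  rw [map_omegaOne p _ σ.injective.injOn, map_zJ p _ σ.injective.injOn]

end CfsgLib.ZJ

namespace CfsgLib.ZJ

open CfsgLib.Transfer

variable {G : Type*} [Group G] [Finite G] {p : ℕ} [hp : Fact p.Prime]

/-- `p`-stability of `G` passes to a quotient by a normal `p'`-subgroup, at a Sylow subgroup. -/
theorem stableAt_map {Q : Type*} [Group Q] (f : G →* Q) (hf : Function.Surjective f)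
    (hker : (Nat.card f.ker).Coprime p) (h : Cfsg.IsPStable p G) (S : Sylow p G) :
    StableAt p ((S : Subgroup G).map f) := by
  haveI : Finite Q := Finite.of_surjective f hf
  intro W hWn hW b hb hq
  obtain ⟨a, ha, rfl⟩ := hb
  haveI := pPrimeCore_normal p G
  set M := W.comap f with hM
  haveI hMn : M.Normal := hWn.comap f
  set T := (S : Subgroup G) ⊓ M with hT
  have hTp : IsPGroup p T := S.2.to_le inf_le_left
  have hSn : (S : Subgroup G) ≤ Subgroup.normalizer (T : Set G) :=
    Coprime.le_normalizer_inf_of_le (S : Subgroup G).le_normalizer Subgroup.le_normalizer_of_normal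
  have hTmap : T.map f = W := by
    refine le_antisymm (Subgroup.map_le_iff_le_comap.mpr inf_le_right) fun w hw => ?_
    obtain ⟨s, hs, rfl⟩ := normal_le_sylow hW (S.mapSurjective hf) hw
    exact ⟨s, Subgroup.mem_inf.mpr ⟨hs, hw⟩, rfl⟩
  have hMT : M = T ⊔ f.ker := by rw [← Subgroup.comap_map_eq, hTmap]
  have hker' : f.ker ≤ Cfsg.pPrimeCore p G := le_pPrimeCore inferInstance hker
  have hsupn : (Cfsg.pPrimeCore p G ⊔ T).Normal := by
    have : Cfsg.pPrimeCore p G ⊔ T = Cfsg.pPrimeCore p G ⊔ M := by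
      rw [hMT, sup_comm T, ← sup_assoc, sup_eq_left.mpr hker']
    rw [this]; infer_instance
  have hTle : T ≤ Cfsg.pPrimePCore p G := by
    rw [Cfsg.pPrimePCore, ← Subgroup.map_le_iff_le_comap]
    refine Fitting.le_pCore ?_ (hTp.map _)
    have h1 := hsupn.map (QuotientGroup.mk' (Cfsg.pPrimeCore p G)) (QuotientGroup.mk'_surjective _)
    rwa [Subgroup.map_sup, QuotientGroup.map_mk'_self, bot_sup_eq] at h1
  have hq' : ⁅⁅T, Subgroup.zpowers a⁆, Subgroup.zpowers a⁆ = ⊥ := by
    rw [eq_bot_iff]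
    intro x hx
    rw [Subgroup.mem_bot]
    refine PSolvable.eq_one_of_mem_of_mem S.2 hker ?_ (MonoidHom.mem_ker.mpr ?_)
    · have h1 : ⁅(S : Subgroup G), (S : Subgroup G)⁆ ≤ (S : Subgroup G) :=
        Subgroup.commutator_le_self _
      exact (Subgroup.commutator_mono ((Subgroup.commutator_mono inf_le_left
        (Subgroup.zpowers_le.mpr ha)).trans h1) (Subgroup.zpowers_le.mpr ha)).trans h1 hx
    · have h2 := Subgroup.mem_map_of_mem f hx
      rw [Subgroup.map_commutator, Subgroup.map_commutator, hTmap, MonoidHom.map_zpowers, hq,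
        Subgroup.mem_bot] at h2
      exact h2
  have h1 := h.2.2 (Subgroup.zpowers a) T (S.2.to_le (Subgroup.zpowers_le.mpr ha)) hTp
    (fun b hb x hx =>
      (Subgroup.mem_normalizer_iff.mp (hSn (Subgroup.zpowers_le.mpr ha hb)) x).mp hx)
    hTle hsupn hq'
  set N := Subgroup.normalizer (T : Set G) with hN
  have hNmap : N.map f = ⊤ := by
    rw [hN, PSolvable.map_normalizer_eq hf hker hTp, hTmap, Subgroup.normalizer_eq_top]
  have hCle : (Subgroup.centralizer (T : Set G)).subgroupOf N
      ≤ (Subgroup.centralizer (W : Set Q)).comap (f.comp N.subtype) := by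
    intro c hc w hw
    obtain ⟨t, ht, rfl⟩ : w ∈ T.map f := hTmap ▸ hw
    show f t * f (c : G) = f (c : G) * f t
    rw [← map_mul, ← map_mul, show t * (c : G) = (c : G) * t from hc t ht]
  let ψ : N ⧸ (Subgroup.centralizer (T : Set G)).subgroupOf N →*
      Q ⧸ Subgroup.centralizer (W : Set Q) := QuotientGroup.map _ _ (f.comp N.subtype) hCle
  have hψ : Function.Surjective ψ := fun x => by
    obtain ⟨q, rfl⟩ := QuotientGroup.mk'_surjective _ x
    obtain ⟨n, hn, rfl⟩ := (hNmap.ge (Subgroup.mem_top q))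
    exact ⟨QuotientGroup.mk ⟨n, hn⟩, rfl⟩
  have haN : a ∈ N := hSn ha
  have ha' : (⟨a, haN⟩ : N) ∈ (Subgroup.zpowers a).subgroupOf N := Subgroup.mem_zpowers a
  have h2 := h1 ⟨_, ha', rfl⟩
  rw [mem_opMod]
  exact Fitting.le_pCore ((Fitting.pCore_normal p).map ψ hψ) ((Fitting.pCore_isPGroup p).map ψ)
    ⟨_, h2, rfl⟩

/-- ZJ factorization for `p`-constrained `p`-stable groups. -/
theorem zJ_factorization (hp2 : p ≠ 2) {e : ℕ} (he : e = 0 ∨ e = p)
    (hc : Cfsg.IsPConstrained p G) (hs : Cfsg.IsPStable p G) (S : Sylow p G) :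
    Cfsg.pPrimeCore p G ⊔ Subgroup.normalizer (zJ e (S : Subgroup G) : Set G) = ⊤ := by
  haveI := pPrimeCore_normal p G
  set f := QuotientGroup.mk' (Cfsg.pPrimeCore p G) with hf
  have hsurj : Function.Surjective f := QuotientGroup.mk'_surjective _
  have hker : (Nat.card f.ker).Coprime p := by
    rw [hf, QuotientGroup.ker_mk']; exact pPrimeCore_coprime p
  have hinj : Set.InjOn f ((S : Subgroup G) : Set G) := fun a ha b hb h => by
    refine inv_mul_eq_one.mp (PSolvable.eq_one_of_mem_of_mem S.2 hker (mul_mem (inv_mem ha) hb) ?_)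
    rw [MonoidHom.mem_ker, map_mul, map_inv, h, inv_mul_cancel]
  rw [PSolvable.isPConstrained_iff] at hc
  let S' : Sylow p (G ⧸ Cfsg.pPrimeCore p G) := S.mapSurjective hsurj
  have hS' : (S' : Subgroup _) = (S : Subgroup G).map f := Sylow.coe_mapSurjective _ _
  have hn : (zJ e (S' : Subgroup (G ⧸ Cfsg.pPrimeCore p G))).Normal :=
    normal_of_constrained hp2 he S' hc (hS' ▸ stableAt_map f hsurj hker hs S) inf_le_left
      inf_le_right (normalizer_thompsonJ_le_zJ e _)
  rw [hS', ← map_zJ e f hinj] at hn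
  have h : (Subgroup.normalizer (zJ e (S : Subgroup G) : Set G)).map f = ⊤ := by
    rw [PSolvable.map_normalizer_eq hsurj hker (S.2.to_le (zJ_le e _))]
    exact Subgroup.normalizer_eq_top_iff.mpr hn
  have h2 := congrArg (Subgroup.comap f) h
  rwa [Subgroup.comap_map_eq, Subgroup.comap_top, hf, QuotientGroup.ker_mk', sup_comm] at h2

end CfsgLib.ZJ
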