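import Mathlib
import Cfsg.Agent.Lib.ZJ.Centers
import Cfsg.Agent.Lib.ZJ.AbelianTop

/-!
Glauberman–Thompson normal `p`-complement theorems, `p` odd: a functor `F` with `F(P) ≤ Z(J(P))`
whose value at a Sylow subgroup is normal in the constrained stable situation with `J(S)` normal
decides normal `p`-complements through `N(F(S))`.
-/

set_option autoImplicit false
set_option linter.style.haveILetI false

open scoped commutatorElement Pointwise

namespace CfsgLib.ZJ

open CfsgLib.Transfer

universe u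

variable {p : ℕ} [hp : Fact p.Prime] {e : ℕ}

/-- `p`-stability at a Sylow subgroup gives `p`-stability on every normal `p`-subgroup. -/
theorem isPStableOn_of_stableAt {G : Type u} [Group G] [Finite G] (S : Sylow p G)
    (hst : StableAt p (S : Subgroup G)) (W : Subgroup G) [hWn : W.Normal] (hW : IsPGroup p W) :
    Cfsg.IsPStableOn p W := by
  intro a hq
  haveI := opMod_normal p W
  show a ∈ opMod p W
  obtain ⟨i, m, hm, hord, hco, hpm⟩ := exists_pow_coprime_part (p := p) a
  have hsub : ∀ k : ℕ, ⁅⁅W, Subgroup.zpowers (a ^ k)⁆, Subgroup.zpowers (a ^ k)⁆ = ⊥ := fun k =>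
    le_bot_iff.mp (hq ▸ Subgroup.commutator_mono (Subgroup.commutator_mono le_rfl
      (Subgroup.zpowers_le.mpr (pow_mem (Subgroup.mem_zpowers a) k)))
      (Subgroup.zpowers_le.mpr (pow_mem (Subgroup.mem_zpowers a) k)))
  have h1 : a ^ p ^ i ∈ opMod p W := by
    refine centralizer_le_opMod p W fun w hw => ?_
    have hcop : (Nat.card (Subgroup.zpowers (a ^ p ^ i))).Coprime (Nat.card W) := by
      obtain ⟨j, hj⟩ := hW.exists_card_eq
      rw [Nat.card_zpowers, hj]
      exact hco.pow_right j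
    have h2 := Coprime.commutator_eq_bot_of_commutator_commutator
      Subgroup.le_normalizer_of_normal hcop (hsub _)
    exact (Subgroup.commutator_eq_bot_iff_le_centralizer.mp h2 hw _ (Subgroup.mem_zpowers _)).symm
  have h3 : a ^ m ∈ opMod p W := by
    have hpg : IsPGroup p (Subgroup.zpowers (a ^ m)) := isPGroup_zpowers ⟨i, hpm⟩
    obtain ⟨g, hg⟩ := exists_map_conj_le_sylow hpg S
    set c := (MulAut.conj g).toMonoidHom
    have hWc : W.map c = W :=
      map_conj_eq_self_iff.mpr ((Subgroup.normalizer_eq_top W).symm ▸ Subgroup.mem_top g)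
    have hb : ⁅⁅W, Subgroup.zpowers (c (a ^ m))⁆, Subgroup.zpowers (c (a ^ m))⁆ = ⊥ := by
      rw [← MonoidHom.map_zpowers c (a ^ m), ← hWc, ← Subgroup.map_commutator,
        ← Subgroup.map_commutator, hsub, Subgroup.map_bot]
    have h4 := hst W hW (c (a ^ m)) (hg ⟨_, Subgroup.mem_zpowers _, rfl⟩) hb
    have h5 := (opMod_normal p W).conj_mem _ h4 g⁻¹
    simpa [c, mul_assoc] using h5
  have hc : Nat.Coprime (p ^ i) m := (hp.out.coprime_iff_not_dvd.mpr hm).pow_left i
  have h6 : a = (a ^ p ^ i) ^ Nat.gcdA (p ^ i) m * (a ^ m) ^ Nat.gcdB (p ^ i) m := by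
    have h7 := Nat.gcd_eq_gcd_ab (p ^ i) m
    rw [hc.gcd_eq_one] at h7
    rw [← zpow_natCast, ← zpow_natCast a m, ← zpow_mul, ← zpow_mul, ← zpow_add, ← h7, Nat.cast_one,
      zpow_one]
  rw [h6]
  exact mul_mem (zpow_mem h1 _) (zpow_mem h3 _)

/-- The conditions on a functor. -/
structure IsZJFunctor (p e : ℕ) (F : ∀ (G : Type u) [Group G], Subgroup G → Subgroup G) : Prop where
  le_zJ : ∀ (G : Type u) [Group G] [Finite G] (P : Subgroup G), IsPGroup p P → F G P ≤ zJ e P
  map : ∀ {G G' : Type u} [Group G] [Group G'] [Finite G] [Finite G'] (f : G →* G') (P : Subgroup G),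
    IsPGroup p P → Set.InjOn f (P : Set G) → (F G P).map f = F G' (P.map f)
  ne_bot : ∀ {G : Type u} [Group G] [Finite G] (P : Subgroup G), IsPGroup p P → P ≠ ⊥ → F G P ≠ ⊥
  normal : ∀ (G : Type u) [Group G] [Finite G] (S : Sylow p G),
    Subgroup.centralizer (Cfsg.pCore p G : Set G) ≤ Cfsg.pCore p G →
    StableAt p (S : Subgroup G) → (thompsonJ e (S : Subgroup G)).Normal →
    (F G (S : Subgroup G)).Normal

variable {F : ∀ (G : Type u) [Group G], Subgroup G → Subgroup G}

omit hp in
theorem IsZJFunctor.le (hF : IsZJFunctor p e F) {G : Type u} [Group G] [Finite G] (P : Subgroup G)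
    (hP : IsPGroup p P) : F G P ≤ P :=
  (hF.le_zJ G P hP).trans (zJ_le e P)

omit hp in
theorem IsZJFunctor.normalizer_le (hF : IsZJFunctor p e F) {G : Type u} [Group G] [Finite G]
    {P : Subgroup G} (hP : IsPGroup p P) :
    Subgroup.normalizer (P : Set G) ≤ Subgroup.normalizer (F G P : Set G) := by
  intro g hg
  rw [Coprime.mem_normalizer_iff_conj_smul, Subgroup.pointwise_smul_def] at *
  exact (hF.map _ P hP (MulEquiv.injective (MulAut.conj g)).injOn).trans (congrArg _ hg)

/-- The hypothesis: a normal `p`-complement in `N(F(S))`. -/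
def FunctorHyp (p : ℕ) (F : ∀ (G : Type u) [Group G], Subgroup G → Subgroup G) {G : Type u}
    [Group G] (S : Subgroup G) : Prop :=
  Cfsg.HasNormalPComplement p ↥(Subgroup.normalizer (F G S : Set G))

theorem functorHyp_of_map (hF : IsZJFunctor p e F) {G H : Type u} [Group G] [Finite G] [Group H]
    [Finite H] (f : H →* G) (hf : Function.Injective f) {T : Subgroup H} (hT : IsPGroup p T)
    (h : FunctorHyp p F (T.map f)) : FunctorHyp p F T := by
  rw [FunctorHyp, ← hF.map f T hT hf.injOn] at h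
  exact hasNormalPComplement_of_injective
    ((Subgroup.inclusion (Subgroup.le_normalizer_map f)).comp (f.subgroupMap _))
    ((Subgroup.inclusion_injective (Subgroup.le_normalizer_map f)).comp fun a b hab => Subtype.ext
      (hf (congrArg Subtype.val hab :))) h

theorem functorHyp_sylow (hF : IsZJFunctor p e F) {G : Type u} [Group G] [Finite G]
    (S S' : Sylow p G) (h : FunctorHyp p F (S : Subgroup G)) : FunctorHyp p F (S' : Subgroup G) := by
  obtain ⟨g, hg⟩ := exists_map_conj_sylow_eq S' S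
  exact functorHyp_of_map hF (MulAut.conj g).toMonoidHom (MulAut.conj g).injective S'.2 (hg ▸ h)

theorem complement_aux (hF : IsZJFunctor p e F) (hp2 : p ≠ 2) (he : e = 0 ∨ e = p) (n : ℕ) :
    ∀ (G : Type u) [Group G] [Finite G], Nat.card G = n → ∀ S : Sylow p G,
      FunctorHyp p F (S : Subgroup G) → Cfsg.HasNormalPComplement p G := by
  induction n using Nat.strong_induction_on with
  | _ n IH =>
  intro G _ _ hn S hS
  classical
  by_contra hcon
  have hG := hcon
  -- proper subgroups with the hypotheses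
  have hsub : ∀ H : Subgroup G, H ≠ ⊤ → ∀ T : Sylow p H,
      FunctorHyp p F ((T : Subgroup H).map H.subtype) → Cfsg.HasNormalPComplement p H := by
    intro H hH T hT
    have hlt : Nat.card H < n := hn ▸ lt_of_le_of_ne (Subgroup.card_le_card_group H)
      (fun h => hH (Subgroup.eq_top_of_card_eq H h))
    exact IH _ hlt H rfl T (functorHyp_of_map hF H.subtype H.subtype_injective T.2 hT)
  have hsubS : ∀ H : Subgroup G, H ≠ ⊤ → (S : Subgroup G) ≤ H →
      Cfsg.HasNormalPComplement p H := fun H hH hSH => by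
    refine hsub H hH (S.subtype hSH) ?_
    rw [Sylow.coe_subtype, Subgroup.map_subgroupOf_eq_of_le hSH]
    exact hS
  -- the maximal bad local subgroup
  haveI := Fintype.ofFinite (Subgroup G)
  let bad : Subgroup G → Prop := fun Q => IsPGroup p Q ∧ Q ≠ ⊥ ∧
    ¬ Cfsg.HasNormalPComplement p ↥(Subgroup.normalizer (Q : Set G))
  obtain ⟨U, ⟨hU, hU1, hUN⟩, hUmax⟩ : ∃ U, bad U ∧ ∀ Q, bad Q →
      sylowCard p (Subgroup.normalizer (Q : Set G)) < sylowCard p (Subgroup.normalizer (U : Set G)) ∨
      sylowCard p (Subgroup.normalizer (Q : Set G)) = sylowCard p (Subgroup.normalizer (U : Set G))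
        ∧ Nat.card Q ≤ Nat.card U := by
    obtain ⟨Q₀, hQ₀⟩ : ∃ Q, bad Q := by
      by_contra h
      exact hG (hasNormalPComplement_of_normalizers fun Q hQ hQ1 =>
        by_contra fun hc => h ⟨Q, hQ, hQ1, hc⟩)
    obtain ⟨U₁, hU₁, h₁⟩ := Finset.exists_max_image (Finset.univ.filter bad)
      (fun Q => sylowCard p (Subgroup.normalizer (Q : Set G))) ⟨Q₀, by simp [hQ₀]⟩
    obtain ⟨U, hU, h₂⟩ := Finset.exists_max_image (Finset.univ.filter fun Q => bad Q ∧
      sylowCard p (Subgroup.normalizer (Q : Set G)) = sylowCard p (Subgroup.normalizer (U₁ : Set G)))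
      (fun Q => Nat.card Q) ⟨U₁, by simpa using hU₁⟩
    simp only [Finset.mem_filter, Finset.mem_univ, true_and] at hU h₁ h₂
    refine ⟨U, hU.1, fun Q hQ => ?_⟩
    rcases lt_or_eq_of_le (h₁ Q hQ) with h | h
    · exact Or.inl (hU.2 ▸ h)
    · exact Or.inr ⟨h.trans hU.2.symm, h₂ Q ⟨hQ, h⟩⟩
  set N := Subgroup.normalizer (U : Set G) with hN
  -- `U` is normal
  have hNtop : N = ⊤ := by
    by_contra hNtop
    let T : Sylow p N := default
    set TG := (T : Subgroup N).map N.subtype with hTG
    have hTGp : IsPGroup p TG := T.2.map _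
    have hUT : U ≤ TG := by
      haveI : (U.subgroupOf N).Normal :=
        (Subgroup.normal_subgroupOf_iff_le_normalizer Subgroup.le_normalizer).mpr le_rfl
      haveI : (U.comap N.subtype).Normal := ‹(U.subgroupOf N).Normal›
      have h := (T.3 ((hU.comap_of_injective N.subtype N.subtype_injective).to_sup_of_normal_left
        T.2) le_sup_right)
      have h' : U.subgroupOf N ≤ (T : Subgroup N) := le_sup_left.trans h.le
      rw [hTG, ← Subgroup.map_subgroupOf_eq_of_le (Subgroup.le_normalizer : U ≤ N)]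
      exact Subgroup.map_mono h'
    obtain ⟨S', hS'⟩ := hTGp.exists_le_sylow
    refine hUN (hsub N hNtop T ?_)
    rcases hS'.eq_or_lt with h | h
    · rw [show (T : Subgroup N).map N.subtype = (S' : Subgroup G) from h]
      exact functorHyp_sylow hF S S' hS
    · have hgrow := lt_inf_normalizer S'.2 h
      have key : ∀ X : Subgroup G, IsPGroup p X → X ≠ ⊥ →
          Subgroup.normalizer (TG : Set G) ≤ Subgroup.normalizer (X : Set G) →
          Cfsg.HasNormalPComplement p ↥(Subgroup.normalizer (X : Set G)) := by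
        intro X hX hX1 hle
        by_contra hbad
        have h1 : Nat.card TG < sylowCard p (Subgroup.normalizer (X : Set G)) :=
          (Set.ncard_lt_ncard hgrow (Set.toFinite _)).trans_le (card_le_sylowCard
            (S'.2.to_le inf_le_left) (inf_le_right.trans hle))
        have h2 : sylowCard p N = Nat.card TG := by
          rw [hTG, Subgroup.card_map_of_injective N.subtype_injective]
          rfl
        rcases hUmax X ⟨hX, hX1, hbad⟩ with h3 | ⟨h3, -⟩ <;> omega
      exact key _ (hTGp.to_le (hF.le TG hTGp)) (hF.ne_bot TG hTGp (ne_bot_of_le_ne_bot hU1 hUT))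
        (hF.normalizer_le hTGp)
  haveI hUn : U.Normal := Subgroup.normalizer_eq_top_iff.mp hNtop
  have hUS : U ≤ (S : Subgroup G) := by
    have h := (S.3 (hU.to_sup_of_normal_left S.2) le_sup_right)
    exact le_sup_left.trans h.le
  -- `U = O_p(G)`; larger subgroups normal in `S` have good normalizers
  have hbigger : ∀ V : Subgroup G, IsPGroup p V → Nat.card U < Nat.card V →
      (S : Subgroup G) ≤ Subgroup.normalizer (V : Set G) →
      Cfsg.HasNormalPComplement p ↥(Subgroup.normalizer (V : Set G)) := by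
    intro V hV hlt hSV
    by_contra hbad
    have hV1 : V ≠ ⊥ := by
      rintro rfl
      rw [Subgroup.card_bot] at hlt
      exact absurd hlt (not_lt.mpr Nat.card_pos)
    have h1 : sylowCard p N ≤ sylowCard p (Subgroup.normalizer (V : Set G)) :=
      (sylowCard_le N S).trans (card_le_sylowCard S.2 hSV)
    rcases hUmax V ⟨hV, hV1, hbad⟩ with h2 | ⟨-, h2⟩ <;> omega
  have hUcore : U = Cfsg.pCore p G := by
    refine Subgroup.eq_of_le_of_card_ge (Fitting.le_pCore hUn hU) ?_
    by_contra h
    haveI := Fitting.pCore_normal (G := G) p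
    refine hG (hasNPC_top.mp ?_)
    rw [← Subgroup.normalizer_eq_top (Cfsg.pCore p G)]
    exact hbigger _ (Fitting.pCore_isPGroup p) (not_le.mp h) (by simp [Subgroup.normalizer_eq_top])
  -- `O_{p'}(G) = 1`
  have hO : Cfsg.pPrimeCore p G = ⊥ := by
    by_contra hne
    haveI := pPrimeCore_normal p G
    set f := QuotientGroup.mk' (Cfsg.pPrimeCore p G) with hf
    have hfs : Function.Surjective f := QuotientGroup.mk'_surjective _
    have hker : (Nat.card f.ker).Coprime p := by
      rw [hf, QuotientGroup.ker_mk']; exact pPrimeCore_coprime p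
    have hlt : Nat.card (G ⧸ Cfsg.pPrimeCore p G) < n := by
      rw [← hn, Subgroup.card_eq_card_quotient_mul_card_subgroup (Cfsg.pPrimeCore p G)]
      exact lt_mul_of_one_lt_right Nat.card_pos ((Subgroup.one_lt_card_iff_ne_bot _).mpr hne)
    have hinj : Set.InjOn f ((S : Subgroup G) : Set G) := fun a ha b hb h => by
      refine inv_mul_eq_one.mp (PSolvable.eq_one_of_mem_of_mem S.2 hker (mul_mem (inv_mem ha) hb) ?_)
      rw [MonoidHom.mem_ker, map_mul, map_inv, h, inv_mul_cancel]
    have hT : FunctorHyp p F (↑(S.mapSurjective hfs) : Subgroup (G ⧸ Cfsg.pPrimeCore p G)) := by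
      rw [Sylow.coe_mapSurjective, FunctorHyp, ← hF.map f _ S.2 hinj,
        ← PSolvable.map_normalizer_eq hfs hker (S.2.to_le (hF.le _ S.2))]
      exact hasNormalPComplement_of_surjective _ (f.subgroupMap_surjective _) hS
    exact hG (hasNPC_of_ker f hfs hker (IH _ hlt _ rfl _ hT))
  -- the quotient by `U`
  set π := QuotientGroup.mk' U with hπ
  have hπs : Function.Surjective π := QuotientGroup.mk'_surjective U
  set Sb : Sylow p (G ⧸ U) := S.mapSurjective hπs with hSb
  have hSb1 : (Sb : Subgroup (G ⧸ U)) ≠ ⊥ := by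
    intro h
    rw [hSb, Sylow.coe_mapSurjective, Subgroup.map_eq_bot_iff, hπ, QuotientGroup.ker_mk'] at h
    refine hG (hasNPC_top.mp (hasNPC_of_le ?_ hS))
    rw [le_antisymm h hUS, ← Subgroup.normalizer_eq_top U]
    exact hF.normalizer_le hU
  have hltU : Nat.card (G ⧸ U) < n := by
    rw [← hn, Subgroup.card_eq_card_quotient_mul_card_subgroup U]
    exact lt_mul_of_one_lt_right Nat.card_pos ((Subgroup.one_lt_card_iff_ne_bot U).mpr hU1)
  have hquot : ∀ Q : Subgroup (G ⧸ U), IsPGroup p Q → Q ≠ ⊥ →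
      (Sb : Subgroup (G ⧸ U)) ≤ Subgroup.normalizer (Q : Set (G ⧸ U)) →
      Cfsg.HasNormalPComplement p ↥(Subgroup.normalizer (Q : Set (G ⧸ U))) := by
    intro Q hQ hQ1 hSQ
    have hV : IsPGroup p ↥(Q.comap π) :=
      hQ.comap_of_ker_isPGroup π (by rw [hπ, QuotientGroup.ker_mk']; exact hU)
    have hcard : Nat.card U < Nat.card ↥(Q.comap π) := by
      rw [PSolvable.card_comap_of_surjective hπs, hπ, QuotientGroup.ker_mk']
      exact lt_mul_of_one_lt_right Nat.card_pos ((Subgroup.one_lt_card_iff_ne_bot Q).mpr hQ1)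
    have hN' := hbigger _ hV hcard (by
      rw [← Subgroup.comap_normalizer_eq_of_surjective Q hπs, ← Subgroup.map_le_iff_le_comap]
      rwa [hSb, Sylow.coe_mapSurjective] at hSQ)
    rw [← Subgroup.map_comap_eq_self_of_surjective hπs (Subgroup.normalizer (Q : Set (G ⧸ U))),
      Subgroup.comap_normalizer_eq_of_surjective Q hπs]
    exact hasNormalPComplement_of_surjective _ (π.subgroupMap_surjective _) hN'
  have hquotNPC : Cfsg.HasNormalPComplement p (G ⧸ U) :=
    IH _ hltU _ rfl Sb (hquot _ (Sb.2.to_le (hF.le _ Sb.2)) (hF.ne_bot _ Sb.2 hSb1)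
      (Subgroup.le_normalizer.trans (hF.normalizer_le Sb.2)))
  set Kb := Cfsg.pResidual p (G ⧸ U) with hKb
  haveI hKn : Kb.Normal := pResidual_normal p _
  have hKc : (Nat.card Kb).Coprime p :=
    (hp.out.coprime_iff_not_dvd.mpr (hasNormalPComplement_iff_pResidual.mp hquotNPC)).symm
  -- `C(U) ≤ U`
  have hsol : Cfsg.IsPSolvable p G := by
    refine PSolvable.isPSolvable_of_quotient U (Or.inl hU)
      (PSolvable.isPSolvable_of_quotient Kb (Or.inr hKc)
        (PSolvable.isPSolvable_of_isSolvable ?_))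
    haveI := (isPGroup_quotient_pResidual (p := p) (G := G ⧸ U)).isNilpotent
    exact inferInstance
  have hCU : Subgroup.centralizer (U : Set G) ≤ U := by
    have h := PSolvable.centralizer_pCore_le hsol hO
    rwa [← hUcore] at h
  -- `S̄` acts irreducibly on `K̄`
  have hmin : ∀ L : Subgroup (G ⧸ U), L ≤ Kb →
      (Sb : Subgroup (G ⧸ U)) ≤ Subgroup.normalizer (L : Set (G ⧸ U)) → L = ⊥ ∨ L = Kb := by
    intro L hLK hSL
    have hcop : (Nat.card L).Coprime p := hKc.coprime_dvd_left (Subgroup.card_dvd_of_le hLK)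
    have hdL : L ⊓ (Sb : Subgroup (G ⧸ U)) = ⊥ :=
      Coprime.inf_eq_bot_of_coprime_card (PSolvable.coprime_card_of_isPGroup Sb.2 hcop).symm
    by_cases htop : L ⊔ (Sb : Subgroup (G ⧸ U)) = ⊤
    · right
      refine Subgroup.eq_of_le_of_card_ge hLK ?_
      have h1 := Coprime.card_sup_mul_card_inf hSL
      rw [htop, hdL, Subgroup.card_bot, mul_one, Subgroup.card_top] at h1
      have h2 := Coprime.card_sup_mul_card_inf (K := Kb) (S := (Sb : Subgroup (G ⧸ U)))
        Subgroup.le_normalizer_of_normal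
      rw [sup_sylow_eq_top Sb, Subgroup.card_top, Coprime.inf_eq_bot_of_coprime_card
        (PSolvable.coprime_card_of_isPGroup Sb.2 hKc).symm, Subgroup.card_bot, mul_one, h1] at h2
      exact (Nat.eq_of_mul_eq_mul_right Nat.card_pos h2).ge
    · left
      set H := (L ⊔ (Sb : Subgroup (G ⧸ U))).comap π with hH
      have hHtop : H ≠ ⊤ := fun h => htop (by
        rw [← Subgroup.map_comap_eq_self_of_surjective hπs (L ⊔ _), ← hH, h,
          Subgroup.map_top_of_surjective _ hπs])
      have hSH : (S : Subgroup G) ≤ H := by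
        rw [hH, ← Subgroup.map_le_iff_le_comap]
        exact le_trans (le_of_eq (by rw [hSb, Sylow.coe_mapSurjective])) le_sup_right
      have hHp : IsPGroup p H := isPGroup_of_hasNPC hU hCU (hUS.trans hSH) (hsubS H hHtop hSH)
      have hLp : IsPGroup p L := by
        refine (hHp.map π).to_le ?_
        rw [hH, Subgroup.map_comap_eq_self_of_surjective hπs]
        exact le_sup_left
      rw [eq_bot_iff]
      intro x hx
      rw [Subgroup.mem_bot]
      exact PSolvable.eq_one_of_mem_of_mem hLp hcop hx hx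
  have hK1 : Kb ≠ ⊥ := by
    intro h
    refine hG (hasNormalPComplement_of_isPGroup ?_)
    have hq : IsPGroup p (G ⧸ U) := by
      have hq' : IsPGroup p ((G ⧸ U) ⧸ Kb) := isPGroup_quotient_pResidual
      refine hq'.of_injective (QuotientGroup.mk' Kb) ?_
      rw [← MonoidHom.ker_eq_bot_iff, QuotientGroup.ker_mk', h]
    have h2 := (hq.to_subgroup ⊤).comap_of_ker_isPGroup π (by rw [hπ, QuotientGroup.ker_mk']; exact hU)
    rw [Subgroup.comap_top] at h2
    exact h2.of_equiv Subgroup.topEquiv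
  -- `K̄` is an abelian `q`-group
  obtain ⟨q, hq, hKq⟩ : ∃ q, q.Prime ∧ IsPGroup q Kb := by
    obtain ⟨q, hq, hqd⟩ := Nat.exists_prime_and_dvd (fun h => hK1 (Subgroup.card_eq_one.mp h))
    haveI := Fact.mk hq
    haveI : Group.IsNilpotent (Sb : Subgroup (G ⧸ U)) := Sb.2.isNilpotent
    obtain ⟨Q, hQ⟩ := Coprime.exists_invariant_sylow (A := (Sb : Subgroup (G ⧸ U))) (K := Kb)
      Subgroup.le_normalizer_of_normal (PSolvable.coprime_card_of_isPGroup Sb.2 hKc)
      (Or.inl inferInstance) q
    refine ⟨q, hq, ?_⟩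
    rcases hmin _ (Subgroup.map_subtype_le _) hQ with h | h
    · exact absurd ((Subgroup.map_eq_bot_iff_of_injective _ Kb.subtype_injective).mp h)
        (Q.ne_bot_of_dvd_card hqd)
    · rw [← h]; exact Q.2.map _
  haveI := Fact.mk hq
  have hKab : ∀ x ∈ Kb, ∀ y ∈ Kb, x * y = y * x := by
    rcases hmin ⁅Kb, Kb⁆ (Subgroup.commutator_le_self Kb) (Subgroup.le_normalizer_of_normal) with h | h
    · exact fun x hx y hy => (Subgroup.commutator_eq_bot_iff_le_centralizer.mp h hy x hx)
    · haveI := hKq.isNilpotent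
      exact absurd (eq_bot_of_le_commutator_self h.ge) hK1
  have hfaith : Subgroup.centralizer (Kb : Set (G ⧸ U)) ≤ Kb := by
    have hCb : (Sb : Subgroup (G ⧸ U)) ⊓ Subgroup.centralizer (Kb : Set (G ⧸ U)) = ⊥ := by
      set D := (Sb : Subgroup (G ⧸ U)) ⊓ Subgroup.centralizer (Kb : Set (G ⧸ U)) with hD
      have hDn : D.Normal := by
        rw [← Subgroup.normalizer_eq_top_iff, eq_top_iff, ← sup_sylow_eq_top Sb]
        refine sup_le (fun k hk => Subgroup.centralizer_le_normalizer _ fun d hd =>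
          (hd.2 k hk).symm) (Coprime.le_normalizer_inf_of_le Subgroup.le_normalizer
          (Coprime.le_normalizer_centralizer Subgroup.le_normalizer_of_normal))
      have hV : IsPGroup p ↥(D.comap π) := (Sb.2.to_le inf_le_left).comap_of_ker_isPGroup π
        (by rw [hπ, QuotientGroup.ker_mk']; exact hU)
      have hVle : D.comap π ≤ U := (Fitting.le_pCore (hDn.comap π) hV).trans hUcore.ge
      rw [← Subgroup.map_comap_eq_self_of_surjective hπs D, Subgroup.map_eq_bot_iff, hπ,
        QuotientGroup.ker_mk']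
      exact hVle
    intro c hc
    have hc' : c ∈ Kb ⊔ (Sb : Subgroup (G ⧸ U)) := sup_sylow_eq_top Sb ▸ Subgroup.mem_top c
    obtain ⟨k, hk, s, hs, rfl⟩ := Subgroup.mem_sup_of_normal_left.mp hc'
    have hs' : s ∈ (Sb : Subgroup (G ⧸ U)) ⊓ Subgroup.centralizer (Kb : Set (G ⧸ U)) :=
      ⟨hs, by
        have : k⁻¹ * (k * s) ∈ Subgroup.centralizer (Kb : Set (G ⧸ U)) :=
          mul_mem (inv_mem fun x hx => hKab x hx k hk) hc
        rwa [inv_mul_cancel_left] at this⟩
    rw [hCb, Subgroup.mem_bot] at hs'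
    rw [hs', mul_one]
    exact hk
  have hq' : IsPGroup p ((G ⧸ U) ⧸ Kb) := isPGroup_quotient_pResidual
  have hst : StableAt p (S : Subgroup G) := stableAt_of_abelian_top hp2 hU _ S.2 Kb hKc hKab hq'
    (fun L hL hLn => hmin L hL Subgroup.le_normalizer_of_normal) hfaith
  have hcc : Subgroup.centralizer (Cfsg.pCore p G : Set G) ≤ Cfsg.pCore p G := by
    rw [← hUcore]; exact hCU
  have hN' : (F G (S : Subgroup G)).Normal := by
    by_cases hJ : (thompsonJ e (S : Subgroup G)).Normal
    · exact hF.normal G S hcc hst hJ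
    · have hH : Subgroup.normalizer (thompsonJ e (S : Subgroup G) : Set G) ≠ ⊤ :=
        fun h => hJ (Subgroup.normalizer_eq_top_iff.mp h)
      have hSH : (S : Subgroup G) ≤ Subgroup.normalizer (thompsonJ e (S : Subgroup G) : Set G) :=
        (S : Subgroup G).le_normalizer.trans (normalizer_le_normalizer_thompsonJ e _)
      have hp' := isPGroup_of_hasNPC hU hCU (hUS.trans hSH) (hsubS _ hH hSH)
      exact normal_of_constrained hp2 he S hcc hst ((hF.le_zJ G _ S.2).trans inf_le_left)
        ((hF.le_zJ G _ S.2).trans inf_le_right)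
        ((S.3 hp' hSH).le.trans ((S : Subgroup G).le_normalizer.trans (hF.normalizer_le S.2)))
  refine hG (hasNPC_top.mp (hasNPC_of_le (le_of_eq ?_) hS))
  exact (Subgroup.normalizer_eq_top_iff.mpr hN').symm

/-- **Glauberman–Thompson.** -/
theorem hasNormalPComplement_of_functor (hF : IsZJFunctor p e F) (hp2 : p ≠ 2)
    (he : e = 0 ∨ e = p) {G : Type u} [Group G] [Finite G] (S : Sylow p G)
    (h : Cfsg.HasNormalPComplement p ↥(Subgroup.normalizer (F G (S : Subgroup G) : Set G))) :
    Cfsg.HasNormalPComplement p G :=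
  complement_aux hF hp2 he _ G rfl S h

theorem zJ_ne_bot {G : Type u} [Group G] [Finite G] (he : e = 0 ∨ e = p) {P : Subgroup G}
    (hP : IsPGroup p P) (hP1 : P ≠ ⊥) : ∃ z ∈ zJ e P, z ≠ 1 ∧ z ^ p = 1 := by
  have he' : p ∣ e := by rcases he with rfl | rfl <;> simp
  have hJ : thompsonJ e P ≠ ⊥ := thompsonJ_ne_bot he' hP hP1
  have hJp : IsPGroup p (thompsonJ e P) := hP.to_le (thompsonJ_le e P)
  haveI : Nontrivial (thompsonJ e P) := (Subgroup.nontrivial_iff_ne_bot _).mpr hJ
  haveI := hJp.center_nontrivial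
  obtain ⟨k, hk0, hk⟩ :=
    (hJp.to_subgroup (Subgroup.center (thompsonJ e P))).nontrivial_iff_card.mp inferInstance
  obtain ⟨z, hz⟩ := exists_prime_orderOf_dvd_card' (G := Subgroup.center (thompsonJ e P)) p
    (hk ▸ dvd_pow_self p hk0.ne')
  refine ⟨((z : thompsonJ e P) : G), ⟨(z : thompsonJ e P).2, fun t ht =>
    congrArg Subtype.val (Subgroup.mem_center_iff.mp z.2 ⟨t, ht⟩)⟩, ?_, ?_⟩
  · intro h
    refine hp.out.ne_one ?_
    rw [← hz, orderOf_eq_one_iff]
    exact Subtype.ext (Subtype.ext h)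
  · have h1 := pow_orderOf_eq_one z
    rw [hz] at h1
    simpa using congrArg (fun t : Subgroup.center (thompsonJ e P) => ((t : thompsonJ e P) : G)) h1

theorem isZJFunctor_zJ (hp2 : p ≠ 2) (he : e = 0 ∨ e = p) :
    IsZJFunctor.{u} p e (fun _ _ P => zJ e P) where
  le_zJ _ _ _ _ _ := le_rfl
  map f _ _ hf := map_zJ e f hf
  ne_bot P hP hP1 h := by
    obtain ⟨z, hz, hz1, -⟩ := zJ_ne_bot he hP hP1
    rw [show zJ e P = ⊥ from h, Subgroup.mem_bot] at hz
    exact hz1 hz
  normal _ _ _ S hc hst _ :=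
    normal_of_constrained hp2 he S hc hst inf_le_left inf_le_right (normalizer_thompsonJ_le_zJ e _)

theorem isZJFunctor_omega_zJ (hp2 : p ≠ 2) :
    IsZJFunctor.{u} p p (fun _ _ P => Cfsg.omegaOne p (zJ p P)) where
  le_zJ _ _ _ _ _ := omegaOne_le p _
  map f P _ hf := by
    show (Cfsg.omegaOne p (zJ p P)).map f = _
    rw [map_omegaOne p f (hf.mono (zJ_le p P)), map_zJ p f hf]
  ne_bot P hP hP1 h := by
    obtain ⟨z, hz, hz1, hzp⟩ := zJ_ne_bot (Or.inr rfl) hP hP1
    have hz' : z ∈ Cfsg.omegaOne p (zJ p P) := Subgroup.subset_closure ⟨hz, hzp⟩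
    rw [show Cfsg.omegaOne p (zJ p P) = ⊥ from h, Subgroup.mem_bot] at hz'
    exact hz1 hz'
  normal _ _ _ S hc hst _ :=
    normal_of_constrained hp2 (Or.inr rfl) S hc hst ((omegaOne_le p _).trans inf_le_left)
      ((omegaOne_le p _).trans inf_le_right)
      ((normalizer_thompsonJ_le_zJ p _).trans (normalizer_le_normalizer_omegaOne p _))

end CfsgLib.ZJ
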