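import Mathlib
import Cfsg.Agent.Lib.ZJ.Complement

/-!
The stable normal closure of `Ω₁(Z(S))` as a ZJ functor.
-/

set_option autoImplicit false
set_option linter.style.haveILetI false

open scoped commutatorElement Pointwise

namespace CfsgLib.ZJ

open CfsgLib.Transfer

universe u

variable {p : ℕ}

theorem thompsonSubgroup_eq_top (p : ℕ) (S : Type*) [Group S] :
    Cfsg.thompsonSubgroup p S = thompsonJ p (⊤ : Subgroup S) := by
  unfold Cfsg.thompsonSubgroup thompsonJ
  congr 1
  ext A
  simp [Cfsg.maxElementaryAbelianSubgroups, maxAbExp, Cfsg.IsElementaryAbelian, IsAbExp]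

theorem omegaCenterThompson_eq (p : ℕ) (S : Type*) [Group S] :
    Cfsg.omegaCenterThompson p S = Cfsg.omegaOne p (zJ p (⊤ : Subgroup S)) := by
  rw [Cfsg.omegaCenterThompson, thompsonSubgroup_eq_top]; rfl

theorem map_omegaCenterThompson' {S H : Type*} [Group S] [Group H] (f : S →* H)
    (hf : Function.Injective f) :
    (Cfsg.omegaCenterThompson p S).map f = Cfsg.omegaOne p (zJ p f.range) := by
  rw [omegaCenterThompson_eq, map_omegaOne p f hf.injOn, map_zJ p f hf.injOn, MonoidHom.range_eq_map]

theorem map_thompsonSubgroup' {S H : Type*} [Group S] [Group H] (f : S →* H)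
    (hf : Function.Injective f) :
    (Cfsg.thompsonSubgroup p S).map f = thompsonJ p f.range := by
  rw [thompsonSubgroup_eq_top, map_thompsonJ p f hf.injOn, MonoidHom.range_eq_map]

theorem isStableEmbedding_comp {S S' H : Type u} [Group S] [Group S'] [Group H] (η : S ≃* S')
    {τ : S' →* H} (h : Cfsg.IsStableEmbedding p τ) :
    Cfsg.IsStableEmbedding p (τ.comp η.toMonoidHom) := by
  obtain ⟨hinj, hfin, hP, hc, hJ, hst⟩ := h
  have hinj' : Function.Injective (τ.comp η.toMonoidHom) := hinj.comp η.injective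
  have hr : (τ.comp η.toMonoidHom).range = τ.range := by
    rw [MonoidHom.range_comp, MonoidHom.range_eq_top.mpr η.surjective, ← MonoidHom.range_eq_map]
  refine ⟨hinj', hfin, hr ▸ hP, hc, ?_, fun V hV hle => hst V ?_⟩
  · rw [map_thompsonSubgroup' _ hinj', hr, ← map_thompsonSubgroup' _ hinj]
    exact hJ
  · rw [map_omegaCenterThompson' _ hinj', hr, ← map_omegaCenterThompson' _ hinj] at hle
    exact hle

theorem map_stableNormalClosure_le {S S' : Type u} [Group S] [Group S'] (η : S ≃* S') :
    Cfsg.stableNormalClosure p S ≤ (Cfsg.stableNormalClosure p S').comap η.toMonoidHom := by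
  rw [Cfsg.stableNormalClosure, Cfsg.stableNormalClosure, sInf_eq_iInf, sInf_eq_iInf,
    Subgroup.comap_iInf]
  refine le_iInf fun W => ?_
  rw [Subgroup.comap_iInf]
  refine le_iInf fun hW => ?_
  refine iInf₂_le (W.comap η.toMonoidHom) ⟨?_, fun H _ τ hτ => ?_⟩
  · rw [← Subgroup.map_le_iff_le_comap]
    refine le_trans ?_ hW.1
    rw [map_omegaOne p _ η.injective.injOn]
    refine (Subgroup.closure_mono fun x hx => ⟨?_, hx.2⟩)
    obtain ⟨z, hz, rfl⟩ := hx.1
    simp only [SetLike.mem_coe, Subgroup.mem_center_iff] at hz ⊢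
    intro g
    obtain ⟨g, rfl⟩ := η.surjective g
    exact (map_mul η g z).symm.trans ((congrArg η (hz g)).trans (map_mul η z g))
  · have h := hW.2 H (τ.comp η.symm.toMonoidHom) (isStableEmbedding_comp η.symm hτ)
    rwa [← Subgroup.map_map, show W.map η.symm.toMonoidHom = W.comap η.toMonoidHom from
      (Subgroup.comap_equiv_eq_map_symm η W).symm] at h

theorem map_stableNormalClosure {S S' : Type u} [Group S] [Group S'] (η : S ≃* S') :
    (Cfsg.stableNormalClosure p S).map η.toMonoidHom = Cfsg.stableNormalClosure p S' := by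
  refine le_antisymm (Subgroup.map_le_iff_le_comap.mpr (map_stableNormalClosure_le η)) ?_
  exact (map_stableNormalClosure_le η.symm).trans
    (Subgroup.comap_equiv_eq_map_symm η.symm _).le

variable [hp : Fact p.Prime]

theorem omegaOne_center_le {S : Type u} [Group S] [Finite S] :
    Cfsg.omegaOne p (Subgroup.center S) ≤ Cfsg.omegaCenterThompson p S := by
  rw [omegaCenterThompson_eq]
  refine (Subgroup.closure_le _).mpr fun z hz => Subgroup.subset_closure ⟨?_, hz.2⟩
  obtain ⟨A, hA⟩ := thompsonJ_nonempty p (⊤ : Subgroup S)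
  refine ⟨le_sSup hA (mem_of_commute hA (Subgroup.mem_top z) hz.2
    fun a _ => Subgroup.mem_center_iff.mp hz.1 a), fun j _ => Subgroup.mem_center_iff.mp hz.1 j⟩

theorem stableNormalClosure_le {S : Type u} [Group S] [Finite S] :
    Cfsg.stableNormalClosure p S ≤ Cfsg.omegaCenterThompson p S := by
  refine sInf_le ⟨omegaOne_center_le, fun H _ τ hτ => ?_⟩
  obtain ⟨hinj, -, -, -, hJ, -⟩ := hτ
  rw [map_thompsonSubgroup' τ hinj] at hJ
  rw [map_omegaCenterThompson' τ hinj, ← Subgroup.normalizer_eq_top_iff, eq_top_iff,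
    ← Subgroup.normalizer_eq_top_iff.mpr hJ]
  exact (normalizer_thompsonJ_le_zJ p _).trans (normalizer_le_normalizer_omegaOne p _)

omit hp in
theorem omegaOne_center_le_stableNormalClosure {S : Type u} [Group S] :
    Cfsg.omegaOne p (Subgroup.center S) ≤ Cfsg.stableNormalClosure p S :=
  le_sInf fun _ hW => hW.1

theorem stableNormalClosure_ne_bot {S : Type u} [Group S] [Finite S] [Nontrivial S]
    (hS : IsPGroup p S) : Cfsg.stableNormalClosure p S ≠ ⊥ := by
  haveI := hS.center_nontrivial
  obtain ⟨k, hk0, hk⟩ := (hS.to_subgroup (Subgroup.center S)).nontrivial_iff_card.mp inferInstance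
  obtain ⟨z, hz⟩ := exists_prime_orderOf_dvd_card' (G := Subgroup.center S) p
    (hk ▸ dvd_pow_self p hk0.ne')
  intro h
  have h1 := pow_orderOf_eq_one z
  rw [hz] at h1
  have h2 : (z : S) ∈ Cfsg.stableNormalClosure p S := omegaOne_center_le_stableNormalClosure
    (Subgroup.subset_closure ⟨z.2, by simpa using congrArg Subtype.val h1⟩)
  rw [h, Subgroup.mem_bot] at h2
  refine hp.out.ne_one ?_
  rw [← hz, orderOf_eq_one_iff]
  exact Subtype.ext h2

theorem isZJFunctor_stableClosure (_hp2 : p ≠ 2) :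
    IsZJFunctor.{u} p p (fun _ _ P => (Cfsg.stableNormalClosure p ↥P).map P.subtype) where
  le_zJ G _ _ P _ := by
    refine (Subgroup.map_mono stableNormalClosure_le).trans ?_
    rw [map_omegaCenterThompson]
    exact omegaOne_le p _
  map {G G'} _ _ _ _ f P _ hf := by
    let η : ↥P ≃* ↥(P.map f) := MulEquiv.ofBijective (f.subgroupMap P)
      ⟨fun a b h => Subtype.ext (hf a.2 b.2 (congrArg Subtype.val h :)),
        f.subgroupMap_surjective P⟩
    show ((Cfsg.stableNormalClosure p ↥P).map P.subtype).map f = _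
    rw [← map_stableNormalClosure η, Subgroup.map_map, Subgroup.map_map]
    rfl
  ne_bot P hP hP1 h := by
    haveI : Nontrivial P := (Subgroup.nontrivial_iff_ne_bot _).mpr hP1
    exact stableNormalClosure_ne_bot hP
      ((Subgroup.map_eq_bot_iff_of_injective _ P.subtype_injective).mp h)
  normal G _ _ S hc hst hJ := by
    have hsub : Function.Injective (S : Subgroup G).subtype := (S : Subgroup G).subtype_injective
    have hτ : Cfsg.IsStableEmbedding p (S : Subgroup G).subtype := by
      refine ⟨hsub, inferInstance, ⟨S, (Subgroup.range_subtype _).symm⟩, hc, ?_, fun V hV hle => ?_⟩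
      · rw [map_thompsonSubgroup' _ hsub, Subgroup.range_subtype]
        exact hJ
      · haveI := hV
        exact isPStableOn_of_stableAt S hst V
          (S.2.to_le (hle.trans (Subgroup.map_subtype_le _)))
    let T : Set (Subgroup ↥(S : Subgroup G)) := {W | Cfsg.omegaOne p (Subgroup.center _) ≤ W ∧
      ∀ (H : Type u) [Group H] (τ : ↥(S : Subgroup G) →* H),
        Cfsg.IsStableEmbedding p τ → (W.map τ).Normal}
    show ((sInf T).map (S : Subgroup G).subtype).Normal
    refine ⟨fun x hx g => ?_⟩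
    obtain ⟨w, hw, rfl⟩ := hx
    have hmem : ∀ W ∈ T, g * (w : G) * g⁻¹ ∈ W.map (S : Subgroup G).subtype := fun W hW =>
      (hW.2 G _ hτ).conj_mem _ ⟨w, Subgroup.mem_sInf.mp hw W hW, rfl⟩ g
    obtain ⟨W₀, hW₀⟩ : T.Nonempty := ⟨Cfsg.omegaCenterThompson p _, omegaOne_center_le,
      fun H _ τ hτ' => by
        obtain ⟨hinj, -, -, -, hJ', -⟩ := hτ'
        rw [map_thompsonSubgroup' τ hinj] at hJ'
        rw [map_omegaCenterThompson' τ hinj, ← Subgroup.normalizer_eq_top_iff, eq_top_iff,
          ← Subgroup.normalizer_eq_top_iff.mpr hJ']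
        exact (normalizer_thompsonJ_le_zJ p _).trans (normalizer_le_normalizer_omegaOne p _)⟩
    obtain ⟨w', -, hw'⟩ := hmem W₀ hW₀
    refine ⟨w', Subgroup.mem_sInf.mpr fun W hW => ?_, hw'⟩
    obtain ⟨w'', hw'', he⟩ := hmem W hW
    rwa [← hsub (he.trans hw'.symm)]

end CfsgLib.ZJ
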