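import Mathlib
import Cfsg.Agent.Lib.ZJ.Core
import Cfsg.Prelude.Def_LocalEven

/-!
Transport of `p`-stability along homomorphisms: the groups `N(P)/C(P)`; the Frattini argument in
`opMod p B`.
-/

set_option autoImplicit false
set_option linter.style.haveILetI false

open scoped commutatorElement Pointwise

namespace CfsgLib.ZJ

variable {G H : Type*} [Group G] [Group H] {p : ℕ}

theorem apply_mem_normalizer_map {f : G →* H} {P : Subgroup G} {n : G}
    (hn : n ∈ Subgroup.normalizer (P : Set G)) :
    f n ∈ Subgroup.normalizer (P.map f : Set H) :=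
  Subgroup.le_normalizer_map (H := P) f ⟨n, hn, rfl⟩

theorem apply_mem_centralizer_map {f : G →* H} {P : Subgroup G} {n : G}
    (hn : n ∈ Subgroup.centralizer (P : Set G)) :
    f n ∈ Subgroup.centralizer (P.map f : Set H) := by
  rintro _ ⟨x, hx, rfl⟩
  rw [← map_mul, ← map_mul, hn x hx]

/-- The map `N(P)/C(P) → N(f P)/C(f P)`. -/
def normQuotHom (f : G →* H) (P : Subgroup G) :
    ↥(Subgroup.normalizer (P : Set G)) ⧸
        (Subgroup.centralizer (P : Set G)).subgroupOf (Subgroup.normalizer (P : Set G)) →*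
      ↥(Subgroup.normalizer (P.map f : Set H)) ⧸
        (Subgroup.centralizer (P.map f : Set H)).subgroupOf
          (Subgroup.normalizer (P.map f : Set H)) :=
  QuotientGroup.map _ _
    ((f.comp (Subgroup.normalizer (P : Set G)).subtype).codRestrict _
      fun n => apply_mem_normalizer_map n.2)
    fun _ hn => apply_mem_centralizer_map hn

theorem normQuotHom_injective (f : G →* H) {P : Subgroup G} (hf : Set.InjOn f (P : Set G)) :
    Function.Injective (normQuotHom f P) := by
  rw [injective_iff_map_eq_one]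
  intro x hx
  obtain ⟨⟨n, hn⟩, rfl⟩ := QuotientGroup.mk'_surjective _ x
  rw [QuotientGroup.mk'_apply, QuotientGroup.eq_one_iff, Subgroup.mem_subgroupOf]
  have h0 : f n ∈ Subgroup.centralizer (P.map f : Set H) :=
    (QuotientGroup.eq_one_iff (N := (Subgroup.centralizer (P.map f : Set H)).subgroupOf
      (Subgroup.normalizer (P.map f : Set H)))
      (⟨f n, apply_mem_normalizer_map hn⟩ : ↥(Subgroup.normalizer (P.map f : Set H)))).mp hx
  intro y hy
  have h1 : f y * f n = f n * f y := h0 (f y) ⟨y, hy, rfl⟩
  have h2 : n * y * n⁻¹ = y := hf ((Subgroup.mem_normalizer_iff.mp hn y).mp hy) hy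
    (by rw [map_mul, map_mul, map_inv, ← h1, mul_inv_cancel_right])
  exact (mul_inv_eq_iff_eq_mul.mp h2).symm

/-- Reflection of the stability conclusion. -/
theorem mem_pCore_normQuot_of_map (f : G →* H) {P : Subgroup G} (hf : Set.InjOn f (P : Set G))
    {g : G} (hg : g ∈ Subgroup.normalizer (P : Set G))
    (h : (QuotientGroup.mk (s := (Subgroup.centralizer (P.map f : Set H)).subgroupOf
        (Subgroup.normalizer (P.map f : Set H)))
        (⟨f g, apply_mem_normalizer_map hg⟩ : ↥(Subgroup.normalizer (P.map f : Set H)))) ∈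
      Cfsg.pCore p _) :
    (QuotientGroup.mk (s := (Subgroup.centralizer (P : Set G)).subgroupOf
        (Subgroup.normalizer (P : Set G))) (⟨g, hg⟩ : ↥(Subgroup.normalizer (P : Set G)))) ∈
      Cfsg.pCore p _ :=
  Fitting.le_pCore ((Fitting.pCore_normal p).comap _)
    ((Fitting.pCore_isPGroup p).comap_of_injective _ (normQuotHom_injective f hf)) h

/-- Transfer of the stability conclusion to an image. -/
theorem map_mem_pCore_normQuot (f : G →* H) {P : Subgroup G}
    (hsurj : Subgroup.normalizer (P.map f : Set H) ≤ (Subgroup.normalizer (P : Set G)).map f)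
    {g : G} (hg : g ∈ Subgroup.normalizer (P : Set G))
    (h : (QuotientGroup.mk (s := (Subgroup.centralizer (P : Set G)).subgroupOf
        (Subgroup.normalizer (P : Set G))) (⟨g, hg⟩ : ↥(Subgroup.normalizer (P : Set G)))) ∈
      Cfsg.pCore p _) :
    (QuotientGroup.mk (s := (Subgroup.centralizer (P.map f : Set H)).subgroupOf
        (Subgroup.normalizer (P.map f : Set H)))
        (⟨f g, apply_mem_normalizer_map hg⟩ : ↥(Subgroup.normalizer (P.map f : Set H)))) ∈
      Cfsg.pCore p _ := by
  have hs : Function.Surjective (normQuotHom f P) := fun x => by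
    obtain ⟨⟨m, hm⟩, rfl⟩ := QuotientGroup.mk'_surjective _ x
    obtain ⟨n, hn, rfl⟩ := hsurj hm
    exact ⟨QuotientGroup.mk ⟨n, hn⟩, rfl⟩
  exact Fitting.le_pCore ((Fitting.pCore_normal p).map _ hs) ((Fitting.pCore_isPGroup p).map _)
    ⟨_, h, rfl⟩

theorem map_quadratic (f : G →* H) {P : Subgroup G} {g : G}
    (hq : ⁅⁅P, Subgroup.zpowers g⁆, Subgroup.zpowers g⁆ = ⊥) :
    ⁅⁅P.map f, Subgroup.zpowers (f g)⁆, Subgroup.zpowers (f g)⁆ = ⊥ := by
  rw [← MonoidHom.map_zpowers f g, ← Subgroup.map_commutator, ← Subgroup.map_commutator, hq,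
    Subgroup.map_bot]

theorem isNormalizerPStable_of_injective (f : G →* H) (hf : Function.Injective f)
    (h : Cfsg.IsNormalizerPStable p H) : Cfsg.IsNormalizerPStable p G :=
  fun P hP g hg hq => mem_pCore_normQuot_of_map f hf.injOn hg
    (h (P.map f) (hP.map f) (f g) (apply_mem_normalizer_map hg) (map_quadratic f hq))

variable [Finite G] [hp : Fact p.Prime]

open CfsgLib.Transfer in
/-- Frattini: `G = N(S ⊓ opMod p B) · C(B)`. -/
theorem exists_frattini_opMod (S : Sylow p G) (B : Subgroup G) [B.Normal] (g : G) :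
    ∃ m ∈ Subgroup.normalizer (((S : Subgroup G) ⊓ opMod p B : Subgroup G) : Set G),
      ∃ c ∈ Subgroup.centralizer (B : Set G), m * c = g := by
  set L := opMod p B with hL
  haveI hLn : L.Normal := opMod_normal p B
  set C := Subgroup.centralizer (B : Set G) with hC
  set SL := (S : Subgroup G) ⊓ L with hSL
  let P : Sylow p L := IsPGroup.toSylow (S.2.comap_of_injective L.subtype L.subtype_injective)
    fun h => S.not_dvd_index (h.trans (relIndex_dvd_index_of_normal (S : Subgroup G) L))
  have hPmap : (P : Subgroup L).map L.subtype = SL := by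
    rw [hSL]
    exact Subgroup.subgroupOf_map_subtype (S : Subgroup G) L
  have hfr := Sylow.normalizer_sup_eq_top P
  rw [hPmap] at hfr
  have hLC : L = SL ⊔ C := by
    refine le_antisymm ?_ (sup_le inf_le_right (centralizer_le_opMod p B))
    have hq : (P : Subgroup L) ⊔ C.subgroupOf L = ⊤ := by
      refine Transfer.sylow_sup_eq_top_of_isPGroup_quotient P _ fun x => ?_
      obtain ⟨d, rfl⟩ := QuotientGroup.mk'_surjective (C.subgroupOf L) x
      obtain ⟨k, hk⟩ := exists_pow_mem_centralizer B d.2
      refine ⟨k, ?_⟩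
      rw [← map_pow, QuotientGroup.mk'_apply, QuotientGroup.eq_one_iff,
        Subgroup.mem_subgroupOf]
      exact hk
    have h2 := congrArg (Subgroup.map L.subtype) hq
    rw [Subgroup.map_sup, hPmap, Subgroup.subgroupOf_map_subtype, ← MonoidHom.range_eq_map,
      Subgroup.range_subtype] at h2
    exact h2.ge.trans (sup_le_sup_left inf_le_left _)
  have hN : Subgroup.normalizer (SL : Set G) ⊔ C = ⊤ := by
    refine top_unique (hfr.ge.trans (sup_le le_sup_left (hLC.le.trans ?_)))
    exact sup_le_sup_right (Subgroup.le_normalizer (H := SL)) C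
  exact Subgroup.mem_sup_of_normal_right.mp (hN.ge (Subgroup.mem_top g))

end CfsgLib.ZJ
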