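import Mathlib
import Cfsg.Agent.Lib.ZJ.NormQuot
import Cfsg.Agent.Lib.Transfer.ThompsonBasics
import Cfsg.Agent.Lib.PSolvable.Constrained

/-!
Quadratic elements centralize the stable normal closure `W`; `W` is normal in a constrained group
acting `p`-stably.
-/

set_option autoImplicit false
set_option linter.style.haveILetI false

open scoped commutatorElement Pointwise

namespace CfsgLib.ZJ

open CfsgLib.Transfer

universe u

variable {p : ℕ} [hp : Fact p.Prime]

omit hp in
theorem map_omegaCenterThompson_normal {S H : Type u} [Group S] [Group H] {τ : S →* H}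
    (hτ : Cfsg.IsStableEmbedding p τ) : ((Cfsg.omegaCenterThompson p S).map τ).Normal := by
  obtain ⟨hinj, -, -, -, hJ, -⟩ := hτ
  rw [map_thompsonSubgroup' τ hinj] at hJ
  rw [map_omegaCenterThompson' τ hinj, ← Subgroup.normalizer_eq_top_iff, eq_top_iff,
    ← Subgroup.normalizer_eq_top_iff.mpr hJ]
  exact (normalizer_thompsonJ_le_zJ p _).trans (normalizer_le_normalizer_omegaOne p _)

/-- The image of the stable normal closure under a stable embedding is normal. -/
theorem map_stableNormalClosure_normal {S H : Type u} [Group S] [Finite S] [Group H] {τ : S →* H}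
    (hτ : Cfsg.IsStableEmbedding p τ) : ((Cfsg.stableNormalClosure p S).map τ).Normal := by
  refine ⟨?_⟩
  rintro _ ⟨w, hw, rfl⟩ g
  obtain ⟨w', -, hw'⟩ := (map_omegaCenterThompson_normal hτ).conj_mem _
    ⟨w, stableNormalClosure_le hw, rfl⟩ g
  refine ⟨w', Subgroup.mem_sInf.mpr fun W hW => ?_, hw'⟩
  obtain ⟨w'', hw'', he⟩ := (hW.2 H τ hτ).conj_mem _ ⟨w, Subgroup.mem_sInf.mp hw W hW, rfl⟩ g
  rwa [← hτ.1 (he.trans hw'.symm)]

/-- An element acting quadratically on the stable normal closure centralizes it. -/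
theorem quadratic_stableNormalClosure {S : Type u} [Group S] [Finite S] (x : S)
    (hq : ⁅⁅Cfsg.stableNormalClosure p S, Subgroup.zpowers x⁆, Subgroup.zpowers x⁆ = ⊥) :
    ⁅Cfsg.stableNormalClosure p S, Subgroup.zpowers x⁆ = ⊥ := by
  classical
  haveI := Fintype.ofFinite (Subgroup S)
  set W := Cfsg.stableNormalClosure p S with hWdef
  let P : Subgroup S → Prop := fun U => Cfsg.omegaOne p (Subgroup.center S) ≤ U ∧ U ≤ W ∧
    ∀ y : S, ⁅⁅U, Subgroup.zpowers y⁆, Subgroup.zpowers y⁆ = ⊥ → ⁅U, Subgroup.zpowers y⁆ = ⊥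
  obtain ⟨U, hU, hmax⟩ := Finset.exists_max_image (Finset.univ.filter P)
    (fun U => Nat.card U) ⟨Cfsg.omegaOne p (Subgroup.center S), Finset.mem_filter.mpr
      ⟨Finset.mem_univ _, le_rfl, omegaOne_center_le_stableNormalClosure, fun y _ =>
        Subgroup.commutator_eq_bot_iff_le_centralizer.mpr
          ((omegaOne_le p _).trans (Subgroup.center_le_centralizer _))⟩⟩
  simp only [Finset.mem_filter, Finset.mem_univ, true_and] at hU hmax
  obtain ⟨hΩU, hUW, hUq⟩ := hU
  suffices h : W ≤ U by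
    rw [le_antisymm h hUW] at hq ⊢
    exact hUq x hq
  refine sInf_le ⟨hΩU, fun H _ τ hτ => ?_⟩
  haveI : Finite H := hτ.2.1
  obtain ⟨hinj, -, ⟨Q, hQ⟩, -, -, hst⟩ := id hτ
  haveI := map_stableNormalClosure_normal hτ
  set V := Subgroup.normalClosure ((U.map τ : Subgroup H) : Set H) with hV
  haveI hVn : V.Normal := Subgroup.normalClosure_normal
  have hVW : V ≤ W.map τ := Subgroup.normalClosure_le_normal (Subgroup.map_mono hUW)
  set U' := V.comap τ with hU'
  have hU'map : U'.map τ = V :=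
    Subgroup.map_comap_eq_self (hVW.trans (Subgroup.map_le_range _ _))
  have hUU' : U ≤ U' := Subgroup.map_le_iff_le_comap.mp Subgroup.le_normalClosure
  have hU'W : U' ≤ W := (Subgroup.comap_mono hVW).trans
    (Subgroup.comap_map_eq_self_of_injective hinj W).le
  have hP' : P U' := by
    refine ⟨hΩU.trans hUU', hU'W, fun y hy => ?_⟩
    have hy' := map_quadratic τ hy
    rw [hU'map] at hy'
    have hyL : τ y ∈ ((Q : Subgroup H) ⊓ opMod p V : Subgroup H) :=
      ⟨hQ.ge ⟨y, rfl⟩, hst V (hVW.trans (Subgroup.map_mono stableNormalClosure_le)) (τ y) hy'⟩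
    have hcen : V ≤ Subgroup.centralizer ({τ y} : Set H) := by
      refine (Subgroup.closure_le _).mpr ?_
      intro g hg
      obtain ⟨z, hz, hconj⟩ := Group.mem_conjugatesOfSet_iff.mp hg
      obtain ⟨k, rfl⟩ := isConj_iff.mp hconj
      obtain ⟨m, hm, c, hc, rfl⟩ := exists_frattini_opMod Q V k
      obtain ⟨u, hu, rfl⟩ := hz
      have hfix : c * τ u * c⁻¹ = τ u :=
        mul_inv_eq_iff_eq_mul.mpr (hc (τ u) (Subgroup.le_normalClosure ⟨u, hu, rfl⟩)).symm
      have hm' : m⁻¹ * τ y * m ∈ ((Q : Subgroup H) ⊓ opMod p V : Subgroup H) :=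
        (Subgroup.mem_normalizer_iff''.mp hm _).mp hyL
      obtain ⟨z, hz⟩ : m⁻¹ * τ y * m ∈ τ.range := hQ.le hm'.1
      have hzU : ⁅⁅U, Subgroup.zpowers z⁆, Subgroup.zpowers z⁆ = ⊥ := by
        have h2 := map_quadratic (MulAut.conj m⁻¹).toMonoidHom hy'
        rw [map_conj_eq_self_iff.mpr ((Subgroup.normalizer_eq_top V).symm ▸ Subgroup.mem_top m⁻¹),
          show (MulAut.conj m⁻¹).toMonoidHom (τ y) = τ z by rw [hz]; simp] at h2
        rw [← Subgroup.map_eq_bot_iff_of_injective _ hinj, Subgroup.map_commutator,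
          Subgroup.map_commutator, MonoidHom.map_zpowers, eq_bot_iff]
        exact (Subgroup.commutator_mono (Subgroup.commutator_mono Subgroup.le_normalClosure le_rfl)
          le_rfl).trans h2.le
      have h3 := Subgroup.commutator_eq_bot_iff_le_centralizer.mp (hUq z hzU) hu z
        (Subgroup.mem_zpowers z)
      have h4 : τ z * τ u = τ u * τ z := by rw [← map_mul, h3, map_mul]
      rw [hz] at h4
      rw [SetLike.mem_coe, Subgroup.mem_centralizer_singleton_iff,
        show m * c * τ u * (m * c)⁻¹ = m * (c * τ u * c⁻¹) * m⁻¹ by group, hfix]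
      calc m * τ u * m⁻¹ * τ y = m * (τ u * (m⁻¹ * τ y * m)) * m⁻¹ := by group
        _ = m * (m⁻¹ * τ y * m * τ u) * m⁻¹ := by rw [h4]
        _ = τ y * (m * τ u * m⁻¹) := by group
    rw [Subgroup.commutator_eq_bot_iff_le_centralizer]
    intro u hu z hz
    have h5 : Commute y u := hinj (by
      rw [map_mul, map_mul]
      exact (Subgroup.mem_centralizer_singleton_iff.mp (hcen hu)).symm)
    obtain ⟨i, rfl⟩ := Subgroup.mem_zpowers_iff.mp hz
    exact (h5.zpow_left i).eq
  rw [Subgroup.eq_of_le_of_card_ge hUU' (hmax U' hP'), hU'map]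
  infer_instance

open CfsgLib.Coprime in
/-- The stable normal closure of a Sylow subgroup is normal in a constrained group acting
`p`-stably. -/
theorem stableNormalClosure_normal {G : Type u} [Group G] [Finite G]
    (hst : Cfsg.IsActionPStable p G)
    (hc : Subgroup.centralizer (Cfsg.pCore p G : Set G) ≤ Cfsg.pCore p G) (S : Sylow p G) :
    ((Cfsg.stableNormalClosure p ↥(S : Subgroup G)).map (S : Subgroup G).subtype).Normal := by
  set S₀ := (S : Subgroup G) with hS₀
  set W := (Cfsg.stableNormalClosure p ↥S₀).map S₀.subtype with hW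
  have hWS : W ≤ S₀ := Subgroup.map_subtype_le _
  have hWz : W ≤ Cfsg.omegaOne p (zJ p S₀) := by
    rw [← map_omegaCenterThompson]
    exact Subgroup.map_mono stableNormalClosure_le
  have hWJ : W ≤ thompsonJ p S₀ := hWz.trans ((omegaOne_le p _).trans inf_le_left)
  have hWC : W ≤ Subgroup.centralizer (thompsonJ p S₀ : Set G) :=
    hWz.trans ((omegaOne_le p _).trans inf_le_right)
  have hWc : ∀ a ∈ W, ∀ b ∈ W, a * b = b * a := fun a ha b hb => hWC hb a (hWJ ha)
  have hWe : ∀ a ∈ W, a ^ p = 1 := by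
    obtain ⟨A, hA⟩ := thompsonJ_nonempty p S₀
    exact fun a ha => by
      refine Subgroup.closure_induction (fun x hx => hx.2) (one_pow p) ?_ ?_ (hWz ha)
      · intro x y hx hy hxp hyp
        have hxy : Commute x y :=
          ((omegaOne_le p (zJ p S₀) hy).2 x (omegaOne_le p (zJ p S₀) hx).1)
        rw [hxy.mul_pow, hxp, hyp, one_mul]
      · intro x _ hxp
        rw [inv_pow, hxp, inv_one]
  -- `W` in the normalizer of `J`
  set N := Subgroup.normalizer (Cfsg.thompsonSubgroupOf p S₀ : Set G) with hN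
  have hNJ : N = Subgroup.normalizer (thompsonJ p S₀ : Set G) := by
    rw [hN, thompsonSubgroupOf_eq]
  have hSN : S₀ ≤ N :=
    hNJ ▸ S₀.le_normalizer.trans (normalizer_le_normalizer_thompsonJ p S₀)
  set U := Cfsg.pCore p G with hU
  haveI hUn : U.Normal := Fitting.pCore_normal p
  have hUp : IsPGroup p U := Fitting.pCore_isPGroup p
  have hUS : U ≤ S₀ := normal_le_sylow hUp S
  let τ : ↥S₀ →* ↥N := Subgroup.inclusion hSN
  have hτsub : N.subtype.comp τ = S₀.subtype := rfl
  have hτ : Cfsg.IsStableEmbedding p τ := by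
    refine ⟨Subgroup.inclusion_injective hSN, inferInstance, ⟨S.subtype hSN, ?_⟩, ?_, ?_, ?_⟩
    · ext x
      exact ⟨fun hx => ⟨⟨x, hx⟩, rfl⟩, by rintro ⟨y, rfl⟩; exact y.2⟩
    · have hle : U.subgroupOf N ≤ Cfsg.pCore p N :=
        Fitting.le_pCore inferInstance (hUp.comap_of_injective N.subtype N.subtype_injective)
      intro x hx
      refine hle (Subgroup.mem_subgroupOf.mpr (hc fun y hy => ?_))
      exact congrArg Subtype.val (hx ⟨y, hSN (hUS hy)⟩ (hle hy))
    · have he : (Cfsg.thompsonSubgroup p ↥S₀).map τ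
          = (Cfsg.thompsonSubgroupOf p S₀).subgroupOf N := by
        apply Subgroup.map_injective N.subtype_injective
        rw [Subgroup.map_subgroupOf_eq_of_le, Subgroup.map_map, hτsub]
        · rfl
        · exact Subgroup.le_normalizer
      rw [he]
      exact Subgroup.normal_subgroupOf_iff_le_normalizer Subgroup.le_normalizer |>.mpr le_rfl
    · intro V _ hV
      refine hst.2.2 S V ?_
      refine (Subgroup.map_mono hV).trans ?_
      rw [Subgroup.map_map, hτsub]
  have hNW : N ≤ Subgroup.normalizer (W : Set G) := by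
    have h1 := map_stableNormalClosure_normal hτ
    have h2 : ((Cfsg.stableNormalClosure p ↥S₀).map τ).map N.subtype = W := by
      rw [Subgroup.map_map, hτsub]
    rw [← h2]
    intro n hn
    exact Subgroup.le_normalizer_map (H := (Cfsg.stableNormalClosure p ↥S₀).map τ) N.subtype
      ⟨⟨n, hn⟩, (Subgroup.normalizer_eq_top_iff.mpr h1).symm ▸ Subgroup.mem_top _, rfl⟩
  have hSW : S₀ ≤ Subgroup.normalizer (W : Set G) := hSN.trans hNW
  -- `W ≤ U`
  have hWU : W ≤ U := by
    intro w hw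
    obtain ⟨D, hDn, hKD, ⟨k, hk⟩, hwD⟩ := hst.2.1 w
      ((quadratic_of_normalizes hWc (hUS.trans hSW) hw).le.trans bot_le)
    set K₀ := Cfsg.sectionKernel U ((frattini ↥U).map U.subtype) with hK₀
    have hK₀p : IsPGroup p K₀ := by
      refine PSolvable.isPGroup_of_forall_coprime fun x hx hxo => ?_
      have hz : Subgroup.zpowers x ≤ K₀ := Subgroup.zpowers_le.mpr hx
      have hcop : (Nat.card (Subgroup.zpowers x)).Coprime (Nat.card (frattini ↥U)) := by
        obtain ⟨j, hj⟩ := (hUp.to_subgroup (frattini ↥U)).exists_card_eq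
        rw [Nat.card_zpowers, hj]
        exact hxo.pow_right j
      have hxU : x ∈ U := by
        refine hc (le_centralizer_of_frattini Subgroup.le_normalizer_of_normal hcop
          (fun a ha y hy => ?_) (Subgroup.mem_zpowers x))
        rw [← QuotientGroup.eq_one_iff (N := (frattini ↥U).map U.subtype)]
        have h1 : Commute (QuotientGroup.mk a : G ⧸ (frattini ↥U).map U.subtype)
            (QuotientGroup.mk y) := (hz ha (QuotientGroup.mk y) ⟨y, hy, rfl⟩).symm
        rw [QuotientGroup.mk_mul, QuotientGroup.mk_mul, QuotientGroup.mk_mul,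
          QuotientGroup.mk_inv, QuotientGroup.mk_inv, h1.eq]
        group
      exact congrArg Subtype.val (Transfer.orderOf_eq_one_of_coprime_of_isPGroup hUp
        (y := (⟨x, hxU⟩ : U)) (by rwa [← Subgroup.orderOf_coe]))
    refine Fitting.le_pCore hDn ?_ hwD
    obtain ⟨j, hj⟩ := hK₀p.exists_card_eq
    refine IsPGroup.of_card (n := j + k) ?_
    rw [pow_add, ← hj, ← hk, ← Subgroup.relIndex_bot_left, ← Subgroup.relIndex_bot_left K₀,
      Subgroup.relIndex_mul_relIndex _ _ _ bot_le hKD]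
  -- conjugates of `W` commute
  set V := Subgroup.normalClosure (W : Set G) with hV
  haveI hVn : V.Normal := Subgroup.normalClosure_normal
  have hVU : V ≤ U := Subgroup.normalClosure_le_normal hWU
  have hWconj : ∀ g : G, ∀ a ∈ W, ∀ b ∈ W, a * (g * b * g⁻¹) = g * b * g⁻¹ * a := by
    intro g a ha b hb
    set y := g * b * g⁻¹ with hy
    have hyU : y ∈ U := hUn.conj_mem b (hWU hb) g
    have hq : ⁅⁅W, Subgroup.zpowers y⁆, Subgroup.zpowers y⁆ = ⊥ := by
      refine quadratic_of_normalizes (A := W.map (MulAut.conj g).toMonoidHom) ?_ ?_ ?_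
      · rintro _ ⟨u, hu, rfl⟩ _ ⟨v, hv, rfl⟩
        rw [← map_mul, ← map_mul, hWc u hu v hv]
      · intro w hw
        have h1 : g⁻¹ * w * g ∈ Subgroup.normalizer (W : Set G) := by
          refine hSW (hUS ?_)
          simpa using hUn.conj_mem w (hWU hw) g⁻¹
        have h2 := Subgroup.le_normalizer_map (MulAut.conj g).toMonoidHom ⟨_, h1, rfl⟩
        rwa [show (MulAut.conj g).toMonoidHom (g⁻¹ * w * g) = w by simp [mul_assoc]] at h2
      · exact ⟨b, hb, rfl⟩
    have hq' : ⁅⁅Cfsg.stableNormalClosure p ↥S₀, Subgroup.zpowers (⟨y, hUS hyU⟩ : ↥S₀)⁆,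
        Subgroup.zpowers (⟨y, hUS hyU⟩ : ↥S₀)⁆ = ⊥ := by
      rw [← Subgroup.map_eq_bot_iff_of_injective _ S₀.subtype_injective, Subgroup.map_commutator,
        Subgroup.map_commutator, MonoidHom.map_zpowers]
      exact hq
    have h3 := quadratic_stableNormalClosure _ hq'
    obtain ⟨a', ha', rfl⟩ := ha
    exact congrArg Subtype.val (Subgroup.commutator_eq_bot_iff_le_centralizer.mp h3 ha'
      (⟨y, hUS hyU⟩ : ↥S₀) (Subgroup.mem_zpowers _)).symm
  have hgens : ∀ x ∈ Group.conjugatesOfSet (W : Set G), ∀ y ∈ Group.conjugatesOfSet (W : Set G),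
      x * y = y * x := by
    intro x hx y hy
    obtain ⟨a, ha, hca⟩ := Group.mem_conjugatesOfSet_iff.mp hx
    obtain ⟨g, rfl⟩ := isConj_iff.mp hca
    obtain ⟨b, hb, hcb⟩ := Group.mem_conjugatesOfSet_iff.mp hy
    obtain ⟨h, rfl⟩ := isConj_iff.mp hcb
    have h1 := congrArg (fun t => g * t * g⁻¹) (hWconj (g⁻¹ * h) a ha b hb)
    simpa [mul_assoc] using h1
  have hVcomm : IsMulCommutative V := Subgroup.isMulCommutative_closure hgens
  have hVc : ∀ x ∈ V, ∀ y ∈ V, Commute x y := fun x hx y hy =>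
    congrArg Subtype.val (mul_comm' (⟨x, hx⟩ : V) ⟨y, hy⟩)
  have hVe : ∀ x ∈ V, x ^ p = 1 := fun x hx => by
    refine Subgroup.closure_induction ?_ (one_pow p) ?_ ?_ hx
    · intro y hy
      obtain ⟨a, ha, hca⟩ := Group.mem_conjugatesOfSet_iff.mp hy
      obtain ⟨g, rfl⟩ := isConj_iff.mp hca
      rw [conj_pow, hWe a ha]; group
    · intro y z hy hz hyp hzp
      rw [(hVc y hy z hz).mul_pow, hyp, hzp, one_mul]
    · intro y _ hyp
      rw [inv_pow, hyp, inv_one]
  have hstV : ∀ a : G, ⁅⁅V, Subgroup.zpowers a⁆, Subgroup.zpowers a⁆ = ⊥ → a ∈ opMod p V :=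
    hst.1 V ⟨hVcomm, hVe⟩
  set C := Subgroup.centralizer (V : Set G) with hC
  set L := opMod p V with hL
  set SL := S₀ ⊓ L with hSL
  have hWV : W ≤ V := Subgroup.le_normalClosure
  have hfix : ∀ c ∈ C, ∀ z ∈ W, c * z * c⁻¹ = z := fun c hc z hz =>
    mul_inv_eq_iff_eq_mul.mpr (hc z (hWV hz)).symm
  have hall : ∀ A ∈ maxAbExp p S₀, A ≤ L := by
    classical
    haveI := Fintype.ofFinite (Subgroup G)
    by_contra hne
    push Not at hne
    obtain ⟨A₁, hA₁, hmax⟩ := Finset.exists_max_image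
      (Finset.univ.filter fun A => A ∈ maxAbExp p S₀ ∧ ¬ A ≤ L)
      (fun A => Nat.card ↥(A ⊓ V)) (by
        obtain ⟨A, hA, hAL⟩ := hne
        exact ⟨A, by simp [hA, hAL]⟩)
    simp only [Finset.mem_filter, Finset.mem_univ, true_and] at hA₁ hmax
    obtain ⟨hA₁, hA₁L⟩ := hA₁
    have hA₁c : ∀ x ∈ A₁, ∀ y ∈ A₁, x * y = y * x := fun x hx y hy => by
      haveI := hA₁.2.1.1
      exact congrArg Subtype.val (mul_comm' (⟨x, hx⟩ : A₁) ⟨y, hy⟩)
    have hVN : ¬ V ≤ Subgroup.normalizer (A₁ : Set G) := fun h => hA₁L fun a ha =>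
      hstV a (quadratic_of_normalizes hA₁c h ha)
    obtain ⟨A₂, hA₂, hlt, hA₂n⟩ := glauberman_replacement' (Or.inr rfl) S.2 hA₁
      (hVU.trans hUS) Subgroup.le_normalizer_of_normal
      (fun x hx y hy a _ => by rw [commutatorElement_eq_one_iff_commute.mpr (hVc x hx y hy),
        mul_one, one_mul])
      (fun x hx y hy z _ => by rw [commutatorElement_eq_one_iff_commute.mpr (hVc x hx y hy),
        mul_one, one_mul])
      hVN (Or.inr ⟨hVc, hVe⟩)
    have hA₂L : A₂ ≤ L := by
      by_contra h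
      exact absurd (hmax A₂ ⟨hA₂, h⟩) (not_le.mpr (Set.ncard_lt_ncard hlt (Set.toFinite _)))
    have hA₂SL : A₂ ∈ maxAbExp p SL :=
      ⟨le_inf hA₂.1 hA₂L, hA₂.2.1, fun K hK => hA₂.2.2 K (hK.trans inf_le_left)⟩
    set J₁ := thompsonJ p SL with hJ₁
    have hJ₁J : J₁ ≤ thompsonJ p S₀ :=
      sSup_le fun A hA => le_sSup ⟨hA.1.trans inf_le_left, hA.2.1, fun K hK hKe =>
        (hA₂.2.2 K hK hKe).trans (hA.2.2 A₂ hA₂SL.1 hA₂.2.1)⟩
    have hVC : V ≤ Subgroup.centralizer (J₁ : Set G) := by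
      refine (Subgroup.closure_le _).mpr ?_
      intro g hg
      obtain ⟨z, hz, hconj⟩ := Group.mem_conjugatesOfSet_iff.mp hg
      obtain ⟨h, rfl⟩ := isConj_iff.mp hconj
      obtain ⟨m, hm, c, hc', rfl⟩ := exists_frattini_opMod S V h
      rw [SetLike.mem_coe, show m * c * z * (m * c)⁻¹ = m * (c * z * c⁻¹) * m⁻¹ by group,
        hfix c hc' z hz]
      have hm' := le_normalizer_centralizer (A := Subgroup.normalizer (J₁ : Set G)) le_rfl
        (normalizer_le_normalizer_thompsonJ p SL hm)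
      exact (Subgroup.mem_normalizer_iff.mp hm' z).mp fun j hj => hWC hz j (hJ₁J hj)
    refine hVN fun x hx => hA₂n ?_
    exact mem_of_commute hA₂ (hUS (hVU hx)) (hVe x hx) fun a ha => hVC hx a (le_sSup hA₂SL ha)
  have hJ : thompsonJ p SL = thompsonJ p S₀ :=
    thompsonJ_eq_of_le (sSup_le fun A hA => le_inf hA.1 (hall A hA)) inf_le_left
  refine ⟨fun z hz g => ?_⟩
  obtain ⟨m, hm, c, hc', rfl⟩ := exists_frattini_opMod S V g
  rw [show m * c * z * (m * c)⁻¹ = m * (c * z * c⁻¹) * m⁻¹ by group, hfix c hc' z hz]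
  have hm' : m ∈ N := by
    rw [hNJ, ← hJ]
    exact normalizer_le_normalizer_thompsonJ p SL hm
  exact (Subgroup.mem_normalizer_iff.mp (hNW hm') z).mp hz

end CfsgLib.ZJ
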