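import Mathlib
import Cfsg.Agent.Lib.Transfer.Basic
import Cfsg.Agent.Lib.Transfer.Sylow
import Cfsg.Agent.Lib.Fitting.Basic

/-!
Elements of prime power order inverted by some element (real `p`-elements): reduction to inverting
`2`-elements, and lifting through kernels that are `p`-groups or of order prime to `p`.
-/

set_option autoImplicit false
set_option linter.style.haveILetI false

namespace CfsgLib.ZJ

open CfsgLib.Transfer

variable {G : Type*} [Group G] {p : ℕ}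

/-- `M` has a non-trivial `p`-element that it inverts. -/
def HasRealIn (p : ℕ) (M : Subgroup G) : Prop :=
  ∃ x ∈ M, ∃ g ∈ M, x ≠ 1 ∧ (∃ k : ℕ, x ^ p ^ k = 1) ∧ g * x * g⁻¹ = x⁻¹

theorem HasRealIn.mono {M N : Subgroup G} (h : HasRealIn p M) (hle : M ≤ N) : HasRealIn p N := by
  obtain ⟨x, hx, g, hg, r⟩ := h
  exact ⟨x, hle hx, g, hle hg, r⟩

theorem HasRealIn.map {G' : Type*} [Group G'] {M : Subgroup G} (f : G →* G')
    (hf : Function.Injective f) (h : HasRealIn p M) : HasRealIn p (M.map f) := by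
  obtain ⟨x, hx, g, hg, hx1, ⟨k, hk⟩, hgx⟩ := h
  refine ⟨f x, ⟨x, hx, rfl⟩, f g, ⟨g, hg, rfl⟩, fun e => hx1 (hf (e.trans (map_one f).symm)),
    ⟨k, by rw [← map_pow, hk, map_one]⟩, ?_⟩
  rw [← map_inv, ← map_mul, ← map_mul, hgx, map_inv]

theorem hasRealIn_top_iff (M : Subgroup G) : HasRealIn p (⊤ : Subgroup M) ↔ HasRealIn p M := by
  refine ⟨fun h => (h.map M.subtype M.subtype_injective).mono (Subgroup.map_subtype_le _), ?_⟩
  rintro ⟨x, hx, g, hg, hx1, ⟨k, hk⟩, hgx⟩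
  exact ⟨⟨x, hx⟩, trivial, ⟨g, hg⟩, trivial, fun e => hx1 (congrArg Subtype.val e),
    ⟨k, Subtype.ext hk⟩, Subtype.ext hgx⟩

theorem mem_of_pow_mem {H : Subgroup G} {i : G} {q k n : ℕ} (hi : i ^ q ^ k = 1)
    (hn : n.Coprime q) (h : i ^ n ∈ H) : i ∈ H := by
  have hco : n.Coprime (orderOf i) :=
    Nat.Coprime.coprime_dvd_right (orderOf_dvd_of_pow_eq_one hi) (hn.pow_right k)
  obtain ⟨m, hm⟩ := exists_pow_eq_self_of_coprime hco
  rw [← hm]
  exact pow_mem h m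

theorem eq_one_of_eq_inv [hp : Fact p.Prime] (hp2 : p ≠ 2) {x : G} (hx : ∃ k : ℕ, x ^ p ^ k = 1)
    (h : x = x⁻¹) : x = 1 := by
  obtain ⟨k, hk⟩ := hx
  have h2 : x ^ 2 = 1 := by
    rw [pow_two]
    nth_rewrite 2 [h]
    exact mul_inv_cancel x
  refine orderOf_eq_one_iff.mp (Nat.eq_one_of_dvd_coprimes ?_ (orderOf_dvd_of_pow_eq_one hk)
    (orderOf_dvd_of_pow_eq_one h2))
  exact ((Nat.coprime_primes hp.out Nat.prime_two).mpr hp2).pow_left k

/-- Odd powers of an inverting element invert. -/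
theorem inverts_pow_of_odd {x g : G} (h : g * x * g⁻¹ = x⁻¹) {m : ℕ} (hm : Odd m) :
    g ^ m * x * (g ^ m)⁻¹ = x⁻¹ := by
  obtain ⟨r, rfl⟩ := hm
  have h2 : g * x⁻¹ * g⁻¹ = x := by
    rw [← conj_inv, h, inv_inv]
  have hc : Commute (g * g) x⁻¹ := by
    show g * g * x⁻¹ = x⁻¹ * (g * g)
    calc g * g * x⁻¹ = g * (g * x⁻¹ * g⁻¹) * g := by group
      _ = g * x * g⁻¹ * (g * g) := by rw [h2]; group
      _ = x⁻¹ * (g * g) := by rw [h]
  have hr : (g * g) ^ r * x⁻¹ * ((g * g) ^ r)⁻¹ = x⁻¹ := by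
    rw [(hc.pow_left r).eq, mul_inv_cancel_right]
  have hg : g ^ (2 * r + 1) = (g * g) ^ r * g := by
    rw [pow_succ, pow_mul, pow_two]
  rw [hg, show (g * g) ^ r * g * x * ((g * g) ^ r * g)⁻¹
    = (g * g) ^ r * (g * x * g⁻¹) * ((g * g) ^ r)⁻¹ by group, h, hr]

/-- An odd power of a `g` that is a `2`-element. -/
theorem exists_two_part [Finite G] (g : G) :
    ∃ m : ℕ, Odd m ∧ ∃ k : ℕ, (g ^ m) ^ 2 ^ k = 1 := by
  obtain ⟨a, m, hm, -, -, ho⟩ := exists_pow_coprime_part (p := 2) g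
  exact ⟨m, Nat.not_even_iff_odd.mp fun h => hm (even_iff_two_dvd.mp h), a,
    by rw [← ho]; exact pow_orderOf_eq_one _⟩

/-- An inverted element is inverted by a `2`-element. -/
theorem exists_two_inverter [Finite G] {x g : G} (h : g * x * g⁻¹ = x⁻¹) :
    ∃ i ∈ Subgroup.zpowers g, (∃ k : ℕ, i ^ 2 ^ k = 1) ∧ i * x * i⁻¹ = x⁻¹ := by
  obtain ⟨m, hm, hk⟩ := exists_two_part g
  exact ⟨g ^ m, pow_mem (Subgroup.mem_zpowers g) m, hk, inverts_pow_of_odd h hm⟩

/-- A `2`-element normalizing and not centralizing `P` has a power inverting some element of `P`. -/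
theorem exists_inverted_of_not_centralize {P : Subgroup G} :
    ∀ (k : ℕ) (i : G), i ^ 2 ^ k = 1 → i ∈ Subgroup.normalizer (P : Set G) →
      i ∉ Subgroup.centralizer (P : Set G) →
      ∃ x ∈ P, ∃ t ∈ Subgroup.zpowers i, x ≠ 1 ∧ t * x * t⁻¹ = x⁻¹ := by
  intro k
  induction k with
  | zero =>
    intro i hi _ hc
    rw [pow_zero, pow_one] at hi
    exact absurd (hi ▸ one_mem _) hc
  | succ k ih =>
    intro i hi hn hc
    by_cases h2 : i ^ 2 ∈ Subgroup.centralizer (P : Set G)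
    · rw [Subgroup.mem_centralizer_iff] at hc
      push Not at hc
      obtain ⟨y, hy, hyi⟩ := hc
      have hiy : i * y * i⁻¹ ∈ P := (Subgroup.mem_normalizer_iff.mp hn y).mp hy
      refine ⟨y⁻¹ * (i * y * i⁻¹), mul_mem (inv_mem hy) hiy, i, Subgroup.mem_zpowers i, fun e => hyi ?_,
        ?_⟩
      · calc y * i = y * i * 1 := (mul_one _).symm
          _ = y * i * (i⁻¹ * (y⁻¹ * (i * y * i⁻¹)) * i) := by rw [e]; group
          _ = i * y := by group
      · have h3 : i * i * y * (i * i)⁻¹ = y := by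
          rw [← pow_two]
          exact mul_inv_eq_iff_eq_mul.mpr (Subgroup.mem_centralizer_iff.mp h2 y hy).symm
        calc i * (y⁻¹ * (i * y * i⁻¹)) * i⁻¹ = (i * y * i⁻¹)⁻¹ * (i * i * y * (i * i)⁻¹) := by group
          _ = (y⁻¹ * (i * y * i⁻¹))⁻¹ := by rw [h3]; group
    · obtain ⟨x, hx, t, ht, r⟩ := ih (i ^ 2)
        (by rw [← pow_mul, ← pow_succ']; exact hi) (pow_mem hn 2) h2
      exact ⟨x, hx, t, Subgroup.zpowers_le.mpr (pow_mem (Subgroup.mem_zpowers i) 2) ht, r⟩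

theorem HasRealIn.of_not_centralize {M P : Subgroup G} (hP : IsPGroup p P) (hPM : P ≤ M) {i : G}
    (hiM : i ∈ M) (hi : ∃ k : ℕ, i ^ 2 ^ k = 1) (hn : i ∈ Subgroup.normalizer (P : Set G))
    (hc : i ∉ Subgroup.centralizer (P : Set G)) : HasRealIn p M := by
  obtain ⟨k, hk⟩ := hi
  obtain ⟨x, hx, t, ht, hx1, r⟩ := exists_inverted_of_not_centralize k i hk hn hc
  obtain ⟨j, hj⟩ := hP ⟨x, hx⟩
  exact ⟨x, hPM hx, t, Subgroup.zpowers_le.mpr hiM ht, hx1, ⟨j, congrArg Subtype.val hj⟩, r⟩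

theorem isPGroup_zpowers_of_pow {x : G} (hx : ∃ k : ℕ, x ^ p ^ k = 1) :
    IsPGroup p (Subgroup.zpowers x) := by
  obtain ⟨k, hk⟩ := hx
  rintro ⟨_, i, rfl⟩
  refine ⟨k, Subtype.ext ?_⟩
  show (x ^ i) ^ p ^ k = 1
  rw [← zpow_natCast, ← zpow_mul, mul_comm, zpow_mul, zpow_natCast, hk, one_zpow]

theorem mem_normalizer_of_conj_mem [Finite G] {H : Subgroup G} {g : G}
    (h : ∀ x ∈ H, g * x * g⁻¹ ∈ H) : g ∈ Subgroup.normalizer (H : Set G) :=
  Transfer.map_conj_eq_self_iff.mp (Subgroup.eq_of_le_of_card_ge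
    (Subgroup.map_le_iff_le_comap.mpr fun x hx => h x hx)
    (Subgroup.card_map_of_injective (MulAut.conj g).injective).ge)

/-- An element of a normalizer is, up to the subgroup, in the normalizer of a Sylow subgroup of it
containing a given `p`-subgroup. -/
theorem exists_mul_mem_normalizer [Finite G] [Fact p.Prime] {B A : Subgroup G} (hA : IsPGroup p A)
    (hAB : A ≤ B) {n : G} (hn : n ∈ Subgroup.normalizer (B : Set G)) :
    ∃ P : Subgroup G, IsPGroup p P ∧ A ≤ P ∧ P ≤ B ∧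
      ∃ k ∈ B, k * n ∈ Subgroup.normalizer (P : Set G) := by
  obtain ⟨P, hP⟩ := (hA.comap_of_injective B.subtype B.subtype_injective).exists_le_sylow
  let σ : MulAut B := Subgroup.normalizerMonoidHom B ⟨n, hn⟩
  have hσ : Function.Surjective σ.toMonoidHom := σ.surjective
  obtain ⟨k, hk⟩ := MulAction.exists_smul_eq B (P.mapSurjective hσ) P
  refine ⟨(P : Subgroup B).map B.subtype, P.2.map _, fun x hx => ⟨⟨x, hAB hx⟩, hP hx, rfl⟩,
    Subgroup.map_subtype_le _, k, k.2, mem_normalizer_of_conj_mem ?_⟩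
  rintro _ ⟨x, hx, rfl⟩
  refine ⟨k * σ x * k⁻¹, ?_, ?_⟩
  · have h1 : k * σ x * k⁻¹ ∈ ((k • P.mapSurjective hσ : Sylow p B) :
        Subgroup B) := by
      rw [Sylow.coe_subgroup_smul, Sylow.coe_mapSurjective]
      exact ⟨σ x, ⟨x, hx, rfl⟩, rfl⟩
    exact hk ▸ h1
  · show (k : G) * (n * x * n⁻¹) * (k : G)⁻¹ = k * n * x * ((k : G) * n)⁻¹
    group

/-- Real `p`-elements lift through a `p`-group kernel. -/
theorem HasRealIn.of_map [Finite G] [Fact p.Prime] (hp2 : p ≠ 2) {Q : Type*} [Group Q] (f : G →* Q)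
    (hker : IsPGroup p f.ker) {M : Subgroup G} (hkM : f.ker ≤ M) (h : HasRealIn p (M.map f)) :
    HasRealIn p M := by
  obtain ⟨_, ⟨x, hx, rfl⟩, _, ⟨g, hg, rfl⟩, hx1, hxp, hgx⟩ := h
  obtain ⟨m, hm, hk⟩ := exists_two_part g
  set i := g ^ m
  have hfi : f i * f x * (f i)⁻¹ = (f x)⁻¹ := by rw [map_pow]; exact inverts_pow_of_odd hgx hm
  set P := (Subgroup.zpowers (f x)).comap f with hP
  have hPM : P ≤ M := fun z hz => by
    obtain ⟨j, hj⟩ := Subgroup.mem_zpowers_iff.mp (Subgroup.mem_comap.mp hz)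
    have : (x ^ j)⁻¹ * z ∈ M := hkM (by rw [MonoidHom.mem_ker, map_mul, map_inv, map_zpow, hj]; group)
    simpa using mul_mem (zpow_mem hx j) this
  refine HasRealIn.of_not_centralize
    ((isPGroup_zpowers_of_pow hxp).comap_of_ker_isPGroup f hker) hPM (pow_mem hg m) hk
    (mem_normalizer_of_conj_mem fun z hz => ?_) fun hc => hx1 ?_
  · obtain ⟨j, hj⟩ := Subgroup.mem_zpowers_iff.mp (Subgroup.mem_comap.mp hz)
    show f (i * z * i⁻¹) ∈ Subgroup.zpowers (f x)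
    rw [map_mul, map_mul, map_inv, ← hj, ← conj_zpow, hfi]
    exact zpow_mem (inv_mem (Subgroup.mem_zpowers _)) j
  · refine eq_one_of_eq_inv hp2 hxp ?_
    have h1 := congrArg f (Subgroup.mem_centralizer_iff.mp hc x (Subgroup.mem_zpowers (f x)))
    rw [map_mul, map_mul] at h1
    rw [← hfi, ← h1, mul_inv_cancel_right]

/-- Real `p`-elements lift through a kernel of order prime to `p`. -/
theorem HasRealIn.of_map_coprime [Finite G] [hp : Fact p.Prime] {Q : Type*} [Group Q] (f : G →* Q)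
    (hf : Function.Surjective f) (hker : (Nat.card f.ker).Coprime p)
    (h : HasRealIn p (⊤ : Subgroup Q)) : HasRealIn p (⊤ : Subgroup G) := by
  obtain ⟨x, -, g, -, hx1, hxp, hgx⟩ := h
  obtain ⟨x₀, rfl⟩ := hf x
  obtain ⟨g₀, rfl⟩ := hf g
  obtain ⟨a, m, hm, -, -, ho⟩ := exists_pow_coprime_part (p := p) x₀
  set y := x₀ ^ m with hy
  have hyp : ∃ k : ℕ, y ^ p ^ k = 1 := ⟨a, by rw [← ho]; exact pow_orderOf_eq_one _⟩
  have hy1 : f y ≠ 1 := fun e => hx1 (by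
    obtain ⟨k, hk⟩ := hxp
    exact Subgroup.mem_bot.mp (mem_of_pow_mem (H := ⊥) hk
      (hp.out.coprime_iff_not_dvd.mpr hm).symm (by rw [Subgroup.mem_bot, ← map_pow]; exact e)))
  have hgy : f g₀ * f y * (f g₀)⁻¹ = (f y)⁻¹ := by
    rw [hy, map_pow, ← conj_pow, hgx, inv_pow]
  set B := (Subgroup.zpowers (f y)).comap f with hB
  have hgB : g₀ ∈ Subgroup.normalizer (B : Set G) := mem_normalizer_of_conj_mem fun z hz => by
    obtain ⟨j, hj⟩ := Subgroup.mem_zpowers_iff.mp (Subgroup.mem_comap.mp hz)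
    rw [hB, Subgroup.mem_comap, map_mul, map_mul, map_inv, ← hj, ← conj_zpow, hgy]
    exact zpow_mem (inv_mem (Subgroup.mem_zpowers _)) j
  obtain ⟨P, hP, hyP, hPB, k, hk, hn⟩ := exists_mul_mem_normalizer (B := B)
    (isPGroup_zpowers_of_pow hyp) (Subgroup.zpowers_le.mpr (Subgroup.mem_zpowers (f y))) hgB
  have hyP' : y ∈ P := hyP (Subgroup.mem_zpowers y)
  have hny : k * g₀ * y * (k * g₀)⁻¹ ∈ P := (Subgroup.mem_normalizer_iff.mp hn y).mp hyP'
  have hker1 : k * g₀ * y * (k * g₀)⁻¹ * y ∈ f.ker := by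
    obtain ⟨j, hj⟩ := Subgroup.mem_zpowers_iff.mp (Subgroup.mem_comap.mp hk)
    rw [MonoidHom.mem_ker, map_mul, map_mul, map_mul, map_inv, map_mul, ← hj,
      show (f y) ^ j * f g₀ * f y * ((f y) ^ j * f g₀)⁻¹
        = (f y) ^ j * (f g₀ * f y * (f g₀)⁻¹) * ((f y) ^ j)⁻¹ by group, hgy]
    group
  have h1 : k * g₀ * y * (k * g₀)⁻¹ * y = 1 := by
    obtain ⟨b, hb⟩ := hP ⟨_, mul_mem hny hyP'⟩
    refine orderOf_eq_one_iff.mp (Nat.eq_one_of_dvd_coprimes (hker.pow_right b)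
      (Subgroup.orderOf_dvd_natCard _ hker1) (orderOf_dvd_of_pow_eq_one ?_))
    exact congrArg Subtype.val hb
  refine ⟨y, trivial, k * g₀, trivial, fun e => hy1 (by rw [e, map_one]), hyp, ?_⟩
  exact eq_inv_of_mul_eq_one_left h1

end CfsgLib.ZJ
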