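import Mathlib
import Cfsg.Prelude.Def_LocalEven
import Cfsg.Agent.Lib.ZJ.Core
import Cfsg.Agent.Lib.ZJ.RealBase
import Cfsg.Agent.Lib.Baer.Basic
import Cfsg.Agent.Lib.Qd.Stable

/-!
A `p`-element acting quadratically and non-stably on a normal `p`-subgroup `W` lies in a `p`-subgroup
normalized by a `2`-element that does not centralize `W`.
-/

set_option autoImplicit false
set_option linter.style.haveILetI false

namespace CfsgLib.ZJ

open scoped MatrixGroups commutatorElement IsMulCommutative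
open CfsgLib.Transfer

universe u

variable {p : ℕ} [hp : Fact p.Prime]

theorem exists_two_element_elementary {G : Type u} [Group G] [Finite G] (hp2 : p ≠ 2)
    (V : Subgroup G) [hVn : V.Normal] (hV : Cfsg.IsElementaryAbelian p V) {a : G}
    (ha : ∃ k : ℕ, a ^ p ^ k = 1)
    (hq : ⁅⁅V, Subgroup.zpowers a⁆, Subgroup.zpowers a⁆ = ⊥) (hna : a ∉ opMod p V) :
    ∃ i : G, (∃ k : ℕ, i ^ 2 ^ k = 1) ∧ i ∉ Subgroup.centralizer (V : Set G) ∧
      ∃ P : Subgroup G, IsPGroup p P ∧ a ∈ P ∧ i ∈ Subgroup.normalizer (P : Set G) := by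
  haveI := hV.1
  set C := Subgroup.centralizer (V : Set G) with hC
  have hle : (⊤ : Subgroup G) ≤ Subgroup.normalizer (V : Set G) :=
    (Subgroup.normalizer_eq_top V).ge
  let φ₀ : G →* AddMonoid.End (Additive V) :=
    (Quadratic.act V ⊤ hle).comp Subgroup.topEquiv.symm.toMonoidHom
  have hkerφ : ∀ g : G, φ₀ g = 1 ↔ g ∈ C := fun g => Quadratic.act_eq_one_iff V ⊤ hle _
  have hqa : (φ₀ a - 1) * (φ₀ a - 1) = 0 :=
    Quadratic.act_quadratic V ⊤ hle (a := ⟨a, Subgroup.mem_top a⟩) hq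
  set π := QuotientGroup.mk' C with hπ
  obtain ⟨gb, hgb⟩ := Baer.exists_conj_not_isPGroup (p := p) (a := π a)
    (isPGroup_zpowers_of_pow (by
      obtain ⟨k, hk⟩ := ha
      exact ⟨k, by rw [← map_pow, hk, map_one]⟩))
    (fun N hN hNp hmem => hna (mem_opMod.mpr (Fitting.le_pCore hN hNp hmem)))
  obtain ⟨g, rfl⟩ := QuotientGroup.mk'_surjective C gb
  set b := g * a * g⁻¹ with hb
  have hqb : (φ₀ b - 1) * (φ₀ b - 1) = 0 := by
    have hg1 : φ₀ g * φ₀ g⁻¹ = 1 := by rw [← map_mul, mul_inv_cancel, map_one]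
    have hg2 : φ₀ g⁻¹ * φ₀ g = 1 := by rw [← map_mul, inv_mul_cancel, map_one]
    have hb' : φ₀ b - 1 = φ₀ g * (φ₀ a - 1) * φ₀ g⁻¹ := by
      rw [hb, map_mul, map_mul, mul_sub, sub_mul, mul_one, hg1]
    rw [hb']
    calc φ₀ g * (φ₀ a - 1) * φ₀ g⁻¹ * (φ₀ g * (φ₀ a - 1) * φ₀ g⁻¹)
        = φ₀ g * (φ₀ a - 1) * (φ₀ g⁻¹ * φ₀ g) * (φ₀ a - 1) * φ₀ g⁻¹ := by simp only [mul_assoc]
      _ = φ₀ g * ((φ₀ a - 1) * (φ₀ a - 1)) * φ₀ g⁻¹ := by rw [hg2, mul_one]; simp only [mul_assoc]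
      _ = 0 := by rw [hqa, mul_zero, zero_mul]
  set H := Subgroup.closure ({a, b} : Set G) with hH
  let a' : H := ⟨a, Subgroup.subset_closure (Set.mem_insert _ _)⟩
  let b' : H := ⟨b, Subgroup.subset_closure (Set.mem_insert_of_mem _ (Set.mem_singleton _))⟩
  let φ : H →* AddMonoid.End (Additive V) := φ₀.comp H.subtype
  have hnp : ¬ ∀ x ∈ (⊤ : Subgroup H), ∃ k, φ x ^ p ^ k = 1 := by
    intro hall
    refine hgb ?_
    have hmap : H.map π = Subgroup.closure ({π a, π g * π a * (π g)⁻¹} : Set (G ⧸ C)) := by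
      rw [hH, MonoidHom.map_closure, Set.image_pair, hb, map_mul, map_mul, map_inv]
    rw [← hmap]
    rintro ⟨_, x, hx, rfl⟩
    obtain ⟨k, hk⟩ := hall ⟨x, hx⟩ trivial
    refine ⟨k, Subtype.ext ?_⟩
    show π x ^ p ^ k = 1
    rw [← map_pow, hπ, QuotientGroup.mk'_apply, QuotientGroup.eq_one_iff, ← hkerφ, map_pow]
    exact hk
  obtain ⟨W, i1, i2, ψ, hW, hψ, ⟨x, -, hx⟩, hquad, hker, -⟩ :=
    Quadratic.exists_irreducible_factor (p := p) (⊤ : Subgroup H) _ (Additive V) rfl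
      (Quadratic.act_nsmul hV) φ hnp
  have hgen : Subgroup.closure ({a', b'} : Set H) = ⊤ := by
    apply Subgroup.map_injective H.subtype_injective
    rw [MonoidHom.map_closure, Set.image_pair, ← MonoidHom.range_eq_map, Subgroup.range_subtype]
    rfl
  obtain ⟨F, i3, i4, i5, lam, hlam, -, ρ, hρa, hρb, hρker, -⟩ :=
    Quadratic.exists_sl2_of_irreducible hW ψ hψ hgen (hquad a' hqa) (hquad b' hqb) ⟨x, hx⟩
  obtain ⟨k, t, ht, hk⟩ := SL2.exists_conj_twist (p := p) hp2 ρ.range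
    (Quadratic.one_lt_card_sylow_range ρ hlam hρa hρb)
  obtain ⟨n₀, hn₀⟩ : (-1 : SL(2, F)) ∈ ρ.range := by
    have htw : SL2.twist t ht (-1 : SL(2, ZMod p)) = (-1 : SL(2, F)) := by
      apply SL2.ext2 <;> simp [SL2.twist_coe]
    have h1 := hk (-1)
    rw [htw] at h1
    simpa using h1
  set B := (Subgroup.zpowers (ρ a')).comap ρ with hB
  have hn₀B : n₀ ∈ Subgroup.normalizer (B : Set H) := mem_normalizer_of_conj_mem fun z hz => by
    show ρ (n₀ * z * n₀⁻¹) ∈ Subgroup.zpowers (ρ a')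
    rw [map_mul, map_mul, map_inv, hn₀, neg_one_mul, ← mul_neg_one, mul_assoc, mul_inv_cancel,
      mul_one]
    exact hz
  obtain ⟨P, hP, haP, -, c, hc, hn⟩ := exists_mul_mem_normalizer (p := p) (B := B)
    (A := Subgroup.zpowers a') (isPGroup_zpowers_of_pow (by
      obtain ⟨j, hj⟩ := ha
      exact ⟨j, Subtype.ext hj⟩))
    (Subgroup.zpowers_le.mpr (Subgroup.mem_zpowers (ρ a'))) hn₀B
  have hρn : ρ ((c * n₀) ^ p) = -1 := by
    obtain ⟨j, hj⟩ := Subgroup.mem_zpowers_iff.mp (Subgroup.mem_comap.mp hc)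
    have hcp : ρ c ^ p = 1 := by
      rw [← hj, ← zpow_natCast, ← zpow_mul, mul_comm, zpow_mul, zpow_natCast, hρa, SL2.up_pow,
        one_zpow]
    rw [map_pow, map_mul, hn₀, (Commute.neg_one_right (ρ c)).mul_pow, hcp, one_mul,
      (hp.out.odd_of_ne_two hp2).neg_one_pow]
  obtain ⟨m, hm, hm2⟩ := exists_two_part ((c * n₀) ^ p)
  set i := ((c * n₀) ^ p) ^ m with hi
  have hρi : ρ i = -1 := by rw [hi, map_pow, hρn, hm.neg_one_pow]
  refine ⟨i, ?_, fun hiC => ?_, P.map H.subtype, hP.map _,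
    ⟨a', haP (Subgroup.mem_zpowers a'), rfl⟩, ?_⟩
  · obtain ⟨j, hj⟩ := hm2
    exact ⟨j, congrArg Subtype.val hj⟩
  · have h1 : ρ i = 1 := (hρker i).mp (hker i ((hkerφ i).mpr hiC))
    rw [hρi] at h1
    haveI : Nontrivial F := inferInstance
    refine Ring.neg_one_ne_one_of_char_ne_two (R := F) ?_ ?_
    · rw [ringChar.eq F p]
      exact hp2
    · simpa using congrArg (fun A : SL(2, F) => A.1 0 0) h1
  · exact Subgroup.le_normalizer_map H.subtype ⟨i, pow_mem (pow_mem hn p) m, rfl⟩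

/-- An unstable quadratic `p`-element shares a `p`-subgroup with the normalizer of an involutory
action on `W`. -/
theorem exists_two_element_of_unstable {G : Type u} [Group G] [Finite G] (hp2 : p ≠ 2)
    (W : Subgroup G) [hWn : W.Normal] (hW : IsPGroup p W) {a : G} (ha : ∃ k : ℕ, a ^ p ^ k = 1)
    (hq : ⁅⁅W, Subgroup.zpowers a⁆, Subgroup.zpowers a⁆ = ⊥) (hna : a ∉ opMod p W) :
    ∃ i : G, (∃ k : ℕ, i ^ 2 ^ k = 1) ∧ i ∉ Subgroup.centralizer (W : Set G) ∧
      ∃ P : Subgroup G, IsPGroup p P ∧ a ∈ P ∧ i ∈ Subgroup.normalizer (P : Set G) := by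
  haveI hΦ : ((frattini ↥W).map W.subtype).Normal := PSolvable.normal_map_of_characteristic _ _
  set N := (frattini ↥W).map W.subtype with hN
  set π := QuotientGroup.mk' N
  haveI : (W.map π).Normal := Subgroup.Normal.map hWn π (QuotientGroup.mk'_surjective N)
  have hq' : ⁅⁅W.map π, Subgroup.zpowers (π a)⁆, Subgroup.zpowers (π a)⁆ = ⊥ := by
    rw [← MonoidHom.map_zpowers π a, ← Subgroup.map_commutator, ← Subgroup.map_commutator, hq,
      Subgroup.map_bot]
  have hna' : π a ∉ opMod p (W.map π) := fun hmem => by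
    haveI := opMod_normal p (W.map π)
    set D := (opMod p (W.map π)).comap π with hD
    haveI : D.Normal := Subgroup.Normal.comap inferInstance π
    refine hna (le_opMod W D (fun d hd => ?_) (show a ∈ D from hmem))
    obtain ⟨k, hk⟩ := exists_pow_mem_centralizer (W.map π) (show π d ∈ opMod p (W.map π) from hd)
    obtain ⟨i, m, -, -, hco, -⟩ := exists_pow_coprime_part (p := p) (d ^ p ^ k)
    refine ⟨k + i, ?_⟩
    rw [pow_add, pow_mul]
    set x := (d ^ p ^ k) ^ p ^ i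
    have hx : π x ∈ Subgroup.centralizer ((W.map π : Subgroup (G ⧸ N)) : Set (G ⧸ N)) := by
      rw [map_pow, map_pow]
      exact pow_mem hk _
    have hcop : (Nat.card (Subgroup.zpowers x)).Coprime (Nat.card (frattini ↥W)) := by
      obtain ⟨j, hj⟩ := (hW.to_subgroup (frattini ↥W)).exists_card_eq
      rw [Nat.card_zpowers, hj]
      exact hco.pow_right j
    refine Coprime.le_centralizer_of_frattini Subgroup.le_normalizer_of_normal hcop
      (fun b hb y hy => ?_) (Subgroup.mem_zpowers x)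
    have hb' : π b ∈ Subgroup.centralizer ((W.map π : Subgroup (G ⧸ N)) : Set (G ⧸ N)) := by
      obtain ⟨j, rfl⟩ := Subgroup.mem_zpowers_iff.mp hb
      rw [map_zpow]
      exact zpow_mem hx j
    rw [← QuotientGroup.eq_one_iff]
    show π (b * y * b⁻¹ * y⁻¹) = 1
    rw [map_mul, map_mul, map_mul, map_inv,
      map_inv, show π b * π y = π y * π b from (hb' (π y) ⟨y, hy, rfl⟩).symm]
    group
  obtain ⟨ib, ⟨k, hk⟩, hibC, P, hP, haP, hibP⟩ := exists_two_element_elementary hp2 (W.map π)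
    (Quadratic.isElementaryAbelian_map_frattini W hW)
    (by obtain ⟨j, hj⟩ := ha; exact ⟨j, by rw [← map_pow, hj, map_one]⟩) hq' hna'
  obtain ⟨g, rfl⟩ := QuotientGroup.mk'_surjective N ib
  obtain ⟨m, hm, hm2⟩ := exists_two_part g
  have hker : IsPGroup p π.ker := by
    rw [QuotientGroup.ker_mk']
    exact hW.to_le (Subgroup.map_subtype_le _)
  refine ⟨g ^ m, hm2, fun hc => hibC ?_, P.comap π, hP.comap_of_ker_isPGroup π hker, haP, ?_⟩
  · refine mem_of_pow_mem hk (Nat.coprime_two_right.mpr hm) ?_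
    rw [← map_pow]
    rintro _ ⟨w, hw, rfl⟩
    rw [← map_mul, ← map_mul, hc w hw]
  · exact mem_normalizer_of_conj_mem fun z hz => by
      show π (g ^ m * z * (g ^ m)⁻¹) ∈ P
      rw [map_mul, map_mul, map_inv, map_pow]
      exact (Subgroup.mem_normalizer_iff.mp (pow_mem hibP m) (π z)).mp hz

end CfsgLib.ZJ
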