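import Mathlib
import Cfsg.Agent.Lib.ZJ.Complement
import Cfsg.Agent.Lib.ZJ.RealKey
import Cfsg.Agent.Lib.Critical.Basic

/-!
If a group inverts a non-trivial `p`-element, `p` odd, then so does the normalizer of `Z(J(T))` for
every Sylow `p`-subgroup `T`.
-/

set_option autoImplicit false
set_option linter.style.haveILetI false

namespace CfsgLib.ZJ

open scoped commutatorElement
open CfsgLib.Transfer

universe u

variable {p : ℕ} [hp : Fact p.Prime]

omit hp in
theorem mul_comm_of_isAbExp {G : Type u} [Group G] {e : ℕ} {A : Subgroup G} (h : IsAbExp e A) :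
    ∀ x ∈ A, ∀ y ∈ A, x * y = y * x := fun x hx y hy => by
  haveI := h.1
  exact congrArg Subtype.val (mul_comm' (⟨x, hx⟩ : A) ⟨y, hy⟩)

omit hp in
theorem pCore_quotient_pCore_le_bot {G : Type u} [Group G] :
    haveI := Fitting.pCore_normal (G := G) p
    Cfsg.pCore p (G ⧸ Cfsg.pCore p G) ≤ ⊥ := by
  haveI := Fitting.pCore_normal (G := G) p
  set π := QuotientGroup.mk' (Cfsg.pCore p G) with hπ
  have hker : IsPGroup p π.ker := by rw [hπ, QuotientGroup.ker_mk']; exact Fitting.pCore_isPGroup p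
  have h := Fitting.le_pCore ((Fitting.pCore_normal p).comap π)
    ((Fitting.pCore_isPGroup p).comap_of_ker_isPGroup π hker)
  intro x hx
  obtain ⟨g, rfl⟩ := QuotientGroup.mk'_surjective _ x
  exact Subgroup.mem_bot.mpr ((QuotientGroup.eq_one_iff g).mpr (h hx))

/-- Realness of `N(Z(J(T)))` does not depend on the Sylow subgroup. -/
theorem hasRealIn_normalizer_zJ_of_conj {G : Type u} [Group G] [Finite G] (S T : Sylow p G)
    (h : HasRealIn p (Subgroup.normalizer (zJ 0 (S : Subgroup G) : Set G))) :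
    HasRealIn p (Subgroup.normalizer (zJ 0 (T : Subgroup G) : Set G)) := by
  obtain ⟨g, hg⟩ := exists_map_conj_sylow_eq S T
  refine (h.map (MulAut.conj g).toMonoidHom (MulAut.conj g).injective).mono ?_
  refine (Subgroup.le_normalizer_map (MulAut.conj g).toMonoidHom).trans ?_
  rw [map_zJ 0 _ (MulAut.conj g).injective.injOn]
  exact (congrArg (fun H : Subgroup G => Subgroup.normalizer (zJ 0 H : Set G)) hg).le

theorem hasRealIn_normalizer_zJ_aux (hp2 : p ≠ 2) :
    ∀ (n : ℕ) (G : Type u) [Group G] [Finite G], Nat.card G = n → HasRealIn p (⊤ : Subgroup G) →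
      ∀ T : Sylow p G, HasRealIn p (Subgroup.normalizer (zJ 0 (T : Subgroup G) : Set G)) := by
  intro n
  induction n using Nat.strong_induction_on with
  | _ n IH =>
  intro G _ _ hn hreal T₀
  by_contra hno₀
  have hno : ∀ T : Sylow p G,
      ¬ HasRealIn p (Subgroup.normalizer (zJ 0 (T : Subgroup G) : Set G)) :=
    fun T h => hno₀ (hasRealIn_normalizer_zJ_of_conj T T₀ h)
  -- proper subgroups
  have hIH : ∀ M : Subgroup G, M ≠ ⊤ → HasRealIn p M → ∀ S : Sylow p M,
      HasRealIn p (Subgroup.normalizer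
        (zJ 0 ((S : Subgroup M).map M.subtype) : Set G)) := by
    intro M hM hr S
    have hlt : Nat.card M < n := hn ▸ lt_of_le_of_ne (Subgroup.card_le_card_group M)
      (fun h => hM (Subgroup.eq_top_of_card_eq M h))
    refine ((IH _ hlt M rfl ((hasRealIn_top_iff M).mpr hr) S).map M.subtype
      M.subtype_injective).mono ?_
    refine (Subgroup.le_normalizer_map M.subtype).trans ?_
    rw [map_zJ 0 _ M.subtype_injective.injOn]
  have step0 : ∀ M : Subgroup G, M ≠ ⊤ → ∀ T : Sylow p G, (T : Subgroup G) ≤ M →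
      HasRealIn p M → False := by
    intro M hM T hTM hr
    have h := hIH M hM hr (T.subtype hTM)
    rw [Sylow.coe_subtype, Subgroup.map_subgroupOf_eq_of_le hTM] at h
    exact hno T h
  have climb : ∀ M : Subgroup G, M ≠ ⊤ → HasRealIn p M → ∀ S : Sylow p M,
      ¬ (zJ 0 ((S : Subgroup M).map M.subtype)).Normal →
      Subgroup.normalizer (zJ 0 ((S : Subgroup M).map M.subtype) : Set G) ≠ ⊤ ∧
      HasRealIn p (Subgroup.normalizer (zJ 0 ((S : Subgroup M).map M.subtype) : Set G)) ∧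
      (Nat.card M).factorization p < (Nat.card ↥(Subgroup.normalizer
        (zJ 0 ((S : Subgroup M).map M.subtype) : Set G))).factorization p := by
    intro M hM hr S hnn
    set P := (S : Subgroup M).map M.subtype with hP
    have hPp : IsPGroup p P := S.2.map _
    obtain ⟨T, hPT⟩ := hPp.exists_le_sylow
    have hlt : P < (T : Subgroup G) := lt_of_le_of_ne hPT fun h =>
      step0 M hM T (h ▸ Subgroup.map_subtype_le _) hr
    set N := Subgroup.normalizer (zJ 0 P : Set G) with hN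
    refine ⟨fun h => hnn (Subgroup.normalizer_eq_top_iff.mp h), hIH M hM hr S, ?_⟩
    set Q := (T : Subgroup G) ⊓ Subgroup.normalizer (P : Set G)
    have hQN : Q ≤ N := inf_le_right.trans (normalizer_le_normalizer_zJ 0 P)
    have hPQ : P < Q := lt_inf_normalizer T.2 hlt
    obtain ⟨SN, hSN⟩ := ((T.2.to_le (inf_le_left : Q ≤ T)).comap_of_injective N.subtype
      N.subtype_injective).exists_le_sylow
    have h1 : Nat.card P < p ^ (Nat.card N).factorization p := by
      refine lt_of_lt_of_le (Set.ncard_lt_ncard hPQ (Set.toFinite _)) ?_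
      rw [← SN.card_eq_multiplicity]
      refine le_trans ?_ (Subgroup.card_le_of_le hSN)
      exact (Nat.card_congr (Subgroup.subgroupOfEquivOfLe hQN).toEquiv).ge
    rw [hP, Subgroup.card_map_of_injective M.subtype_injective, S.card_eq_multiplicity] at h1
    exact (Nat.pow_lt_pow_iff_right hp.out.one_lt).mp h1
  have hmax : ∀ Φ : Subgroup G → Prop, (∃ M, Φ M) →
      ∃ M, Φ M ∧ ∀ M', Φ M' → (Nat.card M').factorization p ≤ (Nat.card M).factorization p := by
    intro Φ hΦ
    classical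
    haveI := Fintype.ofFinite (Subgroup G)
    obtain ⟨M₁, hM₁⟩ := hΦ
    obtain ⟨M, hM, hM'⟩ := Finset.exists_max_image (Finset.univ.filter Φ)
      (fun M => (Nat.card M).factorization p) ⟨M₁, by simp [hM₁]⟩
    simp only [Finset.mem_filter, Finset.mem_univ, true_and] at hM hM'
    exact ⟨M, hM, hM'⟩
  set R := Cfsg.pCore p G with hRdef
  haveI hRn : R.Normal := Fitting.pCore_normal p
  have hRp : IsPGroup p R := Fitting.pCore_isPGroup p
  obtain ⟨x₀, -, g₀, -, hx₀, hx₀p, hgx₀⟩ := id hreal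
  -- the core is non-trivial
  have hR : R ≠ ⊥ := by
    intro hR
    have hne : Subgroup.normalizer (Subgroup.zpowers x₀ : Set G) ≠ ⊤ := fun h => by
      have hle : Subgroup.zpowers x₀ ≤ R := Fitting.le_pCore
        (Subgroup.normalizer_eq_top_iff.mp h) (isPGroup_zpowers_of_pow hx₀p)
      exact hx₀ (Subgroup.mem_bot.mp (hR.le (hle (Subgroup.mem_zpowers x₀))))
    have hr : HasRealIn p (Subgroup.normalizer (Subgroup.zpowers x₀ : Set G)) := by
      refine ⟨x₀, Subgroup.le_normalizer (Subgroup.mem_zpowers x₀), g₀,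
        mem_normalizer_of_conj_mem fun z hz => ?_, hx₀, hx₀p, hgx₀⟩
      obtain ⟨j, rfl⟩ := Subgroup.mem_zpowers_iff.mp hz
      rw [← conj_zpow, hgx₀]
      exact zpow_mem (inv_mem (Subgroup.mem_zpowers _)) j
    obtain ⟨M, ⟨hM, hMr⟩, hMmax⟩ := hmax (fun M => M ≠ ⊤ ∧ HasRealIn p M) ⟨_, hne, hr⟩
    · obtain ⟨S⟩ : Nonempty (Sylow p M) := inferInstance
      by_cases hVn : (zJ 0 ((S : Subgroup M).map M.subtype)).Normal
      · have hle : zJ 0 ((S : Subgroup M).map M.subtype) ≤ R :=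
          Fitting.le_pCore hVn ((S.2.map _).to_le (zJ_le 0 _))
        have hS : (S : Subgroup M).map M.subtype ≠ ⊥ := by
          intro hS
          obtain ⟨x, hx, -, -, hx1, hxp, -⟩ := hMr
          obtain ⟨S', hS'⟩ := ((isPGroup_zpowers_of_pow hxp).comap_of_injective M.subtype
            M.subtype_injective).exists_le_sylow
          have hS0 : (S : Subgroup M) = ⊥ :=
            (Subgroup.map_eq_bot_iff_of_injective _ M.subtype_injective).mp hS
          have hS'0 : (S' : Subgroup M) = ⊥ := by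
            rw [← Subgroup.card_eq_one, S'.card_eq_multiplicity, ← S.card_eq_multiplicity,
              Subgroup.card_eq_one]
            exact hS0
          exact hx1 (congrArg Subtype.val (Subgroup.mem_bot.mp
            (hS'0.le (hS' (show (⟨x, hx⟩ : M) ∈ _ from Subgroup.mem_zpowers x)))))
        obtain ⟨z, hz, hz1, -⟩ := zJ_ne_bot (p := p) (Or.inl rfl) (S.2.map M.subtype) hS
        exact hz1 (Subgroup.mem_bot.mp (hR.le (hle hz)))
      · obtain ⟨h1, h2, h3⟩ := climb M hM hMr S hVn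
        exact absurd (hMmax _ ⟨h1, h2⟩) (not_le.mpr h3)
  -- the quotient has no real elements
  set π := QuotientGroup.mk' R with hπ
  have hπs : Function.Surjective π := QuotientGroup.mk'_surjective R
  have hπk : π.ker = R := QuotientGroup.ker_mk' R
  have hπR : ∀ r ∈ R, π r = 1 := fun r hr => (QuotientGroup.eq_one_iff r).mpr hr
  have hker : IsPGroup p π.ker := by rw [hπk]; exact hRp
  have hquo : ¬ HasRealIn p (⊤ : Subgroup (G ⧸ R)) := by
    intro hQ
    have hlt : Nat.card (G ⧸ R) < n := by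
      rw [← hn, Subgroup.card_eq_card_quotient_mul_card_subgroup R]
      refine lt_mul_of_one_lt_right Nat.card_pos ?_
      exact Finite.one_lt_card_iff_nontrivial.mpr ((Subgroup.nontrivial_iff_ne_bot R).mpr hR)
    set T' := T₀.mapSurjective hπs
    set M := (Subgroup.normalizer (zJ 0 (T' : Subgroup (G ⧸ R)) : Set (G ⧸ R))).comap π with hM
    have hTM : (T₀ : Subgroup G) ≤ M := Subgroup.map_le_iff_le_comap.mp
      ((Sylow.coe_mapSurjective hπs T₀).ge.trans
        (Subgroup.le_normalizer.trans (normalizer_le_normalizer_zJ 0 _)))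
    refine step0 M (fun h => ?_) T₀ hTM (HasRealIn.of_map hp2 π hker
      (fun z hz => by
        rw [hM, Subgroup.mem_comap, MonoidHom.mem_ker.mp hz]
        exact one_mem _) ?_)
    · have hn' : (zJ 0 (T' : Subgroup (G ⧸ R))).Normal := by
        rw [← Subgroup.normalizer_eq_top_iff,
          ← Subgroup.map_comap_eq_self_of_surjective hπs (Subgroup.normalizer _), ← hM, h,
          Subgroup.map_top_of_surjective π hπs]
      have hle : zJ 0 (T' : Subgroup (G ⧸ R)) ≤ ⊥ :=
        (Fitting.le_pCore hn' (T'.2.to_le (zJ_le 0 _))).trans pCore_quotient_pCore_le_bot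
      have hT' : (T' : Subgroup (G ⧸ R)) ≠ ⊥ := by
        intro hT'
        obtain ⟨x, -, -, -, hx1, hxp, -⟩ := hQ
        obtain ⟨S', hS'⟩ := (isPGroup_zpowers_of_pow hxp).exists_le_sylow
        have hS'0 : (S' : Subgroup (G ⧸ R)) = ⊥ := by
          rw [← Subgroup.card_eq_one, S'.card_eq_multiplicity, ← T'.card_eq_multiplicity,
            Subgroup.card_eq_one]
          exact hT'
        exact hx1 (Subgroup.mem_bot.mp (hS'0.le (hS' (Subgroup.mem_zpowers x))))
      obtain ⟨z, hz, hz1, -⟩ := zJ_ne_bot (p := p) (Or.inl rfl) T'.2 hT'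
      exact hz1 (Subgroup.mem_bot.mp (hle hz))
    · rw [hM, Subgroup.map_comap_eq_self_of_surjective hπs]
      exact IH _ hlt (G ⧸ R) rfl hQ T'
  have hcent : ∀ (P : Subgroup G), IsPGroup p P → ∀ i : G, (∃ k : ℕ, i ^ 2 ^ k = 1) →
      i ∈ Subgroup.normalizer (P : Set G) → ∀ y ∈ P, Commute (π i) (π y) := by
    intro P hP i hi hin y hy
    by_contra hne
    obtain ⟨k, hk⟩ := hi
    refine hquo (HasRealIn.of_not_centralize (hP.map π) le_top (Subgroup.mem_top (π i))
      ⟨k, by rw [← map_pow, hk, map_one]⟩ (Subgroup.le_normalizer_map π ⟨i, hin, rfl⟩)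
      fun hc => hne ?_)
    exact (hc (π y) ⟨y, hy, rfl⟩).symm
  obtain ⟨i₀, hi₀, hi₀c⟩ : ∃ i : G, (∃ k : ℕ, i ^ 2 ^ k = 1) ∧
      i ∉ Subgroup.centralizer (R : Set G) := by
    obtain ⟨i, -, hi, hix⟩ := exists_two_inverter hgx₀
    refine ⟨i, hi, fun hc => hx₀ ?_⟩
    have hxR : x₀ ∈ R := by
      rw [← QuotientGroup.eq_one_iff]
      by_contra hne
      obtain ⟨k, hk⟩ := hx₀p
      exact hquo ⟨π x₀, trivial, π i, trivial, hne, ⟨k, by rw [← map_pow, hk, map_one]⟩,
        by rw [← map_inv, ← map_mul, ← map_mul, hix, map_inv]⟩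
    refine eq_one_of_eq_inv hp2 hx₀p ?_
    rw [← hix]
    exact (mul_inv_eq_iff_eq_mul.mpr (Subgroup.mem_centralizer_iff.mp hc x₀ hxR).symm).symm
  have frat : ∀ (K B : Subgroup G) [K.Normal] [B.Normal], IsPGroup p B →
      (∀ k ∈ K, ∃ j : ℕ, k ^ p ^ j ∈ Subgroup.centralizer (B : Set G)) →
      (∃ i : G, (∃ k : ℕ, i ^ 2 ^ k = 1) ∧ i ∉ Subgroup.centralizer (B : Set G)) →
      ∀ T : Sylow p G, (T : Subgroup G) ⊓ K ≤ R := by
    intro K B _ _ hB hK hiB T
    obtain ⟨i, ⟨ki, hki⟩, hiC⟩ := hiB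
    by_contra hne
    set U := (T : Subgroup G) ⊓ K with hU
    set Y := U ⊔ R
    have hYT : Y ≤ T := sup_le inf_le_left (normal_le_sylow hRp T)
    have hTY : (T : Subgroup G) ≤ Subgroup.normalizer (Y : Set G) :=
      Coprime.le_normalizer_sup_of_le (Coprime.le_normalizer_inf_of_le Subgroup.le_normalizer
        Subgroup.le_normalizer_of_normal) Subgroup.le_normalizer_of_normal
    have hUY : Subgroup.normalizer (U : Set G) ≤ Subgroup.normalizer (Y : Set G) :=
      Coprime.le_normalizer_sup_of_le le_rfl Subgroup.le_normalizer_of_normal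
    let SK : Sylow p K := IsPGroup.toSylow (T.2.comap_of_injective K.subtype K.subtype_injective)
      fun h => T.not_dvd_index (h.trans (relIndex_dvd_index_of_normal (T : Subgroup G) K))
    have hfr : Subgroup.normalizer (U : Set G) ⊔ K = ⊤ := by
      have h := Sylow.normalizer_sup_eq_top SK
      rwa [show (SK : Subgroup K).map K.subtype = U from Subgroup.subgroupOf_map_subtype _ _] at h
    obtain ⟨m, hm, c, hc, hmc⟩ := Subgroup.mem_sup_of_normal_right.mp (hfr.ge (Subgroup.mem_top i))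
    obtain ⟨j, hj, hj2⟩ := exists_two_part m
    have hjC : m ^ j ∉ Subgroup.centralizer (B : Set G) := by
      intro hmj
      have hqK : (QuotientGroup.mk i : G ⧸ K) = QuotientGroup.mk m := by
        rw [← hmc, QuotientGroup.mk_mul, (QuotientGroup.eq_one_iff c).mpr hc, mul_one]
      have hd : (m ^ j)⁻¹ * i ^ j ∈ K :=
        QuotientGroup.eq.mp (by rw [QuotientGroup.mk_pow, QuotientGroup.mk_pow, hqK])
      obtain ⟨e, he⟩ := hK _ hd
      refine hiC (mem_of_pow_mem hki (n := j * p ^ e) ?_ ?_)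
      · exact (Nat.coprime_two_right.mpr hj).mul_left
          (((Nat.coprime_primes hp.out Nat.prime_two).mpr hp2).pow_left e)
      · rw [pow_mul, ← QuotientGroup.eq_one_iff, QuotientGroup.mk_pow]
        have h1 : (QuotientGroup.mk (i ^ j) : G ⧸ Subgroup.centralizer (B : Set G))
            = QuotientGroup.mk ((m ^ j)⁻¹ * i ^ j) := by
          rw [QuotientGroup.mk_mul, QuotientGroup.mk_inv, (QuotientGroup.eq_one_iff _).mpr hmj,
            inv_one, one_mul]
        rw [h1, ← QuotientGroup.mk_pow, QuotientGroup.eq_one_iff]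
        exact he
    refine step0 (Subgroup.normalizer (Y : Set G)) (fun h => hne ?_) T hTY
      (HasRealIn.of_not_centralize hB ((normal_le_sylow hB T).trans hTY)
        (pow_mem (hUY hm) j) hj2 (Subgroup.le_normalizer_of_normal (K := ⊤) (Subgroup.mem_top _)) hjC)
    exact le_sup_left.trans (Fitting.le_pCore (Subgroup.normalizer_eq_top_iff.mp h) (T.2.to_le hYT))
  -- the subgroup `⟨a⟩ R`
  have hY : ∀ a : G, ∀ g : G, Commute (π g) (π a) →
      g ∈ Subgroup.normalizer ((Subgroup.zpowers (π a)).comap π : Set G) := by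
    intro a g hg
    refine mem_normalizer_of_conj_mem fun z hz => ?_
    obtain ⟨j, hj⟩ := Subgroup.mem_zpowers_iff.mp (Subgroup.mem_comap.mp hz)
    rw [Subgroup.mem_comap, map_mul, map_mul, map_inv, ← hj, ← conj_zpow, hg.eq,
      mul_inv_cancel_right]
    exact zpow_mem (Subgroup.mem_zpowers _) j
  have hYtop : ∀ a : G, (∃ k : ℕ, a ^ p ^ k = 1) → a ∉ R →
      Subgroup.normalizer ((Subgroup.zpowers (π a)).comap π : Set G) ≠ ⊤ := by
    intro a ha haR h
    obtain ⟨k, hk⟩ := ha
    exact haR (Fitting.le_pCore (Subgroup.normalizer_eq_top_iff.mp h)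
      ((isPGroup_zpowers_of_pow ⟨k, by rw [← map_pow, hk, map_one]⟩).comap_of_ker_isPGroup π hker)
      (Subgroup.mem_zpowers (π a)))
  haveI := opMod_normal p R
  have hRopMod := frat (opMod p R) R hRp (fun k hk => exists_pow_mem_centralizer R hk)
    ⟨i₀, hi₀, hi₀c⟩
  have hXabel : ∀ T : Sylow p G, ∀ x ∈ zJ 0 (T : Subgroup G), ∀ y ∈ zJ 0 (T : Subgroup G),
      x * y = y * x := fun T x hx y hy => hy.2 x hx.1
  -- all centres lie in the core
  have hXR : ∀ T : Sylow p G, zJ 0 (T : Subgroup G) ≤ R := by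
    intro T
    by_contra hne
    set X := zJ 0 (T : Subgroup G) with hX
    have hTX : (T : Subgroup G) ≤ Subgroup.normalizer (X : Set G) :=
      Subgroup.le_normalizer.trans (normalizer_le_normalizer_zJ 0 _)
    set Tb := (T : Subgroup G).map π with hTb
    haveI : Group.IsNilpotent Tb := (T.2.map π).isNilpotent
    haveI hXbn : ((X.map π).subgroupOf Tb).Normal :=
      Subgroup.normal_subgroupOf_iff_le_normalizer (Subgroup.map_mono (zJ_le 0 _)) |>.mpr
        ((Subgroup.map_mono hTX).trans (Subgroup.le_normalizer_map π))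
    have hXb1 : (X.map π).subgroupOf Tb ≠ ⊥ := by
      intro h
      refine hne ?_
      rw [← hπk, ← Subgroup.map_eq_bot_iff]
      rw [Subgroup.subgroupOf_eq_bot] at h
      exact h.eq_bot_of_le (Subgroup.map_mono (zJ_le 0 _))
    obtain ⟨⟨_, t₀, ht₀, rfl⟩, ⟨hzX, hzc⟩, hz1⟩ :=
      (Subgroup.bot_or_exists_ne_one _).resolve_left (Critical.inf_center_ne_bot _ hXb1)
    obtain ⟨a, haX, haπ⟩ := Subgroup.mem_map.mp (Subgroup.mem_subgroupOf.mp hzX)
    have haR : a ∉ R := fun h => hz1 (Subtype.ext (by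
      show π t₀ = 1
      exact haπ.symm.trans (hπR a h)))
    have hca : ∀ t ∈ (T : Subgroup G), Commute (π t) (π a) := fun t ht => by
      rw [haπ]
      exact congrArg Subtype.val (Subgroup.mem_center_iff.mp hzc ⟨π t, t, ht, rfl⟩)
    obtain ⟨ka, hka⟩ := T.2 ⟨a, zJ_le 0 _ haX⟩
    have hap : ∃ k : ℕ, a ^ p ^ k = 1 := ⟨ka, congrArg Subtype.val hka⟩
    have hq : ⁅⁅R, Subgroup.zpowers a⁆, Subgroup.zpowers a⁆ = ⊥ :=
      quadratic_of_normalizes (hXabel T) ((normal_le_sylow hRp T).trans hTX) haX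
    have hna : a ∉ opMod p R := fun h =>
      haR (hRopMod T (Subgroup.mem_inf.mpr ⟨zJ_le 0 _ haX, h⟩))
    obtain ⟨i, hi, hiC, P, hP, haP, hiP⟩ := exists_two_element_of_unstable hp2 R hRp hap hq hna
    exact step0 _ (hYtop a hap haR) T (fun t ht => hY a t (hca t ht))
      (HasRealIn.of_not_centralize hRp
        (fun r hr => hY a r (by rw [hπR r hr]; exact Commute.one_left _))
        (hY a i (hcent P hP i hi hiP a haP)) hi (Subgroup.le_normalizer_of_normal (K := ⊤) (Subgroup.mem_top _)) hiC)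
  set X := zJ 0 (T₀ : Subgroup G) with hX
  set B := Subgroup.normalClosure (X : Set G) with hBdef
  haveI hBn : B.Normal := Subgroup.normalClosure_normal
  have hBR : B ≤ R := Subgroup.normalClosure_le_normal (hXR T₀)
  have hXnn : ¬ X.Normal := fun h =>
    hno T₀ (hreal.mono (Subgroup.normalizer_eq_top_iff.mpr h).ge)
  have hiB : ∃ i : G, (∃ k : ℕ, i ^ 2 ^ k = 1) ∧ i ∉ Subgroup.centralizer (B : Set G) := by
    by_contra hall
    push Not at hall
    have hle : Subgroup.centralizer (B : Set G) ≤ Subgroup.normalizer (X : Set G) :=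
      (Subgroup.centralizer_le Subgroup.subset_normalClosure).trans
        (Subgroup.centralizer_le_normalizer _)
    obtain ⟨i, -, hi, hix⟩ := exists_two_inverter hgx₀
    obtain ⟨k, hk⟩ := hi
    have h1 : x₀ * i * x₀⁻¹ * i⁻¹ ∈ Subgroup.centralizer (B : Set G) :=
      mul_mem (hall (x₀ * i * x₀⁻¹) ⟨k, by rw [conj_pow, hk]; group⟩) (inv_mem (hall i ⟨k, hk⟩))
    rw [show x₀ * i * x₀⁻¹ * i⁻¹ = x₀ * (i * x₀ * i⁻¹)⁻¹ by group, hix, inv_inv, ← pow_two] at h1
    obtain ⟨j, hj⟩ := hx₀p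
    exact hno T₀ ⟨x₀, hle (mem_of_pow_mem hj
      ((Nat.coprime_primes Nat.prime_two hp.out).mpr (Ne.symm hp2)) h1), i, hle (hall i ⟨k, hk⟩), hx₀,
      ⟨j, hj⟩, hix⟩
  have hTC := frat (Subgroup.centralizer (B : Set G)) B (hRp.to_le hBR)
    (fun k hk => ⟨0, by rwa [pow_zero, pow_one]⟩) hiB
  -- an unstable element of an abelian subgroup of largest order
  obtain ⟨W, hWn, hW, A, hA, a, haA, hq, hna⟩ : ∃ (W : Subgroup G) (_ : W.Normal), IsPGroup p W ∧
      ∃ A ∈ maxAbExp 0 (T₀ : Subgroup G), ∃ a ∈ A,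
        ⁅⁅W, Subgroup.zpowers a⁆, Subgroup.zpowers a⁆ = ⊥ ∧ a ∉ opMod p W := by
    by_contra hc
    refine hXnn ?_
    have h := inf_normal_closed_of_max (e := 0) hp2 (Or.inl rfl) T₀ le_rfl
      (fun W hWn hW A hA a ha hq => by
        by_contra hna
        exact hc ⟨W, hWn, hW, A, hA, a, ha, hq, hna⟩)
      (closed_self T₀) (X := X) inf_le_left inf_le_right (normalizer_thompsonJ_le_zJ 0 _)
      _ R rfl hRn hRp
    rwa [inf_eq_right.mpr (hXR T₀)] at h
  haveI := hWn
  have hWR : W ≤ R := Fitting.le_pCore hWn hW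
  have haR : a ∉ R := fun h => hna (le_opMod W R (fun d hd => by
    obtain ⟨k, hk⟩ := hRp ⟨d, hd⟩
    exact ⟨k, by rw [show d ^ p ^ k = 1 from congrArg Subtype.val hk]; exact one_mem _⟩) h)
  obtain ⟨ka, hka⟩ := T₀.2 ⟨a, hA.1 haA⟩
  have hap : ∃ k : ℕ, a ^ p ^ k = 1 := ⟨ka, congrArg Subtype.val hka⟩
  obtain ⟨i, hi, hiC, P, hP, haP, hiP⟩ := exists_two_element_of_unstable hp2 W hW hap hq hna
  have hRM : R ≤ Subgroup.normalizer ((Subgroup.zpowers (π a)).comap π : Set G) := fun r hr =>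
    hY a r (by rw [hπR r hr]; exact Commute.one_left _)
  have hAc := mul_comm_of_isAbExp hA.2.1
  -- abelian subgroups of largest order in proper real subgroups containing the core
  have hbound : ∀ (T : Sylow p G) (K : Subgroup G), K ≤ T → IsAbExp 0 K →
      Nat.card K ≤ Nat.card A := by
    intro T K hKT hK
    obtain ⟨g, hg⟩ := exists_map_conj_sylow_eq T T₀
    rw [← Subgroup.card_map_of_injective (K := K)
      (show Function.Injective (MulAut.conj g).toMonoidHom from (MulAut.conj g).injective)]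
    exact hA.2.2 _ ((Subgroup.map_mono hKT).trans hg.le)
      ((isAbExp_map_iff 0 _ (MulAut.conj g).injective.injOn).mpr hK)
  obtain ⟨M, ⟨hM, hMr, hRM', A', hA'p, hA'e, hA'card, hA'R, hA'M⟩, hMmax⟩ := hmax
    (fun M => M ≠ ⊤ ∧ HasRealIn p M ∧ R ≤ M ∧ ∃ A' : Subgroup G, IsPGroup p A' ∧ IsAbExp 0 A' ∧
      Nat.card A' = Nat.card A ∧ ¬ A' ≤ R ∧ A' ≤ M)
    ⟨_, hYtop a hap haR,
      HasRealIn.of_not_centralize hW (hWR.trans hRM) (hY a i (hcent P hP i hi hiP a haP)) hi
        (Subgroup.le_normalizer_of_normal (K := ⊤) (Subgroup.mem_top _)) hiC, hRM,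
      A, T₀.2.to_le hA.1, hA.2.1, rfl, fun h => haR (h haA), fun b hb =>
        hY a b (by show π b * π a = π a * π b; rw [← map_mul, ← map_mul, hAc b hb a haA])⟩
  obtain ⟨S, hS⟩ := (hA'p.comap_of_injective M.subtype M.subtype_injective).exists_le_sylow
  set P' := (S : Subgroup M).map M.subtype with hP'
  have hA'P : A' ≤ P' := fun b hb => ⟨⟨b, hA'M hb⟩, hS hb, rfl⟩
  have hRP : R ≤ P' := fun r hr => ⟨⟨r, hRM' hr⟩,
    normal_le_sylow (B := R.subgroupOf M) (hRp.comap_of_injective M.subtype M.subtype_injective) S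
      hr, rfl⟩
  obtain ⟨T, hPT⟩ := (S.2.map M.subtype).exists_le_sylow
  have hA'T : A' ∈ maxAbExp 0 (T : Subgroup G) :=
    ⟨hA'P.trans hPT, hA'e, fun K hK hKe => hA'card ▸ hbound T K hK hKe⟩
  have hA'max : A' ∈ maxAbExp 0 P' :=
    ⟨hA'P, hA'e, fun K hK hKe => hA'card ▸ hbound T K (hK.trans hPT) hKe⟩
  have hJ : thompsonJ 0 P' ≤ thompsonJ 0 (T : Subgroup G) :=
    sSup_le fun K hK => le_sSup ⟨hK.1.trans hPT, hK.2.1,
      fun L hL hLe => (hA'T.2.2 L hL hLe).trans (hK.2.2 A' hA'max.1 hA'max.2.1)⟩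
  have hXV : zJ 0 (T : Subgroup G) ≤ zJ 0 P' := fun x hx =>
    ⟨le_sSup hA'max (mem_of_commute hA'max (hRP (hXR T hx)) (pow_zero x)
      fun b hb => hx.2 b (le_sSup hA'T hb)), fun b hb => hx.2 b (hJ hb)⟩
  by_cases hVn : (zJ 0 P').Normal
  · refine hA'R fun b hb => hTC T (Subgroup.mem_inf.mpr ⟨hA'T.1 hb, ?_⟩)
    have hBV : B ≤ zJ 0 P' := by
      refine Subgroup.normalClosure_le_normal ?_
      obtain ⟨g, hg⟩ := exists_map_conj_sylow_eq T T₀
      intro x hx
      rw [SetLike.mem_coe, hX, ← hg, ← map_zJ 0 _ (MulAut.conj g).injective.injOn] at hx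
      obtain ⟨y, hy, rfl⟩ := hx
      exact hVn.conj_mem y (hXV hy) g
    exact fun c hc => ((hBV hc).2 b (le_sSup hA'max hb)).symm
  · obtain ⟨h1, h2, h3⟩ := climb M hM hMr S hVn
    have hPN : P' ≤ Subgroup.normalizer (zJ 0 P' : Set G) :=
      Subgroup.le_normalizer.trans (normalizer_le_normalizer_zJ 0 P')
    exact absurd (hMmax _ ⟨h1, h2, hRP.trans hPN, A', hA'p, hA'e, hA'card, hA'R,
      hA'P.trans hPN⟩) (not_le.mpr h3)

/-- A group inverting a non-trivial `p`-element, `p` odd, inverts one in `N(Z(J(T)))`. -/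
theorem hasRealIn_normalizer_zJ {G : Type u} [Group G] [Finite G] (hp2 : p ≠ 2)
    (h : HasRealIn p (⊤ : Subgroup G)) (T : Sylow p G) :
    HasRealIn p (Subgroup.normalizer (zJ 0 (T : Subgroup G) : Set G)) :=
  hasRealIn_normalizer_zJ_aux hp2 _ G rfl h T

end CfsgLib.ZJ
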