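import Mathlib
import Cfsg.Agent.Lib.ZJ.Replacement
import Cfsg.Prelude.Def_PLocal

/-!
Glauberman's replacement for an arbitrary abelian subgroup `A` containing `[B, B]`, `B` of class at
most two normalized by `A`, `p` odd: a conjugate-built abelian subgroup of the same order, with
exponent dividing that of `A` and at least as large `Ω₁`.
-/

set_option autoImplicit false
set_option linter.style.haveILetI false

open scoped commutatorElement Pointwise

namespace CfsgLib.ZJ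

open CfsgLib.Transfer

variable {G : Type*} [Group G]

theorem abelian_replacement [Finite G] {p : ℕ} [hp : Fact p.Prime] (hp2 : p ≠ 2) (hG : IsPGroup p G)
    {A B : Subgroup G} (hA : IsMulCommutative A) (hB2' : ⁅⁅B, B⁆, B⁆ = ⊥) (hBA : ⁅B, B⁆ ≤ A)
    (hAB : A ≤ Subgroup.normalizer (B : Set G)) (hn : ¬ B ≤ Subgroup.normalizer (A : Set G)) :
    ∃ A' : Subgroup G, IsMulCommutative A' ∧ Nat.card A' = Nat.card A ∧ A ⊓ B < A' ⊓ B ∧
      A' ≤ Subgroup.normalizer (A : Set G) ∧ A' ≤ Subgroup.normalClosure (A : Set G) ∧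
      Monoid.exponent A' ∣ Monoid.exponent A ∧
      Nat.card (Cfsg.omegaOne p A) ≤ Nat.card (Cfsg.omegaOne p A') := by
  have hAc := hA
  have hAP : A ≤ (⊤ : Subgroup G) := le_top
  have hPS : (⊤ : Subgroup G) ≤ ⊤ := le_rfl
  have hBS : B ≤ (⊤ : Subgroup G) := le_top
  have hS : IsPGroup p (⊤ : Subgroup G) := hG.to_subgroup _
  have hcA : ∀ x ∈ B, ∀ y ∈ B, ⁅x, y⁆ ∈ A := fun x hx y hy =>
    hBA (Subgroup.commutator_mem_commutator hx hy)
  have hB' : ∀ x ∈ B, ∀ y ∈ B, ∀ a ∈ A, a * ⁅x, y⁆ = ⁅x, y⁆ * a := fun x hx y hy a ha =>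
    congrArg Subtype.val (mul_comm' (⟨a, ha⟩ : A) ⟨_, hcA x hx y hy⟩)
  have hB2 : ∀ x ∈ B, ∀ y ∈ B, ∀ z ∈ B, z * ⁅x, y⁆ = ⁅x, y⁆ * z := fun x hx y hy z hz => by
    have h := Subgroup.commutator_mem_commutator (Subgroup.commutator_mem_commutator hx hy) hz
    rw [hB2', Subgroup.mem_bot, commutatorElement_eq_one_iff_commute] at h
    exact h.eq.symm
  have hodd : p ≠ 2 ∨ ((∀ x ∈ B, ∀ y ∈ B, Commute x y) ∧ ∀ x ∈ B, x ^ 0 = 1) := Or.inl hp2
  have hAcomm : ∀ x ∈ A, ∀ y ∈ A, Commute x y := fun x hx y hy =>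
    congrArg Subtype.val (mul_comm' (⟨x, hx⟩ : A) ⟨y, hy⟩)
  set N := B ⊓ Subgroup.normalizer (A : Set G) with hN
  have hcN : ∀ x ∈ B, ∀ y ∈ B, ⁅x, y⁆ ∈ N := fun x hx y hy =>
    Subgroup.mem_inf.mpr ⟨mul_mem (mul_mem (mul_mem hx hy) (inv_mem hx)) (inv_mem hy),
      Subgroup.centralizer_le_normalizer _ fun a ha => hB' x hx y hy a ha⟩
  have hNB : ∀ y ∈ B, ∀ n ∈ N, y * n * y⁻¹ ∈ N := fun y hy n hn' => by
    rw [show y * n * y⁻¹ = ⁅y, n⁆ * n by rw [commutatorElement_def]; group]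
    exact mul_mem (hcN y hy n hn'.1) hn'
  -- an element of `B` outside `N` whose commutators with `A` lie in `N`
  have hAN : A ≤ Subgroup.normalizer (N : Set G) :=
    Coprime.le_normalizer_inf_of_le hAB (A.le_normalizer.trans
      (Subgroup.normalizer (A : Set G)).le_normalizer)
  set H := A ⊔ N with hH
  have hHn : H ≤ Subgroup.normalizer (A : Set G) := sup_le Subgroup.le_normalizer inf_le_right
  obtain ⟨y, hyB, hyN, hyH⟩ : ∃ y ∈ B, y ∉ N ∧ ∀ a ∈ A, y⁻¹ * (a * y * a⁻¹) ∈ N := by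
    have hne : ¬ B ≤ N := fun h => hn (h.trans inf_le_right)
    have hAN' : A ≤ Subgroup.normalizer ((A ⊔ B : Subgroup G) : Set G) :=
      le_sup_left.trans Subgroup.le_normalizer
    have hAlt : A ⊔ N < A ⊔ B := by
      refine lt_of_le_of_ne (sup_le_sup_left inf_le_left A) fun heq => hn ?_
      exact le_trans le_sup_right (heq.ge.trans hHn)
    have hlt := lt_inf_normalizer (hS.to_le (sup_le (hAP.trans hPS) hBS)) hAlt
    obtain ⟨g, hg, hgH⟩ := SetLike.exists_of_lt hlt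
    obtain ⟨a₀, ha₀, y, hy, rfl⟩ : ∃ a ∈ A, ∃ y ∈ B, a * y = g := by
      obtain ⟨b, hb, a, ha, hba⟩ := exists_mul_of_mem_sup hAB
        (show g⁻¹ ∈ B ⊔ A from inv_mem (sup_comm A B ▸ hg.1))
      exact ⟨a⁻¹, inv_mem ha, b⁻¹, inv_mem hb, by rw [← mul_inv_rev, hba, inv_inv]⟩
    have hyn : y ∈ Subgroup.normalizer (H : Set G) := by
      have := mul_mem (inv_mem (H.le_normalizer (Subgroup.mem_sup_left ha₀))) hg.2
      rwa [inv_mul_cancel_left] at this
    refine ⟨y, hy, fun h => hgH (mul_mem (Subgroup.mem_sup_left ha₀) (Subgroup.mem_sup_right h)),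
      fun a ha => ?_⟩
    have h1 : y⁻¹ * a * y * a⁻¹ ∈ H := mul_mem
      ((Subgroup.mem_normalizer_iff''.mp hyn a).mp (Subgroup.mem_sup_left ha))
      (inv_mem (Subgroup.mem_sup_left ha))
    rw [show y⁻¹ * (a * y * a⁻¹) = y⁻¹ * a * y * a⁻¹ by group]
    refine Subgroup.mem_inf.mpr ⟨?_, hHn h1⟩
    rw [show y⁻¹ * a * y * a⁻¹ = y⁻¹ * (a * y * a⁻¹) by group]
    exact mul_mem (inv_mem hy) ((Subgroup.mem_normalizer_iff.mp (hAB ha) y).mp hy)
  -- `u a = a^y a⁻¹`
  set c : G →* G := (MulAut.conj y⁻¹).toMonoidHom with hc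
  have hcapp : ∀ g, c g = y⁻¹ * g * y := fun g => by simp [hc]
  set A₁ := A.map c with hA₁
  have hA₁c : ∀ x ∈ A₁, ∀ z ∈ A₁, Commute x z := by
    rintro _ ⟨a, ha, rfl⟩ _ ⟨b, hb, rfl⟩
    exact (hAcomm a ha b hb).map c
  have hu : ∀ a ∈ A, c a * a⁻¹ ∈ N := fun a ha => by
    rw [hcapp, show y⁻¹ * a * y * a⁻¹ = y⁻¹ * (a * y * a⁻¹) by group]
    exact hyH a ha
  have hA₁H : A₁ ≤ H := by
    rintro _ ⟨a, ha, rfl⟩
    have := mul_mem (Subgroup.mem_sup_right (S := A) (hu a ha)) (Subgroup.mem_sup_left ha)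
    rwa [inv_mul_cancel_right] at this
  have hA₁n : A₁ ≤ Subgroup.normalizer (A : Set G) := hA₁H.trans hHn
  have hcN' : ∀ n ∈ N, c n ∈ N := fun n hn' => by
    rw [hcapp]; simpa using hNB y⁻¹ (inv_mem hyB) n hn'
  have hAn₁ : A ≤ Subgroup.normalizer (A₁ : Set G) := by
    intro a ha
    have h0 : y * a * y⁻¹ * a⁻¹ = y * (y⁻¹ * (a * y * a⁻¹))⁻¹ * y⁻¹ := by group
    have h1 : y * a * y⁻¹ ∈ Subgroup.normalizer (A : Set G) := by
      have h2 : y * a * y⁻¹ * a⁻¹ ∈ N := h0 ▸ hNB y hyB _ (inv_mem (hyH a ha))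
      have := mul_mem h2.2 (Subgroup.le_normalizer ha)
      rwa [inv_mul_cancel_right] at this
    have h3 := Subgroup.le_normalizer_map c ⟨_, h1, rfl⟩
    rwa [show c (y * a * y⁻¹) = a by rw [hcapp]; group] at h3
  have hcentral : ∀ x ∈ A, ∀ z ∈ A₁, ⁅x, z⁆ ∈ A ∧ ⁅x, z⁆ ∈ A₁ := fun x hx z hz => by
    refine ⟨?_, ?_⟩
    · rw [show ⁅x, z⁆ = x * (z * x⁻¹ * z⁻¹) by rw [commutatorElement_def]; group]
      exact mul_mem hx ((Subgroup.mem_normalizer_iff.mp (hA₁n hz) _).mp (inv_mem hx))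
    · rw [show ⁅x, z⁆ = (x * z * x⁻¹) * z⁻¹ by rw [commutatorElement_def]]
      exact mul_mem ((Subgroup.mem_normalizer_iff.mp (hAn₁ hx) _).mp hz) (inv_mem hz)
  set Z := A ⊓ A₁ with hZ
  have hZA : ∀ z ∈ Z, ∀ a ∈ A, Commute z a := fun z hz a ha => hAcomm z hz.1 a ha
  have hZA₁ : ∀ z ∈ Z, ∀ a ∈ A₁, Commute z a := fun z hz a ha => hA₁c z hz.2 a ha
  have hZu : ∀ z ∈ Z, ∀ a ∈ A, Commute z (c a * a⁻¹) := fun z hz a ha =>
    (hZA₁ z hz _ ⟨a, ha, rfl⟩).mul_right (hZA z hz a ha).inv_right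
  have hZc : ∀ x ∈ A, ∀ z ∈ A₁, ⁅x, z⁆ ∈ Z := fun x hx z hz => hcentral x hx z hz
  -- the elements `u a` commute
  have hucomm : ∀ a ∈ A, ∀ b ∈ A, Commute (c a * a⁻¹) (c b * b⁻¹) := by
    intro a ha b hb
    set u := c a * a⁻¹ with hu_def
    set v := c b * b⁻¹ with hv_def
    have hca : c a = u * a := by rw [hu_def, inv_mul_cancel_right]
    have hcb : c b = v * b := by rw [hv_def, inv_mul_cancel_right]
    have huB : u ∈ B := (hu a ha).1
    have hvB : v ∈ B := (hu b hb).1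
    set s := ⁅a, v⁆ with hs
    set t := ⁅b, u⁆ with ht
    have hva : ⁅a, c b⁆ = s := by
      rw [hs, hcb, commutatorElement_def, commutatorElement_def, mul_inv_rev,
        show a * (v * b) * a⁻¹ * (b⁻¹ * v⁻¹) = a * v * (b * a⁻¹) * b⁻¹ * v⁻¹ by group,
        (hAcomm b hb a ha).inv_right.eq]
      group
    have hub : ⁅b, c a⁆ = t := by
      rw [ht, hca, commutatorElement_def, commutatorElement_def, mul_inv_rev,
        show b * (u * a) * b⁻¹ * (a⁻¹ * u⁻¹) = b * u * (a * b⁻¹) * a⁻¹ * u⁻¹ by group,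
        (hAcomm a ha b hb).inv_right.eq]
      group
    have hsZ : s ∈ Z := hva ▸ hZc a ha _ ⟨b, hb, rfl⟩
    have htZ : t ∈ Z := hub ▸ hZc b hb _ ⟨a, ha, rfl⟩
    have hsa := (hZA s hsZ a ha)
    have htb := (hZA t htZ b hb)
    have hsv : Commute s v := hZu s hsZ b hb
    have htu : Commute t u := hZu t htZ a ha
    have hsu : Commute s u := hZu s hsZ a ha
    have htv : Commute t v := hZu t htZ b hb
    have hsb := (hZA s hsZ b hb)
    have hta := (hZA t htZ a ha)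
    set k := ⁅u, v⁆ with hk
    have hkA : ∀ x ∈ A, Commute k x := fun x hx => (hB' u huB v hvB x hx).symm
    have hkB : ∀ x ∈ B, Commute k x := fun x hx => (hB2 u huB v hvB x hx).symm
    have hst : Commute s t := hZA s hsZ t htZ.1
    have hks : Commute k s := hkA s hsZ.1
    have hkt : Commute k t := hkA t htZ.1
    have hav : a * v = s * v * a := by rw [hs, commutatorElement_def]; group
    have hbu : b * u = t * u * b := by rw [ht, commutatorElement_def]; group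
    have huv : u * v = k * v * u := by rw [hk, commutatorElement_def]; group
    have hab : Commute a b := hAcomm a ha b hb
    -- conjugating by `y⁻¹`
    have e1 : s * k = t := by
      have h := ((hAcomm a ha b hb).map c).eq
      rw [hca, hcb] at h
      have hl : u * a * (v * b) = s * k * (v * u * (a * b)) := by
        calc u * a * (v * b) = u * (a * v) * b := by group
          _ = u * s * (v * a * b) := by rw [hav]; group
          _ = s * (u * v) * (a * b) := by rw [← hsu.eq]; group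
          _ = _ := by rw [huv]; group
      have hr : v * b * (u * a) = t * (v * u * (a * b)) := by
        calc v * b * (u * a) = v * (b * u) * a := by group
          _ = v * t * (u * (b * a)) := by rw [hbu]; group
          _ = _ := by rw [← htv.eq, hab.eq]; group
      rw [hl, hr] at h
      exact mul_right_cancel h
    -- conjugating by `y`
    have e2 : t * k = s := by
      set c' : G →* G := (MulAut.conj y).toMonoidHom with hc'
      have hc'app : ∀ g, c' g = y * g * y⁻¹ := fun g => by simp [hc']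
      set ea := ⁅y, u⁻¹⁆ with hea
      set eb := ⁅y, v⁻¹⁆ with heb
      have hca' : c' a = ea * (u⁻¹ * a) := by
        rw [hc'app, hea, commutatorElement_def, hu_def, hcapp]; group
      have hcb' : c' b = eb * (v⁻¹ * b) := by
        rw [hc'app, heb, commutatorElement_def, hv_def, hcapp]; group
      have heA : ∀ x ∈ A, Commute ea x ∧ Commute eb x := fun x hx =>
        ⟨(hB' y hyB _ (inv_mem huB) x hx).symm, (hB' y hyB _ (inv_mem hvB) x hx).symm⟩
      have heB : ∀ x ∈ B, Commute ea x ∧ Commute eb x := fun x hx =>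
        ⟨(hB2 y hyB _ (inv_mem huB) x hx).symm, (hB2 y hyB _ (inv_mem hvB) x hx).symm⟩
      have heb' : eb ∈ B := (hcN y hyB _ (inv_mem hvB)).1
      have hee : Commute ea eb := (heB eb heb').1
      have h := ((hAcomm a ha b hb).map c').eq
      rw [hca', hcb'] at h
      have c1 : Commute (u⁻¹ * a) eb :=
        (((heB u huB).2).symm.inv_left).mul_left ((heA a ha).2).symm
      have c2 : Commute (v⁻¹ * b) ea :=
        (((heB v hvB).1).symm.inv_left).mul_left ((heA b hb).1).symm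
      have h' : u⁻¹ * a * (v⁻¹ * b) = v⁻¹ * b * (u⁻¹ * a) := by
        have hl : ea * (u⁻¹ * a) * (eb * (v⁻¹ * b)) = ea * eb * (u⁻¹ * a * (v⁻¹ * b)) := by
          rw [mul_assoc ea, ← mul_assoc (u⁻¹ * a), c1.eq]; group
        have hr : eb * (v⁻¹ * b) * (ea * (u⁻¹ * a)) = ea * eb * (v⁻¹ * b * (u⁻¹ * a)) := by
          rw [mul_assoc eb, ← mul_assoc (v⁻¹ * b), c2.eq, hee.eq]; group
        rw [hl, hr] at h
        exact mul_left_cancel h
      have hav' : a * v⁻¹ = v⁻¹ * a * s⁻¹ := by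
        have : v * a = s⁻¹ * (a * v) := by rw [hav]; group
        calc a * v⁻¹ = v⁻¹ * (v * a) * v⁻¹ := by group
          _ = v⁻¹ * s⁻¹ * a := by rw [this]; group
          _ = _ := by rw [mul_assoc, (hsa.inv_left).eq]; group
      have hbu' : b * u⁻¹ = u⁻¹ * b * t⁻¹ := by
        have : u * b = t⁻¹ * (b * u) := by rw [hbu]; group
        calc b * u⁻¹ = u⁻¹ * (u * b) * u⁻¹ := by group
          _ = u⁻¹ * t⁻¹ * b := by rw [this]; group
          _ = _ := by rw [mul_assoc, (htb.inv_left).eq]; group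
      have huv' : u⁻¹ * v⁻¹ = v⁻¹ * u⁻¹ * k := by
        rw [hk, commutatorElement_def]
        have := (hkB (u⁻¹ * v⁻¹) (mul_mem (inv_mem huB) (inv_mem hvB))).eq
        rw [hk, commutatorElement_def] at this
        calc u⁻¹ * v⁻¹ = v⁻¹ * u⁻¹ * (u * v * u⁻¹ * v⁻¹) := by group
          _ = _ := rfl
      have hl2 : u⁻¹ * a * (v⁻¹ * b) = v⁻¹ * u⁻¹ * (a * b) * (k * s⁻¹) := by
        calc u⁻¹ * a * (v⁻¹ * b) = u⁻¹ * (a * v⁻¹) * b := by group
          _ = u⁻¹ * v⁻¹ * a * (s⁻¹ * b) := by rw [hav']; group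
          _ = u⁻¹ * v⁻¹ * (a * b) * s⁻¹ := by rw [hsb.inv_left.eq]; group
          _ = v⁻¹ * u⁻¹ * (k * (a * b)) * s⁻¹ := by rw [huv']; group
          _ = _ := by rw [((hkA a ha).mul_right (hkA b hb)).eq]; group
      have hr2 : v⁻¹ * b * (u⁻¹ * a) = v⁻¹ * u⁻¹ * (a * b) * t⁻¹ := by
        calc v⁻¹ * b * (u⁻¹ * a) = v⁻¹ * (b * u⁻¹) * a := by group
          _ = v⁻¹ * u⁻¹ * b * (t⁻¹ * a) := by rw [hbu']; group
          _ = v⁻¹ * u⁻¹ * (b * a) * t⁻¹ := by rw [hta.inv_left.eq]; group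
          _ = _ := by rw [hab.eq]
      rw [hl2, hr2] at h'
      have h2 := mul_left_cancel h'
      rw [mul_inv_eq_iff_eq_mul, eq_inv_mul_iff_mul_eq] at h2
      exact h2
    have hk2 : k * k = 1 := by
      have h4 : s * (k * k) = s * 1 := by rw [← mul_assoc, e1, e2, mul_one]
      exact mul_left_cancel h4
    have hk1 : k = 1 := by
      rcases hodd with hp2 | ⟨hBab, -⟩
      swap
      · exact commutatorElement_eq_one_iff_commute.mpr (hBab u huB v hvB)
      obtain ⟨i, hi⟩ := hS.to_le hBS ⟨k, (hcN u huB v hvB).1⟩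
      have hi' : k ^ p ^ i = 1 := congrArg Subtype.val hi
      rw [← orderOf_eq_one_iff]
      refine Nat.eq_one_of_dvd_coprimes (a := 2) (b := p ^ i)
        (Nat.Coprime.pow_right i ((Nat.coprime_primes Nat.prime_two hp.out).mpr hp2.symm)) ?_
        (orderOf_dvd_of_pow_eq_one hi')
      exact orderOf_dvd_of_pow_eq_one (by rw [pow_two, hk2])
    exact commutatorElement_eq_one_iff_commute.mp hk1
  set K := Subgroup.closure ((fun a => c a * a⁻¹) '' (A : Set G)) with hK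
  set A' := Z ⊔ K with hA'
  have hKN : K ≤ N := (Subgroup.closure_le _).mpr (by rintro _ ⟨a, ha, rfl⟩; exact hu a ha)
  set gens := (Z : Set G) ∪ (fun a => c a * a⁻¹) '' (A : Set G) with hgens
  have hA'cl : A' = Subgroup.closure gens := by
    rw [hA', hgens, hK, Subgroup.closure_union, Subgroup.closure_eq]
  have hgc : ∀ x ∈ gens, ∀ z ∈ gens, x * z = z * x := by
    rintro x (hx | ⟨a, ha, rfl⟩) z (hz | ⟨b, hb, rfl⟩)
    · exact hZA x hx z hz.1
    · exact hZu x hx b hb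
    · exact (hZu z hz a ha).symm
    · exact hucomm a ha b hb
  have hA'c : IsMulCommutative A' := hA'cl ▸ Subgroup.isMulCommutative_closure hgc
  have hA'comm : ∀ x ∈ A', ∀ z ∈ A', Commute x z := fun x hx z hz =>
    congrArg Subtype.val (mul_comm' (⟨x, hx⟩ : A') ⟨z, hz⟩)
  -- powers of the generators
  have hupow : ∀ a ∈ A, ∀ n : ℕ, a ^ n = 1 → (∀ z ∈ A, z ^ n.choose 2 = 1 ∨ ¬ Commute z a) →
      (c a * a⁻¹) ^ n = 1 := by
    intro a ha n han hch
    have hq : ⁅a⁻¹, c a⁆ ∈ Z := hZc _ (inv_mem ha) _ ⟨a, ha, rfl⟩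
    have hqx : Commute ⁅a⁻¹, c a⁆ (c a) := hZA₁ _ hq _ ⟨a, ha, rfl⟩
    have hqy : Commute ⁅a⁻¹, c a⁆ a⁻¹ := hZA _ hq _ (inv_mem ha)
    rw [mul_pow_of_central hqx hqy, ← map_pow, han, map_one, inv_pow, han, inv_one, one_mul,
      one_mul]
    rcases hch _ hq.1 with h | h
    · exact h
    · exact absurd (hAcomm _ hq.1 a ha) h
  have hqp : ∀ a ∈ A, a ^ p = 1 → (c a * a⁻¹) ^ p = 1 := by
    intro a ha hap
    have hq : ⁅a⁻¹, c a⁆ ∈ Z := hZc _ (inv_mem ha) _ ⟨a, ha, rfl⟩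
    have hqx : Commute ⁅a⁻¹, c a⁆ (c a) := hZA₁ _ hq _ ⟨a, ha, rfl⟩
    have hqy : Commute ⁅a⁻¹, c a⁆ a⁻¹ := hZA _ hq _ (inv_mem ha)
    have hqpow : ⁅a⁻¹, c a⁆ ^ p = 1 := by
      have h1 : ∀ n : ℕ, ⁅a⁻¹, c a⁆ ^ n = ⁅(a⁻¹) ^ n, c a⁆ := fun n => by
        induction n with
        | zero => simp [commutatorElement_def]
        | succ n ih =>
          have : ⁅(a⁻¹) ^ (n + 1), c a⁆ = a⁻¹ * ⁅(a⁻¹) ^ n, c a⁆ * (a⁻¹)⁻¹ * ⁅a⁻¹, c a⁆ := by
            simp only [commutatorElement_def, pow_succ']; group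
          rw [this, ← ih, ← (hqy.pow_left n).eq, mul_inv_cancel_right, ← pow_succ]
      rw [h1, inv_pow, hap, inv_one, commutatorElement_one_left]
    obtain ⟨d, hd⟩ : p ∣ p.choose 2 :=
      hp.out.dvd_choose_self (by norm_num) (lt_of_le_of_ne hp.out.two_le hp2.symm)
    rw [mul_pow_of_central hqx hqy, ← map_pow, hap, map_one, inv_pow, hap, inv_one, one_mul,
      one_mul, hd, pow_mul, hqpow, one_pow]
  -- the homomorphism `A → A' / Z`
  haveI hZn : (Z.subgroupOf A').Normal :=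
    ⟨fun n hn' g => by rwa [mul_comm' g n, mul_inv_cancel_right]⟩
  have hfm : ∀ a ∈ A, c a * a⁻¹ ∈ A' := fun a ha =>
    Subgroup.mem_sup_right (Subgroup.subset_closure ⟨a, ha, rfl⟩)
  let φ : A →* A' ⧸ Z.subgroupOf A' := MonoidHom.mk'
    (fun a => ((⟨c a * (a : G)⁻¹, hfm a a.2⟩ : A') : A' ⧸ Z.subgroupOf A')) (fun a b => by
      rw [← QuotientGroup.mk_mul, QuotientGroup.eq, Subgroup.mem_subgroupOf]
      show (c (↑a * ↑b) * (↑a * ↑b : G)⁻¹)⁻¹ * (c a * (a : G)⁻¹ * (c b * (b : G)⁻¹)) ∈ Z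
      have hq : ⁅(a : G), c b⁻¹⁆ ∈ Z := hZc _ a.2 _ ⟨_, inv_mem b.2, rfl⟩
      have e : (c (↑a * ↑b) * (↑a * ↑b : G)⁻¹)⁻¹ * (c a * (a : G)⁻¹ * (c b * (b : G)⁻¹)) =
          (a : G) * b * (c b)⁻¹ * (a : G)⁻¹ * c b * (b : G)⁻¹ := by
        rw [map_mul]; group
      rw [e, (hAcomm a a.2 b b.2).eq]
      have e2 : (b : G) * a * (c b)⁻¹ * (a : G)⁻¹ * c b * (b : G)⁻¹ =
          (b : G) * ⁅(a : G), c b⁻¹⁆ * (b : G)⁻¹ := by
        rw [map_inv, commutatorElement_def]; group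
      rw [e2, (hAcomm b b.2 _ hq.1).eq, mul_inv_cancel_right]
      exact hq)
  have hABZ : A ⊓ B ≤ Z := by
    intro x hx
    refine ⟨hx.1, ?_⟩
    have hxy' : ⁅x, y⁆ ∈ A₁ := ⟨⁅x, y⁆, hcA x hx.2 y hyB, by
      rw [hcapp, mul_assoc, ← hB2 x hx.2 y hyB y hyB, inv_mul_cancel_left]⟩
    have hmem := mul_mem (inv_mem hxy') (show c x ∈ A₁ from ⟨x, hx.1, rfl⟩)
    have hcom : ⁅x, y⁆⁻¹ * c x = x := by
      have h7 := hB2 x hx.2 y hyB y hyB
      have h8 : c x = y⁻¹ * (⁅x, y⁆ * y) * x := by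
        rw [hcapp, commutatorElement_def]; group
      rw [h8, ← h7, inv_mul_cancel_left, inv_mul_cancel_left]
    rwa [hcom] at hmem
  set Z₀ := A ⊓ A.comap c with hZ₀
  have hker : φ.ker = Z₀.subgroupOf A := by
    ext a
    show ((⟨c a * (a : G)⁻¹, hfm a a.2⟩ : A') : A' ⧸ Z.subgroupOf A') = 1 ↔ _
    rw [QuotientGroup.eq_one_iff, Subgroup.mem_subgroupOf, Subgroup.mem_subgroupOf]
    refine ⟨fun h => ⟨a.2, ?_⟩, fun h => ?_⟩
    · have := A.mul_mem h.1 a.2
      simpa using this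
    · exact hABZ ⟨A.mul_mem h.2 (A.inv_mem a.2), (hu a a.2).1⟩
  have hsurj : φ.range = ⊤ := by
    rw [eq_top_iff]
    intro q hq
    clear hq
    obtain ⟨⟨x, hx⟩, rfl⟩ := QuotientGroup.mk_surjective q
    have hx' : x ∈ Subgroup.closure gens := hA'cl.le hx
    induction hx' using Subgroup.closure_induction with
    | mem z hz =>
      rcases hz with hz | ⟨a, ha, rfl⟩
      · refine ⟨1, ?_⟩
        rw [map_one, eq_comm, QuotientGroup.eq_one_iff, Subgroup.mem_subgroupOf]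
        exact hz
      · exact ⟨⟨a, ha⟩, rfl⟩
    | one => exact ⟨1, map_one φ⟩
    | mul u v hu' hv' ihu ihv =>
      have hu'' : u ∈ A' := hA'cl ▸ hu'
      have hv'' : v ∈ A' := hA'cl ▸ hv'
      exact mul_mem (ihu hu'') (ihv hv'')
    | inv u hu' ihu =>
      have hu'' : u ∈ A' := hA'cl ▸ hu'
      exact inv_mem (ihu hu'')
  have hZA' : Z ≤ A' := le_sup_left
  have hcinj : Function.Injective c := (MulAut.conj y⁻¹).injective
  have hcardZ : Nat.card Z₀ = Nat.card Z := by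
    have : Z₀.map c = Z := by
      ext x
      constructor
      · rintro ⟨a, ⟨ha, hca⟩, rfl⟩; exact ⟨hca, a, ha, rfl⟩
      · rintro ⟨hx, a, ha, rfl⟩; exact ⟨a, ⟨ha, hx⟩, rfl⟩
    rw [← this, Subgroup.card_map_of_injective hcinj]
  have hcard : Nat.card A' = Nat.card A := by
    have h2 := Subgroup.card_eq_card_quotient_mul_card_subgroup (Z.subgroupOf A')
    rw [Nat.card_congr (Subgroup.subgroupOfEquivOfLe hZA').toEquiv] at h2
    have h1 := φ.ker.card_mul_index
    rw [Subgroup.index_ker, hsurj, Subgroup.card_top, hker,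
      Nat.card_congr (Subgroup.subgroupOfEquivOfLe (inf_le_left : Z₀ ≤ A)).toEquiv, hcardZ] at h1
    rw [h2, ← h1, mul_comm]
  -- exponent
  have hexp : Monoid.exponent A' ∣ Monoid.exponent A := by
    have hEA : ∀ a ∈ A, a ^ Monoid.exponent A = 1 := fun a ha =>
      congrArg Subtype.val (Monoid.pow_exponent_eq_one (⟨a, ha⟩ : A))
    have hodd' : Odd (Monoid.exponent A) := by
      have h1 : Monoid.exponent A ∣ Nat.card A := Group.exponent_dvd_nat_card
      obtain ⟨k, hk⟩ := (hG.to_subgroup A).exists_card_eq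
      rw [hk] at h1
      exact ((hp.out.odd_of_ne_two hp2).pow).of_dvd_nat h1
    obtain ⟨m, hm⟩ := hodd'
    have hch : (Monoid.exponent A).choose 2 = Monoid.exponent A * m := by
      rw [Nat.choose_two_right, hm, Nat.add_sub_cancel, mul_comm (2 * m + 1),
        mul_assoc 2, Nat.mul_div_cancel_left _ (by norm_num), mul_comm]
    have hgen : ∀ x ∈ gens, x ^ Monoid.exponent A = 1 := by
      rintro x (hx | ⟨a, ha, rfl⟩)
      · exact hEA x hx.1
      · exact hupow a ha _ (hEA a ha) fun z hz => Or.inl (by rw [hch, pow_mul, hEA z hz, one_pow])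
    rw [Monoid.exponent_dvd_iff_forall_pow_eq_one]
    rintro ⟨x, hx⟩
    refine Subtype.ext ?_
    show x ^ Monoid.exponent A = 1
    have hx' : x ∈ Subgroup.closure gens := hA'cl.le hx
    induction hx' using Subgroup.closure_induction with
    | mem z hz => exact hgen z hz
    | one => exact one_pow _
    | mul u v hu' hv' ihu ihv =>
      have hu'' : u ∈ A' := hA'cl ▸ hu'
      have hv'' : v ∈ A' := hA'cl ▸ hv'
      rw [(hA'comm u hu'' v hv'').mul_pow, ihu hu'', ihv hv'', one_mul]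
    | inv u hu' ihu =>
      have hu'' : u ∈ A' := hA'cl ▸ hu'
      rw [inv_pow, ihu hu'', inv_one]
  -- omega
  have hΩ : Nat.card (Cfsg.omegaOne p A) ≤ Nat.card (Cfsg.omegaOne p A') := by
    have hΩA : Cfsg.omegaOne p A ≤ A := (Subgroup.closure_le _).mpr fun x hx => hx.1
    have hΩA' : Cfsg.omegaOne p A' ≤ A' := (Subgroup.closure_le _).mpr fun x hx => hx.1
    have hpowA : ∀ x ∈ Cfsg.omegaOne p A, x ^ p = 1 := by
      intro x hx
      induction hx using Subgroup.closure_induction with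
      | mem z hz => exact hz.2
      | one => exact one_pow _
      | mul u v hu' hv' ihu ihv =>
        rw [(hAcomm u (hΩA hu') v (hΩA hv')).mul_pow, ihu, ihv, one_mul]
      | inv u hu' ihu => rw [inv_pow, ihu, inv_one]
    set X := (Cfsg.omegaOne p A).subgroupOf A with hX
    set M := (Cfsg.omegaOne p A').subgroupOf A' with hM
    set ψ := φ.comp X.subtype with hψ
    set μ := (QuotientGroup.mk' (Z.subgroupOf A')).comp M.subtype with hμ
    have hle : ψ.range ≤ μ.range := by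
      rintro _ ⟨⟨a, ha⟩, rfl⟩
      exact ⟨⟨⟨c a * (a : G)⁻¹, hfm a a.2⟩, Subgroup.subset_closure
        ⟨hfm a a.2, hqp a a.2 (hpowA _ ha)⟩⟩, rfl⟩
    have hk : Nat.card ψ.ker ≤ Nat.card μ.ker := by
      refine Nat.card_le_card_of_injective
        (fun a => ⟨⟨⟨c ((a : X) : A), ?_⟩, ?_⟩, ?_⟩) fun a b h => ?_
      · have h1 : ((a : X) : A) ∈ φ.ker := a.2
        rw [hker] at h1
        exact hZA' ⟨h1.2, _, ((a : X) : A).2, rfl⟩
      · have h1 : ((a : X) : A) ∈ φ.ker := a.2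
        rw [hker] at h1
        refine Subgroup.subset_closure ⟨hZA' ⟨h1.2, _, ((a : X) : A).2, rfl⟩, ?_⟩
        show c (((a : X) : A) : G) ^ p = 1
        rw [← map_pow]
        exact (congrArg c (hpowA _ (a : X).2)).trans (map_one c)
      · have h1 : ((a : X) : A) ∈ φ.ker := a.2
        rw [hker] at h1
        rw [MonoidHom.mem_ker]
        exact (QuotientGroup.eq_one_iff _).mpr ⟨h1.2, _, ((a : X) : A).2, rfl⟩
      · exact Subtype.ext (Subtype.ext (Subtype.ext (hcinj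
          (congrArg (fun w : μ.ker => (((w : M) : A') : G)) h))))
    have e1 := ψ.ker.card_mul_index
    have e2 := μ.ker.card_mul_index
    rw [Subgroup.index_ker] at e1 e2
    calc Nat.card (Cfsg.omegaOne p A) = Nat.card X :=
          (Nat.card_congr (Subgroup.subgroupOfEquivOfLe hΩA).toEquiv).symm
      _ ≤ Nat.card M := by
          rw [← e1, ← e2]
          exact Nat.mul_le_mul hk (Subgroup.card_le_of_le hle)
      _ = _ := Nat.card_congr (Subgroup.subgroupOfEquivOfLe hΩA').toEquiv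
  refine ⟨A', hA'c, hcard, ?_, sup_le (inf_le_left.trans Subgroup.le_normalizer)
    (hKN.trans inf_le_right), ?_, hexp, hΩ⟩
  · refine lt_of_le_of_ne (le_inf (hABZ.trans hZA') inf_le_right) fun heq => ?_
    refine hyN (Subgroup.mem_inf.mpr ⟨hyB, ?_⟩)
    rw [Coprime.mem_normalizer_iff_conj_smul]
    have hA₁A : A₁ ≤ A := by
      rintro _ ⟨a, ha, rfl⟩
      have h1 : c a * a⁻¹ ∈ A' ⊓ B := ⟨hfm a ha, (hu a ha).1⟩
      rw [← heq] at h1
      have := mul_mem h1.1 ha
      rwa [inv_mul_cancel_right] at this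
    have heq' : A₁ = A := Subgroup.eq_of_le_of_card_ge hA₁A
      (by rw [hA₁, Subgroup.card_map_of_injective (MulAut.conj y⁻¹).injective])
    have h8 : MulAut.conj y⁻¹ • A = A := heq'
    calc MulAut.conj y • A = MulAut.conj y • (MulAut.conj y⁻¹ • A) := by rw [h8]
      _ = A := by rw [← mul_smul, ← map_mul, mul_inv_cancel, map_one, one_smul]
  · have hAn : A ≤ Subgroup.normalClosure (A : Set G) := Subgroup.le_normalClosure
    refine sup_le (inf_le_left.trans hAn) ((Subgroup.closure_le _).mpr ?_)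
    rintro _ ⟨a, ha, rfl⟩
    refine mul_mem ?_ (inv_mem (hAn ha))
    have h1 := Subgroup.Normal.conj_mem
      (inferInstance : (Subgroup.normalClosure (A : Set G)).Normal) a (hAn ha) y⁻¹
    rw [inv_inv] at h1
    rw [hcapp]
    exact h1

end CfsgLib.ZJ
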