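import Mathlib
import Cfsg.Agent.Lib.ZJ.StableControl
import Cfsg.Agent.Lib.ZJ.Marked
import Cfsg.Agent.Lib.Fusion.ZJControl
import Cfsg.Agent.Lib.PSolvable.Core

/-!
`Z(J(P))` controls strong fusion in a normalizer-`p`-stable group (`p` odd); with constrained local
subgroups so do the Thompson centres of a strongly closed subgroup.
-/

set_option autoImplicit false
set_option linter.style.haveILetI false

namespace CfsgLib.ZJ

open CfsgLib.Transfer CfsgLib.Conjugacy

universe u

variable {G : Type u} [Group G] [Finite G] {p : ℕ} [hp : Fact p.Prime]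

/-- **ZJ controls strong fusion** in normalizer-`p`-stable groups. -/
theorem controlsStrongFusionOf_zj (hp2 : p ≠ 2) (hst : Cfsg.IsNormalizerPStable p G) (P : Sylow p G)
    (A : Set G) (hA : A ⊆ (P : Subgroup G)) :
    Cfsg.ControlsStrongFusionOf (Subgroup.normalizer (zJ 0 (P : Subgroup G) : Set G))
      (P : Subgroup G) A := by
  set W : ∀ (Q : Type u) [Group Q], Subgroup Q := fun Q _ => Fusion.zjFunctor Q
  have hW : Cfsg.IsCharPFunctor.{u} p W := ⟨Fusion.zjFunctor_ne_bot, Fusion.zjFunctor_map⟩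
  have hind : ∀ {X : Type u} [Group X] (T : Subgroup X), Cfsg.inducedFunctor W T = zJ 0 T :=
    fun T => (Fusion.functorOf_zjFunctor T).trans (centerThompsonAOf_eq T)
  have h𝓦 : ∀ V ∈ ({W} : Set (∀ (Q : Type u) [Group Q], Subgroup Q)),
      Cfsg.IsCharPFunctor.{u} p V := by
    rintro V rfl
    exact hW
  have hloc : LocalOn p {W} (fun (X : Type u) [Group X] => Cfsg.IsNormalizerPStable p X) := by
    intro X _ _ hX hc S Q g hQ hgQ
    refine Ctl.step _ ⟨W, rfl, rfl⟩ ?_ hQ hgQ
    have hn : (zJ 0 (S : Subgroup X)).Normal :=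
      normal_of_constrained hp2 (Or.inl rfl) S hc (stableAt_of_isNormalizerPStable hX _) inf_le_left
        inf_le_right (normalizer_thompsonJ_le_zJ 0 _)
    rw [hind, Subgroup.normalizer_eq_top_iff.mpr hn]
    exact Subgroup.mem_top g
  have hG : Controlled p {W} G := ZJ.controlled_of_local h𝓦 hloc (closed_isNormalizerPStable hp2) hst
  have h := controlsStrongFusionOf_of_controlled hG P A hA
  rwa [hind] at h

/-- The main theorem, for any subgroup of `Z(J_e(D))` normalized by `N(J_e(D))`. -/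
theorem controlsStrongFusionOf_marked_stable (hp2 : p ≠ 2) {e : ℕ} (he : e = 0 ∨ e = p) (P : Sylow p G)
    (hst : Cfsg.IsNormalizerPStable p G)
    (hloc : ∀ U : Subgroup G, U ≤ (P : Subgroup G) → U ≠ ⊥ →
      Cfsg.IsPConstrained p ↥(Subgroup.normalizer (U : Set G))) {D : Subgroup G}
    (hD : Cfsg.IsStronglyClosed D (P : Subgroup G))
    (X : ∀ {Q : Type u} [Group Q], Subgroup Q → Subgroup Q)
    (hXJ : ∀ {Q : Type u} [Group Q] (E : Subgroup Q), X E ≤ thompsonJ e E)
    (hXC : ∀ {Q : Type u} [Group Q] (E : Subgroup Q),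
      X E ≤ Subgroup.centralizer (thompsonJ e E : Set Q))
    (hXN : ∀ {Q : Type u} [Group Q] (E : Subgroup Q),
      Subgroup.normalizer (thompsonJ e E : Set Q) ≤ Subgroup.normalizer (X E : Set Q))
    (hXmap : ∀ {Q R : Type u} [Group Q] [Group R] (f : Q →* R) (E : Subgroup Q),
      Set.InjOn f (E : Set Q) → (X E).map f = X (E.map f)) :
    ∀ A : Set G, A ⊆ (P : Subgroup G) →
      Cfsg.ControlsStrongFusionOf (Subgroup.normalizer (X D : Set G)) (P : Subgroup G) A := by
  by_cases hP1 : (P : Subgroup G) = ⊥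
  · intro A hA
    refine ⟨hA, fun g hg => ⟨1, Subgroup.one_mem _, fun a ha => ?_⟩⟩
    have ha1 : a = 1 := Subgroup.mem_bot.1 (hP1 ▸ hA ha)
    simp [ha1]
  set U := zJ 0 (P : Subgroup G) with hU
  set H := Subgroup.normalizer (U : Set G) with hH
  have hPH : (P : Subgroup G) ≤ H :=
    Subgroup.le_normalizer.trans (normalizer_le_normalizer_zJ 0 _)
  have hXD : X D ≤ D := (hXJ D).trans (thompsonJ_le e D)
  have hPX : (P : Subgroup G) ≤ Subgroup.normalizer (X D : Set G) :=
    ((sylow_le_normalizer_of_closed P hD.1 hD.2).trans (normalizer_le_normalizer_thompsonJ e D)).trans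
      (hXN D)
  refine controlsStrongFusionOf_of_core P (hXD.trans hD.1) hPX hPH
    (fun A hA => controlsStrongFusionOf_zj hp2 hst P A hA) ?_
  haveI := pPrimeCore_normal p H
  set f := QuotientGroup.mk' (Cfsg.pPrimeCore p H) with hf
  have hfs : Function.Surjective f := QuotientGroup.mk'_surjective _
  have hker : (Nat.card f.ker).Coprime p := by
    rw [hf, QuotientGroup.ker_mk']; exact pPrimeCore_coprime p
  set PH : Sylow p H := P.subtype hPH with hPHdef
  have hU1 : U ≠ ⊥ := fun hbot => by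
    obtain ⟨z, hz, hz1, -⟩ := zJ_ne_bot (p := p) (e := 0) (Or.inl rfl) P.2 hP1
    exact hz1 (Subgroup.mem_bot.1 (hbot ▸ hz))
  have hcons := PSolvable.isPConstrained_iff.1 (hloc U (zJ_le 0 _) hU1)
  have hinj : ∀ a ∈ (PH : Subgroup H), ∀ b ∈ (PH : Subgroup H), f a = f b → a = b :=
    fun a ha b hb h => inv_mul_eq_one.mp (PSolvable.eq_one_of_mem_of_mem PH.2 hker
      (mul_mem (inv_mem ha) hb) (by rw [MonoidHom.mem_ker, map_mul, map_inv, h, inv_mul_cancel]))
  set D' := D.subgroupOf H with hD'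
  have hD'P : D' ≤ (PH : Subgroup H) := fun x hx => hD.1 hx
  have hst : StableAt p ((PH.mapSurjective hfs : Sylow p _) : Subgroup (↥H ⧸ Cfsg.pPrimeCore p H)) :=
    stableAt_of_isNormalizerPStable (isNormalizerPStable_of_coprime_ker f hfs hker
      (isNormalizerPStable_of_injective H.subtype H.subtype_injective hst)) _
  have hcl : ∀ x ∈ D'.map f, ∀ g : ↥H ⧸ Cfsg.pPrimeCore p H,
      g * x * g⁻¹ ∈ ((PH.mapSurjective hfs : Sylow p _) : Subgroup (↥H ⧸ Cfsg.pPrimeCore p H)) →
      g * x * g⁻¹ ∈ D'.map f := by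
    rintro _ ⟨d, hd, rfl⟩ g hgd
    obtain ⟨g, rfl⟩ := hfs g
    rw [Sylow.coe_mapSurjective, ← map_inv, ← map_mul, ← map_mul] at hgd
    set y := g * d * g⁻¹ with hy
    set Y := ((PH : Subgroup H).map f).comap f with hY
    obtain ⟨c, hc', hcy⟩ := exists_cj_le PH (Y := Y) (Subgroup.le_comap_map f _)
      (Q := Subgroup.zpowers y) (Subgroup.zpowers_le.2 hgd) (by
        have h1 := (PH.2.to_le (Subgroup.zpowers_le.2 (hD'P hd))).map (MulAut.conj g).toMonoidHom
        rwa [MonoidHom.map_zpowers] at h1)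
    obtain ⟨q, hq, hqc⟩ := (hc' : f c ∈ (PH : Subgroup H).map f)
    set k := q⁻¹ * c with hk
    have hfk : f k = 1 := by rw [hk, map_mul, map_inv, hqc, inv_mul_cancel]
    have hky : k * y * k⁻¹ ∈ (PH : Subgroup H) := by
      rw [hk, show q⁻¹ * c * y * (q⁻¹ * c)⁻¹ = q⁻¹ * (c * y * c⁻¹) * q by group]
      exact mul_mem (mul_mem (inv_mem hq) (hcy (conj_mem_cj (Subgroup.mem_zpowers y)))) hq
    refine ⟨k * y * k⁻¹, ?_, ?_⟩
    · have h1 := hD.2 (d : G) hd ((k * g : H) : G)
      have e : ((k * g : H) : G) * (d : G) * ((k * g : H) : G)⁻¹ = ((k * y * k⁻¹ : H) : G) := by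
        rw [hy]; simp only [Subgroup.coe_mul, Subgroup.coe_inv]; group
      rw [e] at h1
      exact Subgroup.mem_subgroupOf.2 (h1 hky)
    · rw [map_mul, map_mul, map_inv, hfk, hy, map_mul, map_mul, map_inv]
      simp
  have hinjD : Set.InjOn f (D' : Set H) := fun a ha b hb h => hinj a (hD'P ha) b (hD'P hb) h
  have hn := normal_of_constrained_closed hp2 he (PH.mapSurjective hfs) hcons hst
    (D₀ := D'.map f) (by rw [Sylow.coe_mapSurjective]; exact Subgroup.map_mono hD'P) hcl
    (hXJ _) (hXC _) (hXN _)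
  have heq : (X D).subgroupOf H = X D' := by
    refine Subgroup.map_injective H.subtype_injective ?_
    rw [hXmap H.subtype D' H.subtype_injective.injOn, Subgroup.map_subgroupOf_eq_of_le
      ((hXD.trans hD.1).trans hPH), hD', Subgroup.map_subgroupOf_eq_of_le (hD.1.trans hPH)]
  rwa [heq, hXmap f D' hinjD]

end CfsgLib.ZJ
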