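import Mathlib
import Cfsg.Agent.Lib.ZJ.StableMarked

/-!
The iterated `Z(J)` functor: the preimage of the value at `C(Z J)/ZJ`, iterated. It is
self-centralizing, and in normalizer-`p`-stable groups (`p` odd) its normalizer controls strong
fusion.
-/

set_option autoImplicit false
set_option linter.style.haveILetI false

namespace CfsgLib.ZJ

open scoped commutatorElement
open CfsgLib.Transfer CfsgLib.Conjugacy

universe u

instance normal_subgroupOf_centralizer {X : Type*} [Group X] (Z : Subgroup X) :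
    (Z.subgroupOf (Subgroup.centralizer (Z : Set X))).Normal := by
  refine ⟨fun z hz c => ?_⟩
  rw [Subgroup.mem_subgroupOf] at hz ⊢
  simp only [Subgroup.coe_mul, Subgroup.coe_inv]
  rw [← c.2 _ hz, mul_inv_cancel_right]
  exact hz

/-- The iterated `Z(J)`, `n` steps. -/
noncomputable def starFun : ℕ → ∀ (Q : Type u) [Group Q], Subgroup Q
  | 0, _, _ => ⊤
  | n + 1, Q, _ =>
    ((starFun n (↥(Subgroup.centralizer (Fusion.zjFunctor Q : Set Q)) ⧸
        (Fusion.zjFunctor Q).subgroupOf (Subgroup.centralizer (Fusion.zjFunctor Q : Set Q)))).comap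
      (QuotientGroup.mk' _)).map (Subgroup.centralizer (Fusion.zjFunctor Q : Set Q)).subtype

variable {p : ℕ} [hp : Fact p.Prime]

theorem zjFunctor_commutes {Q : Type u} [Group Q] :
    Fusion.zjFunctor Q ≤ Subgroup.centralizer (Fusion.zjFunctor Q : Set Q) :=
  inf_le_right.trans (Subgroup.centralizer_le inf_le_left)

theorem zjFunctor_le_starFun (n : ℕ) (Q : Type u) [Group Q] :
    Fusion.zjFunctor Q ≤ starFun n Q := by
  cases n with
  | zero => exact le_top
  | succ n =>
    intro z hz
    exact ⟨⟨z, zjFunctor_commutes hz⟩,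
      Subgroup.mem_comap.2 (by
        rw [QuotientGroup.mk'_apply, (QuotientGroup.eq_one_iff _).2 (Subgroup.mem_subgroupOf.2 hz)]
        exact one_mem _), rfl⟩

theorem starFun_map (n : ℕ) : ∀ (Q R : Type u) [Group Q] [Group R] [Finite Q], IsPGroup p Q →
    ∀ φ : Q ≃* R, (starFun n Q).map φ.toMonoidHom = starFun n R := by
  induction n with
  | zero => exact fun Q R _ _ _ _ φ => Subgroup.map_top_of_surjective _ φ.surjective
  | succ n ih =>
    intro Q R _ _ _ hQ φ
    set ZQ := Fusion.zjFunctor Q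
    set ZR := Fusion.zjFunctor R
    have hZ : ZQ.map φ.toMonoidHom = ZR := Fusion.zjFunctor_map Q R hQ φ
    set CQ := Subgroup.centralizer (ZQ : Set Q)
    set CR := Subgroup.centralizer (ZR : Set R)
    have hC : CQ.map φ.toMonoidHom = CR := by
      refine le_antisymm ?_ fun c hc => ⟨φ.symm c, fun z hz => ?_, φ.apply_symm_apply c⟩
      · rintro _ ⟨c, hc, rfl⟩
        rw [show CR = Subgroup.centralizer ((ZQ.map φ.toMonoidHom : Subgroup R) : Set R) by rw [hZ]]
        rintro _ ⟨z, hz, rfl⟩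
        rw [← map_mul, ← map_mul, hc z hz]
      · apply φ.injective
        rw [map_mul, map_mul, φ.apply_symm_apply]
        exact hc _ (hZ.le ⟨z, hz, rfl⟩)
    let eC : CQ ≃* CR := (φ.subgroupMap CQ).trans (MulEquiv.subgroupCongr hC)
    have heC : ∀ c : CQ, (eC c : R) = φ c := fun c => rfl
    have hk : (ZQ.subgroupOf CQ).map eC.toMonoidHom = ZR.subgroupOf CR := by
      refine le_antisymm ?_ fun r hr => ⟨eC.symm r, ?_, eC.apply_symm_apply r⟩
      · rintro _ ⟨c, hc, rfl⟩
        exact Subgroup.mem_subgroupOf.2 (hZ.le ⟨(c : Q), Subgroup.mem_subgroupOf.1 hc, (heC c).symm⟩)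
      · obtain ⟨z, hz, hzr⟩ := hZ.ge (Subgroup.mem_subgroupOf.1 hr)
        refine Subgroup.mem_subgroupOf.2 ?_
        rwa [show ((eC.symm r : CQ) : Q) = z from φ.injective (by
          rw [← heC, eC.apply_symm_apply]; exact hzr.symm)]
    let eb := QuotientGroup.congr (ZQ.subgroupOf CQ) (ZR.subgroupOf CR) eC hk
    have h := ih _ _ ((hQ.to_subgroup CQ).to_quotient _) eb
    show ((Subgroup.comap (QuotientGroup.mk' (ZQ.subgroupOf CQ)) (starFun n _)).map CQ.subtype).map
      φ.toMonoidHom = (Subgroup.comap (QuotientGroup.mk' (ZR.subgroupOf CR)) (starFun n _)).map CR.subtype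
    rw [← h]
    ext r
    constructor
    · rintro ⟨_, ⟨c, hc, rfl⟩, rfl⟩
      exact ⟨eC c, ⟨_, hc, rfl⟩, rfl⟩
    · rintro ⟨c, ⟨x, hx, hxc⟩, rfl⟩
      obtain ⟨c₀, rfl⟩ := eC.surjective c
      refine ⟨_, ⟨c₀, ?_, rfl⟩, (heC c₀).symm⟩
      have h2 : eb x = eb (QuotientGroup.mk' _ c₀) := hxc
      rw [eb.injective h2] at hx
      exact hx

theorem isCharPFunctor_starFun (n : ℕ) : Cfsg.IsCharPFunctor.{u} p (starFun n) :=
  ⟨fun Q _ _ hQ hn hbot =>
    Fusion.zjFunctor_ne_bot Q hQ hn (le_bot_iff.1 (hbot ▸ zjFunctor_le_starFun n Q)),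
    starFun_map n⟩

theorem centralizer_starFun_le (n : ℕ) : ∀ (Q : Type u) [Group Q],
    Subgroup.centralizer (starFun n Q : Set Q) ≤ starFun n Q := by
  induction n with
  | zero => exact fun Q _ => le_top
  | succ n ih =>
    intro Q _ c hc
    have hcC : c ∈ Subgroup.centralizer (Fusion.zjFunctor Q : Set Q) :=
      Subgroup.centralizer_le (zjFunctor_le_starFun (n + 1) Q) hc
    refine ⟨⟨c, hcC⟩, Subgroup.mem_comap.2 (ih _ ?_), rfl⟩
    intro x hx
    obtain ⟨y, rfl⟩ := QuotientGroup.mk'_surjective _ x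
    rw [← map_mul, ← map_mul]
    exact congrArg _ (Subtype.ext (hc y ⟨y, hx, rfl⟩))

theorem inducedFunctor_zjFunctor {X : Type u} [Group X] (T : Subgroup X) :
    (Fusion.zjFunctor T).map T.subtype = zJ 0 T :=
  (Fusion.functorOf_zjFunctor T).trans (centerThompsonAOf_eq T)

/-- The value at a subgroup, computed in the ambient centralizer. -/
theorem inducedFunctor_starFun_succ (n : ℕ) {G : Type u} [Group G] [Finite G] {P : Subgroup G}
    (hP : IsPGroup p P) :
    Cfsg.inducedFunctor (starFun (n + 1)) P =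
      ((Cfsg.inducedFunctor (starFun n)
        ((P.subgroupOf (Subgroup.centralizer (zJ 0 P : Set G))).map
          (QuotientGroup.mk' ((zJ 0 P).subgroupOf (Subgroup.centralizer (zJ 0 P : Set G)))))).comap
        (QuotientGroup.mk' _)).map (Subgroup.centralizer (zJ 0 P : Set G)).subtype := by
  set Z := zJ 0 P with hZ
  set C := Subgroup.centralizer (Z : Set G)
  set f := QuotientGroup.mk' (Z.subgroupOf C)
  set Tb := (P.subgroupOf C).map f
  set Z₀ := Fusion.zjFunctor P
  have hZ0 : Z₀.map P.subtype = Z := inducedFunctor_zjFunctor P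
  set C₀ := Subgroup.centralizer (Z₀ : Set P)
  have hmem : ∀ c : P, c ∈ C₀ ↔ (c : G) ∈ C := fun c => by
    constructor
    · intro hc z hz
      obtain ⟨z₀, hz₀, rfl⟩ := hZ0.ge hz
      exact congrArg Subtype.val (hc z₀ hz₀)
    · intro hc z hz
      exact Subtype.ext (hc _ (hZ0.le ⟨z, hz, rfl⟩))
  let j : C₀ →* C := (P.subtype.comp C₀.subtype).codRestrict C fun c => (hmem c).1 c.2
  let k : C₀ →* Tb := (f.comp j).codRestrict Tb fun c => ⟨j c, (c : P).2, rfl⟩
  have hks : Function.Surjective k := by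
    rintro ⟨_, c, hc, rfl⟩
    exact ⟨⟨⟨c, hc⟩, (hmem _).2 c.2⟩, rfl⟩
  have hker : Z₀.subgroupOf C₀ = k.ker := by
    ext c
    rw [MonoidHom.mem_ker, Subgroup.mem_subgroupOf, ← Subtype.coe_inj]
    show _ ↔ f (j c) = 1
    rw [QuotientGroup.mk'_apply, QuotientGroup.eq_one_iff, Subgroup.mem_subgroupOf]
    refine ⟨fun h => hZ0.le ⟨_, h, rfl⟩, fun h => ?_⟩
    obtain ⟨z, hz, hzc⟩ := hZ0.ge h
    rwa [show (c : P) = z from Subtype.ext hzc.symm]
  let e : C₀ ⧸ Z₀.subgroupOf C₀ ≃* Tb :=
    (QuotientGroup.quotientMulEquivOfEq hker).trans (QuotientGroup.quotientKerEquivOfSurjective k hks)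
  have he : ∀ c : C₀, e (QuotientGroup.mk' _ c) = k c := fun c => rfl
  have h := starFun_map (p := p) n _ _ ((hP.to_subgroup C₀).to_quotient _) e
  show (((starFun n _).comap (QuotientGroup.mk' (Z₀.subgroupOf C₀))).map C₀.subtype).map P.subtype =
    (((starFun n Tb).map Tb.subtype).comap f).map C.subtype
  rw [← h]
  ext g
  constructor
  · rintro ⟨_, ⟨c, hc, rfl⟩, rfl⟩
    exact ⟨j c, ⟨k c, ⟨_, hc, he c⟩, rfl⟩, rfl⟩
  · rintro ⟨y, ⟨t, ⟨x, hx, rfl⟩, hty⟩, rfl⟩
    obtain ⟨c, rfl⟩ := QuotientGroup.mk'_surjective _ x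
    change (e (QuotientGroup.mk' _ c) : C ⧸ Z.subgroupOf C) = f y at hty
    rw [he] at hty
    have hz : (j c)⁻¹ * y ∈ Z.subgroupOf C := QuotientGroup.eq.1 hty
    obtain ⟨z, hz₀, hze⟩ := hZ0.ge (Subgroup.mem_subgroupOf.1 hz)
    refine ⟨(c : P) * z, ⟨c * ⟨z, zjFunctor_commutes hz₀⟩, ?_, rfl⟩, ?_⟩
    · rw [SetLike.mem_coe, Subgroup.mem_comap, map_mul,
        show QuotientGroup.mk' (Z₀.subgroupOf C₀) ⟨z, zjFunctor_commutes hz₀⟩ = 1 from
          (QuotientGroup.eq_one_iff _).2 (Subgroup.mem_subgroupOf.2 hz₀), mul_one]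
      exact hx
    · rw [map_mul, hze]
      show ((c : P) : G) * (((c : P) : G)⁻¹ * (y : G)) = y
      group

/-- In a constrained `p`-stable group the value at a Sylow subgroup is normal. -/
theorem starFun_normal (hp2 : p ≠ 2) (n : ℕ) : ∀ (L : Type u) [Group L] [Finite L] (S : Sylow p L),
    Nat.card (S : Subgroup L) ≤ n → Cfsg.IsNormalizerPStable p L →
    Subgroup.centralizer (Cfsg.pCore p L : Set L) ≤ Cfsg.pCore p L →
    (Cfsg.inducedFunctor (starFun n) (S : Subgroup L)).Normal := by
  induction n with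
  | zero => intro L _ _ S h; exact absurd (Nat.card_pos (α := (S : Subgroup L))) (by omega)
  | succ n ih =>
    intro L _ _ S hS hst hc
    by_cases hS1 : (S : Subgroup L) = ⊥
    · rw [show Cfsg.inducedFunctor (starFun (n + 1)) (S : Subgroup L) = ⊥ from
        le_bot_iff.1 ((Subgroup.map_subtype_le _).trans hS1.le)]
      infer_instance
    set Z := zJ 0 (S : Subgroup L) with hZ
    haveI hZn : Z.Normal := normal_of_constrained hp2 (Or.inl rfl) S hc
      (stableAt_of_isNormalizerPStable hst _) inf_le_left inf_le_right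
      (normalizer_thompsonJ_le_zJ 0 _)
    set C := Subgroup.centralizer (Z : Set L) with hC
    haveI hCn : C.Normal := by rw [hC]; infer_instance
    set Z' := Z.subgroupOf C
    set f := QuotientGroup.mk' Z'
    have hfs : Function.Surjective f := QuotientGroup.mk'_surjective _
    let T : Sylow p C := IsPGroup.toSylow (S.2.comap_of_injective C.subtype C.subtype_injective)
      fun h => S.not_dvd_index (h.trans (relIndex_dvd_index_of_normal (S : Subgroup L) C))
    have hTcoe : (T : Subgroup C) = (S : Subgroup L).subgroupOf C := rfl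
    let Tb : Sylow p (C ⧸ Z') := T.mapSurjective hfs
    have hTb : (Tb : Subgroup (C ⧸ Z')) = ((S : Subgroup L).subgroupOf C).map f := by
      rw [Sylow.coe_mapSurjective, hTcoe]
    have hZp : IsPGroup p Z := S.2.to_le (zJ_le 0 _)
    have hZ'p : IsPGroup p Z' := hZp.comap_of_injective C.subtype C.subtype_injective
    have hZC : Z ≤ C := inf_le_right.trans (Subgroup.centralizer_le inf_le_left)
    -- the quotient is constrained
    have hcons : Subgroup.centralizer (Cfsg.pCore p (C ⧸ Z') : Set (C ⧸ Z')) ≤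
        Cfsg.pCore p (C ⧸ Z') := by
      set O := Cfsg.pCore p L
      haveI hOn : O.Normal := Fitting.pCore_normal p
      set O' := O.subgroupOf C with hO'
      haveI : O'.Normal := Subgroup.Normal.subgroupOf inferInstance C
      have hO'p : IsPGroup p O' :=
        (Fitting.pCore_isPGroup p).comap_of_injective C.subtype C.subtype_injective
      intro x hx
      set Cb := Subgroup.centralizer (Cfsg.pCore p (C ⧸ Z') : Set (C ⧸ Z'))
      haveI : (Cfsg.pCore p (C ⧸ Z')).Normal := Fitting.pCore_normal p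
      haveI hCbn : Cb.Normal := by infer_instance
      refine Fitting.le_pCore hCbn ?_ hx
      intro z
      obtain ⟨c, hcz⟩ := hfs z
      obtain ⟨i, m, -, hord, hco, -⟩ := Transfer.exists_pow_coprime_part (p := p) c
      refine ⟨i, Subtype.ext ?_⟩
      show (z : C ⧸ Z') ^ p ^ i = 1
      rw [← hcz, ← map_pow]
      set y := c ^ p ^ i with hy
      have hyb : f y ∈ Cb := by rw [hy, map_pow, hcz]; exact pow_mem z.2 _
      -- `y` centralizes `O_p(C)` modulo `Z`, hence `O_p(C)`, hence `O_p(L)`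
      have hyo : (orderOf (y : L)).Coprime p := by rw [Subgroup.orderOf_coe]; exact hco
      have hcop : (Nat.card (Subgroup.zpowers (y : L))).Coprime (Nat.card O) := by
        obtain ⟨j, hj⟩ := (Fitting.pCore_isPGroup (G := L) p).exists_card_eq
        rw [Nat.card_zpowers, hj]
        exact hyo.pow_right j
      have hzp : Subgroup.zpowers (y : L) ≤ C := Subgroup.zpowers_le.2 y.2
      have h1 : ⁅O, Subgroup.zpowers (y : L)⁆ ≤ O ⊓ C :=
        le_inf (Subgroup.commutator_le_left _ _) ((Subgroup.commutator_mono le_rfl hzp).trans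
          (Subgroup.commutator_le_right _ _))
      have h2 : ∀ u ∈ O ⊓ C, ∀ i : ℤ, ⁅u, (y : L) ^ i⁆ ∈ Z := by
        intro u hu i
        have hu' : f ⟨u, hu.2⟩ ∈ Cfsg.pCore p (C ⧸ Z') :=
          Fitting.le_pCore ((inferInstance : O'.Normal).map f hfs) (hO'p.map f)
            ⟨⟨u, hu.2⟩, hu.1, rfl⟩
        have h3 := Subgroup.mem_centralizer_iff.1 (zpow_mem hyb i) _ hu'
        rw [← map_zpow] at h3
        have h4 : f ⁅(⟨u, hu.2⟩ : C), y ^ i⁆ = 1 := by
          rw [map_commutatorElement, commutatorElement_eq_one_iff_mul_comm]; exact h3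
        rw [QuotientGroup.mk'_apply, QuotientGroup.eq_one_iff, Subgroup.mem_subgroupOf] at h4
        exact h4
      have hyn : Subgroup.zpowers (y : L) ≤ Subgroup.normalizer (O : Set L) :=
        Subgroup.le_normalizer_of_normal
      have hynC : Subgroup.zpowers (y : L) ≤ Subgroup.normalizer ((O ⊓ C : Subgroup L) : Set L) :=
        Subgroup.le_normalizer_of_normal
      have h5 : ⁅O ⊓ C, Subgroup.zpowers (y : L)⁆ = ⊥ := by
        refine Coprime.commutator_eq_bot_of_commutator_commutator hynC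
          (hcop.coprime_dvd_right (Subgroup.card_dvd_of_le inf_le_left)) ?_
        refine le_bot_iff.1 ((Subgroup.commutator_mono ?_ le_rfl).trans
          (le_bot_iff.2 (Subgroup.commutator_eq_bot_iff_le_centralizer.2
            (show Z ≤ Subgroup.centralizer (Subgroup.zpowers (y : L) : Set L) from fun z hz => ?_))))
        · rw [Subgroup.commutator_le]
          rintro u hu w ⟨k, rfl⟩
          exact h2 u hu k
        · exact fun w hw => ((hzp hw) z hz).symm
      have h6 : ⁅O, Subgroup.zpowers (y : L)⁆ = ⊥ := by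
        refine Coprime.commutator_eq_bot_of_commutator_commutator hyn hcop ?_
        exact le_bot_iff.1 ((Subgroup.commutator_mono h1 le_rfl).trans h5.le)
      have h7 : (y : L) ∈ O := hc fun u hu =>
        (Subgroup.commutator_eq_bot_iff_le_centralizer.1 h6 hu _ (Subgroup.mem_zpowers _)).symm
      obtain ⟨j, hj⟩ := Fitting.pCore_isPGroup p (⟨_, h7⟩ : O)
      have h8 : (y : L) = 1 := orderOf_eq_one_iff.1 (Nat.eq_one_of_dvd_coprimes (hyo.pow_right j)
        dvd_rfl (orderOf_dvd_of_pow_eq_one (congrArg Subtype.val hj)))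
      rw [show y = 1 from Subtype.ext h8, map_one]
    have hstq : Cfsg.IsNormalizerPStable p (C ⧸ Z') :=
      isNormalizerPStable_quotient hp2
        (isNormalizerPStable_of_injective C.subtype C.subtype_injective hst) Z' hZ'p
        fun x _ d hd => Subtype.ext (x.2 _ hd)
    have hcard : Nat.card (Tb : Subgroup (C ⧸ Z')) ≤ n := by
      have hZ1 : Z ≠ ⊥ := fun hbot => by
        obtain ⟨z, hz, hz1, -⟩ := zJ_ne_bot (p := p) (e := 0) (Or.inl rfl) S.2 hS1
        exact hz1 (Subgroup.mem_bot.1 (hbot ▸ hz))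
      have h1 : Nat.card (Tb : Subgroup (C ⧸ Z')) * Nat.card Z' = Nat.card (T : Subgroup C) := by
        have hZT : Z' ≤ (T : Subgroup C) := by
          rw [hTcoe]; exact fun z hz => Subgroup.mem_subgroupOf.2 (zJ_le 0 _ (Subgroup.mem_subgroupOf.1 hz))
        rw [Sylow.coe_mapSurjective]
        have h2 := (Subgroup.card_mul_index (Z'.subgroupOf (T : Subgroup C)))
        rw [Nat.card_congr (Subgroup.subgroupOfEquivOfLe hZT).toEquiv] at h2
        rw [← h2, mul_comm, Subgroup.index]
        congr 1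
        refine (Nat.card_congr ?_).symm
        exact ((QuotientGroup.quotientMulEquivOfEq (show Z'.subgroupOf (T : Subgroup C) =
          (f.subgroupMap (T : Subgroup C)).ker by
            ext x
            rw [MonoidHom.mem_ker, Subgroup.mem_subgroupOf, ← Subtype.coe_inj]
            exact (QuotientGroup.eq_one_iff _).symm)).trans
          (QuotientGroup.quotientKerEquivOfSurjective _ (f.subgroupMap_surjective _))).toEquiv
      have h3 : Nat.card (T : Subgroup C) ≤ n + 1 := by
        refine le_trans ?_ hS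
        rw [hTcoe, ← Subgroup.card_map_of_injective C.subtype_injective, Subgroup.subgroupOf_map_subtype]
        exact Subgroup.card_le_of_le inf_le_left
      have h4 : 2 ≤ Nat.card Z' := by
        rw [Nat.card_congr (Subgroup.subgroupOfEquivOfLe hZC).toEquiv]
        exact (Subgroup.one_lt_card_iff_ne_bot Z).2 hZ1
      have h5 : Nat.card (Tb : Subgroup (C ⧸ Z')) * 2 ≤ n + 1 :=
        (Nat.mul_le_mul_left _ h4).trans (h1.le.trans h3)
      have h6 : 0 < Nat.card (Tb : Subgroup (C ⧸ Z')) := Nat.card_pos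
      omega
    set Wb := Cfsg.inducedFunctor (starFun n) (Tb : Subgroup (C ⧸ Z')) with hWb
    haveI hWbn : Wb.Normal := ih _ Tb hcard hstq hcons
    rw [inducedFunctor_starFun_succ (p := p) n S.2, ← hTb, ← hWb]
    -- invariance under `N(T)` and `C`
    set Wc := (Wb.comap f).map C.subtype with hWc
    refine ⟨fun w hw g => ?_⟩
    have hfr := Sylow.normalizer_sup_eq_top T
    obtain ⟨l, hl, c, hcC, rfl⟩ :=
      Subgroup.mem_sup_of_normal_right.mp (hfr.ge (Subgroup.mem_top g))
    obtain ⟨v, hv, hvw⟩ : c * w * c⁻¹ ∈ Wc := by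
      obtain ⟨v, hv, rfl⟩ := hw
      exact ⟨⟨c, hcC⟩ * v * ⟨c, hcC⟩⁻¹, (inferInstance : (Wb.comap f).Normal).conj_mem v hv _, rfl⟩
    set σ : MulAut C := MulAut.conjNormal l with hσ
    have hσZ : Z'.map σ.toMonoidHom = Z' := by
      refine le_antisymm ?_ fun z hz => ⟨σ.symm z, ?_, σ.apply_symm_apply z⟩
      · rintro _ ⟨z, hz, rfl⟩
        exact Subgroup.mem_subgroupOf.2 ((MulAut.conjNormal_apply l z).symm ▸
          hZn.conj_mem _ (Subgroup.mem_subgroupOf.1 hz) l)
      · refine Subgroup.mem_subgroupOf.2 ?_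
        rw [hσ, MulAut.conjNormal_symm_apply]
        simpa using hZn.conj_mem _ (Subgroup.mem_subgroupOf.1 hz) l⁻¹
    let σb := QuotientGroup.congr Z' Z' σ hσZ
    have hσT : (Tb : Subgroup (C ⧸ Z')).map σb.toMonoidHom = Tb := by
      refine Subgroup.eq_of_le_of_card_ge ?_ (Subgroup.card_map_of_injective σb.injective).ge
      rw [Sylow.coe_mapSurjective]
      rintro _ ⟨_, ⟨t, ht, rfl⟩, rfl⟩
      refine ⟨σ t, ?_, rfl⟩
      have h1 : (σ t : L) ∈ (T : Subgroup C).map C.subtype := by
        rw [hσ, MulAut.conjNormal_apply]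
        exact (Subgroup.mem_normalizer_iff.1 hl (t : L)).1 ⟨t, ht, rfl⟩
      obtain ⟨t', ht', he⟩ := h1
      rwa [← (Subtype.ext he : t' = σ t)]
    have hW : Wb.map σb.toMonoidHom = Wb := by
      rw [hWb, Conjugacy.map (isCharPFunctor_starFun n) σb.toMonoidHom Tb.2 σb.injective.injOn, hσT]
    have hv' : f (σ v) ∈ Wb := by
      rw [show f (σ v) = σb (f v) from rfl, ← hW]
      exact ⟨_, hv, rfl⟩
    refine ⟨σ v, hv', ?_⟩
    show ((σ v : C) : L) = _
    rw [hσ, MulAut.conjNormal_apply, show (v : L) = c * w * c⁻¹ from hvw]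
    group

end CfsgLib.ZJ

namespace CfsgLib.ZJ

open CfsgLib.Conjugacy

universe u

variable {G : Type u} [Group G] [Finite G] {p : ℕ} [hp : Fact p.Prime]

/-- The value at a Sylow subgroup is self-centralizing there and its normalizer controls strong
fusion, in a normalizer-`p`-stable group. -/
theorem exists_centric_control (hp2 : p ≠ 2) (hst : Cfsg.IsNormalizerPStable p G) (P : Sylow p G) :
    ∃ R : Subgroup G, R ≤ (P : Subgroup G) ∧
      (P : Subgroup G) ⊓ Subgroup.centralizer (R : Set G) ≤ R ∧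
      ∀ A : Set G, A ⊆ (P : Subgroup G) →
        Cfsg.ControlsStrongFusionOf (Subgroup.normalizer (R : Set G)) (P : Subgroup G) A := by
  set n := Nat.card G with hn
  have h𝓦 : ∀ V ∈ ({starFun.{u} n} : Set (∀ (Q : Type u) [Group Q], Subgroup Q)),
      Cfsg.IsCharPFunctor.{u} p V := by
    rintro V rfl
    exact isCharPFunctor_starFun n
  have hcl := closed_isNormalizerPStable.{u} (p := p) hp2
  have hloc : LocalOn p {starFun.{u} n}
      (fun (X : Type u) [Group X] => Cfsg.IsNormalizerPStable p X ∧ Nat.card X ≤ n) := by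
    intro X _ _ hX hc S Q g hQ hgQ
    refine Ctl.step _ ⟨_, rfl, rfl⟩ ?_ hQ hgQ
    rw [Subgroup.normalizer_eq_top_iff.mpr
      (starFun_normal hp2 n X S ((Subgroup.card_le_card_group _).trans hX.2) hX.1 hc)]
    exact Subgroup.mem_top g
  have hcl' : Closed p (fun (X : Type u) [Group X] => Cfsg.IsNormalizerPStable p X ∧ Nat.card X ≤ n) :=
    ⟨fun X _ _ H h => ⟨hcl.sub X H h.1, (Subgroup.card_le_card_group H).trans h.2⟩,
      fun X _ _ _ h => ⟨hcl.core X h.1, (Nat.card_le_card_of_surjective _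
        (QuotientGroup.mk_surjective)).trans h.2⟩,
      fun X _ _ D _ hD hr h => ⟨hcl.quot X D hD hr h.1, (Nat.card_le_card_of_surjective _
        (QuotientGroup.mk_surjective)).trans h.2⟩⟩
  have hG : Controlled p {starFun.{u} n} G :=
    ZJ.controlled_of_local h𝓦 hloc hcl' ⟨hst, le_rfl⟩
  refine ⟨Cfsg.inducedFunctor (starFun n) (P : Subgroup G), Subgroup.map_subtype_le _, ?_,
    fun A hA => controlsStrongFusionOf_of_controlled hG P A hA⟩
  rintro c ⟨hcP, hc⟩
  refine ⟨⟨c, hcP⟩, centralizer_starFun_le n _ fun w hw => ?_, rfl⟩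
  exact Subtype.ext (hc _ ⟨w, hw, rfl⟩)

end CfsgLib.ZJ
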