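import Mathlib
import Cfsg.Agent.Lib.ZJ.Replacement

/-!
Replacement property of the largest abelian subgroups (of exponent dividing `e`) of a normal
subgroup `D` of a `p`-group, `p` odd.
-/

set_option autoImplicit false

open scoped commutatorElement

namespace CfsgLib.ZJ

open CfsgLib.Transfer

variable {S : Type*} [Group S]

theorem image_subtype_maxAbExp (e : ℕ) (D : Subgroup S) :
    Set.image (fun A : Subgroup D => A.map D.subtype) (maxAbExp e (⊤ : Subgroup D)) =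
      maxAbExp e D := by
  have hinj : ∀ A : Subgroup D, Set.InjOn D.subtype (A : Set D) := fun A => D.subtype_injective.injOn
  ext U
  constructor
  · rintro ⟨A, ⟨-, hAe, hmax⟩, rfl⟩
    refine ⟨Subgroup.map_subtype_le _, (isAbExp_map_iff e _ (hinj A)).mpr hAe, fun B hB hBe => ?_⟩
    have hB' : (B.subgroupOf D).map D.subtype = B := Subgroup.map_subgroupOf_eq_of_le hB
    rw [← hB'] at hBe ⊢
    rw [card_map_of_injOn _ (hinj A), card_map_of_injOn _ (hinj _)]
    exact hmax _ le_top ((isAbExp_map_iff e _ (hinj _)).mp hBe)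
  · rintro ⟨hU, hUe, hmax⟩
    have hU' : (U.subgroupOf D).map D.subtype = U := Subgroup.map_subgroupOf_eq_of_le hU
    refine ⟨U.subgroupOf D, ⟨le_top, ?_, fun B _ hBe => ?_⟩, hU'⟩
    · rw [← hU'] at hUe
      exact (isAbExp_map_iff e _ (hinj _)).mp hUe
    · have := hmax (B.map D.subtype) (Subgroup.map_subtype_le _)
        ((isAbExp_map_iff e _ (hinj B)).mpr hBe)
      rwa [← hU', card_map_of_injOn _ (hinj B), card_map_of_injOn _ (hinj _)] at this

theorem exists_normalized_maxAbExp [Finite S] {p : ℕ} [Fact p.Prime] (hS : IsPGroup p S)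
    (hp : p ≠ 2) {e : ℕ} (he : e = 0 ∨ e = p) (D : Subgroup S) [D.Normal] (B : Subgroup S)
    [B.Normal] (hB : ⁅⁅B, B⁆, B⁆ = ⊥) (hU : ∃ U ∈ maxAbExp e D, ⁅B, B⁆ ≤ U ∧ ¬ B ≤ U) :
    ∃ A ∈ maxAbExp e D, ⁅B, B⁆ ≤ A ∧ ¬ B ≤ A ∧ B ≤ Subgroup.normalizer (A : Set S) := by
  classical
  haveI := Fintype.ofFinite (Subgroup S)
  obtain ⟨U, hU1, hU2⟩ := Finset.exists_max_image
    (Finset.univ.filter fun U : Subgroup S => U ∈ maxAbExp e D ∧ ⁅B, B⁆ ≤ U ∧ ¬ B ≤ U)
    (fun U => Nat.card ↥(U ⊓ B))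
    (by obtain ⟨U, h⟩ := hU; exact ⟨U, Finset.mem_filter.mpr ⟨Finset.mem_univ _, h⟩⟩)
  simp only [Finset.mem_filter, Finset.mem_univ, true_and] at hU1 hU2
  obtain ⟨hUm, hBU, hnBU⟩ := hU1
  by_cases hn : B ≤ Subgroup.normalizer (U : Set S)
  · exact ⟨U, hUm, hBU, hnBU, hn⟩
  exfalso
  have hmem : ∀ x ∈ B, ∀ y ∈ B, ⁅x, y⁆ ∈ U := fun x hx y hy =>
    hBU (Subgroup.commutator_mem_commutator hx hy)
  have hcB : ⁅B, B⁆ ≤ Subgroup.centralizer (B : Set S) :=
    Subgroup.commutator_eq_bot_iff_le_centralizer.mp hB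
  obtain ⟨A', hA', hlt, hA'N⟩ := glauberman_replacement_relative he hUm (S := ⊤)
    (hS.to_subgroup _) le_top le_top Subgroup.le_normalizer_of_normal
    (fun x hx y hy => hUm.1 (hmem x hx y hy)) Subgroup.le_normalizer_of_normal
    (fun x hx y hy a ha =>
      haveI := hUm.2.1.1
      congrArg Subtype.val (mul_comm' (⟨a, ha⟩ : U) ⟨_, hmem x hx y hy⟩))
    (fun x hx y hy z hz => hcB (Subgroup.commutator_mem_commutator hx hy) z hz) hn (Or.inl hp)
  have hnBA' : ¬ B ≤ A' := fun h => hn (h.trans hA'N)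
  have hBA' : ⁅B, B⁆ ≤ A' :=
    ((le_inf hBU (Subgroup.commutator_le_left B B)).trans hlt.le).trans inf_le_left
  have hle := hU2 A' ⟨hA', hBA', hnBA'⟩
  exact absurd (Subgroup.eq_of_le_of_card_ge hlt.le hle) hlt.ne

end CfsgLib.ZJ
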