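import Mathlib
import Cfsg.Agent.Lib.ZJ.RealElements

/-!
A normal Sylow `2`-subgroup means that no non-trivial element of odd prime power order is inverted;
with the realness theorem for `N(Z(J(T)))` this is Thompson's criterion.
-/

set_option autoImplicit false
set_option linter.style.haveILetI false

namespace CfsgLib.ZJ

open CfsgLib.Transfer

variable {G : Type*} [Group G]

theorem not_hasRealIn_of_normal_sylow_two [Finite G] {q : ℕ} [hq : Fact q.Prime] (hq2 : q ≠ 2)
    {H : Subgroup G} (hH : ∀ P : Sylow 2 H, (P : Subgroup H).Normal) : ¬ HasRealIn q H := by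
  intro h
  obtain ⟨x, -, g, -, hx1, hxp, hgx⟩ := (hasRealIn_top_iff H).mpr h
  obtain ⟨i, -, hi, hix⟩ := exists_two_inverter hgx
  obtain ⟨P, hP⟩ := (isPGroup_zpowers_of_pow hi).exists_le_sylow
  haveI := hH P
  have hiP : i ∈ (P : Subgroup H) := hP (Subgroup.mem_zpowers i)
  have h1 : x * i * x⁻¹ * i⁻¹ ∈ (P : Subgroup H) :=
    mul_mem (Subgroup.Normal.conj_mem inferInstance i hiP x) (inv_mem hiP)
  rw [show x * i * x⁻¹ * i⁻¹ = x * (i * x * i⁻¹)⁻¹ by group, hix, inv_inv] at h1
  obtain ⟨b, hb⟩ := P.2 ⟨_, h1⟩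
  obtain ⟨k, hk⟩ := hxp
  have hb' : (x * x) ^ 2 ^ b = 1 := congrArg Subtype.val hb
  refine hx1 (Subgroup.mem_bot.mp (mem_of_pow_mem (H := (⊥ : Subgroup H)) hk (n := 2 ^ (b + 1))
    (((Nat.coprime_primes Nat.prime_two hq.out).mpr (Ne.symm hq2)).pow_left _) ?_))
  rw [Subgroup.mem_bot, pow_succ', pow_mul, pow_two]
  exact hb'

/-- A group without inverted elements of odd prime order has a normal Sylow `2`-subgroup. -/
theorem normal_sylow_two_of_no_real [Finite G]
    (h : ∀ q : ℕ, q.Prime → q ≠ 2 → ¬ HasRealIn q (⊤ : Subgroup G)) (P : Sylow 2 G) :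
    (P : Subgroup G).Normal := by
  set O := Cfsg.pCore 2 G with hO
  haveI hOn : O.Normal := Fitting.pCore_normal 2
  have hOp : IsPGroup 2 O := Fitting.pCore_isPGroup 2
  set π := QuotientGroup.mk' O with hπ
  by_cases h2 : 2 ∣ Nat.card (G ⧸ O)
  · exfalso
    obtain ⟨t, ht⟩ := exists_prime_orderOf_dvd_card' 2 h2
    have ht2 : t * t = 1 := by rw [← pow_two, ← ht]; exact pow_orderOf_eq_one t
    have htp : IsPGroup 2 (Subgroup.zpowers t) :=
      isPGroup_zpowers_of_pow ⟨1, by rw [pow_one, ← ht]; exact pow_orderOf_eq_one t⟩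
    obtain ⟨g, hg⟩ := Baer.exists_conj_not_isPGroup (p := 2) htp fun N hN hNp htN => by
      have h1 := (Fitting.le_pCore hN hNp).trans (pCore_quotient_pCore_le_bot (p := 2) (G := G)) htN
      rw [Subgroup.mem_bot] at h1
      rw [h1, orderOf_one] at ht
      exact absurd ht (by norm_num)
    set s := g * t * g⁻¹ with hs
    have hs2 : s * s = 1 := by rw [hs, show g * t * g⁻¹ * (g * t * g⁻¹) = g * (t * t) * g⁻¹ by group, ht2]; group
    set d := t * s with hd
    have htd : t * d * t⁻¹ = d⁻¹ := by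
      rw [hd, mul_inv_rev, inv_eq_of_mul_eq_one_right ht2, inv_eq_of_mul_eq_one_right hs2, ← mul_assoc,
        ht2, one_mul]
    have hnd : ¬ IsPGroup 2 (Subgroup.zpowers d) := fun hdp => by
      refine hg ((hdp.to_sup_of_normal_left' htp ?_).to_le ((Subgroup.closure_le _).mpr ?_))
      · refine Subgroup.zpowers_le.mpr (mem_normalizer_of_conj_mem fun z hz => ?_)
        obtain ⟨j, rfl⟩ := Subgroup.mem_zpowers_iff.mp hz
        rw [← conj_zpow, htd]
        exact zpow_mem (inv_mem (Subgroup.mem_zpowers d)) j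
      · rintro x (rfl | rfl)
        · exact (le_sup_right : _ ≤ Subgroup.zpowers d ⊔ _) (Subgroup.mem_zpowers _)
        · rw [SetLike.mem_coe, show s = t * d by rw [hd, ← mul_assoc, ht2, one_mul]]
          exact mul_mem ((le_sup_right : _ ≤ Subgroup.zpowers d ⊔ _) (Subgroup.mem_zpowers _))
            ((le_sup_left : _ ≤ _ ⊔ Subgroup.zpowers t) (Subgroup.mem_zpowers _))
    obtain ⟨q, hq, hq2, hqd⟩ : ∃ q : ℕ, q.Prime ∧ q ≠ 2 ∧ q ∣ orderOf d := by
      by_contra hc
      push Not at hc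
      refine hnd (IsPGroup.of_card (n := (orderOf d).primeFactorsList.length) ?_)
      rw [Nat.card_zpowers]
      refine Nat.eq_prime_pow_of_unique_prime_dvd (orderOf_pos d).ne' fun {r} hr hrd => ?_
      by_contra hne
      exact hc r hr hne hrd
    haveI : Fact q.Prime := ⟨hq⟩
    have hreal : HasRealIn q (⊤ : Subgroup (G ⧸ O)) := by
      refine ⟨d ^ (orderOf d / q), trivial, t, trivial, ?_, ⟨1, ?_⟩, ?_⟩
      · intro he
        have := orderOf_dvd_of_pow_eq_one he
        exact absurd (Nat.le_of_dvd (Nat.div_pos (Nat.le_of_dvd (orderOf_pos d) hqd) hq.pos) this)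
          (not_le.mpr (Nat.div_lt_self (orderOf_pos d) hq.one_lt))
      · rw [pow_one, ← pow_mul, Nat.div_mul_cancel hqd]
        exact pow_orderOf_eq_one d
      · rw [← conj_pow, htd, inv_pow]
    refine h q hq hq2 (HasRealIn.of_map_coprime π (QuotientGroup.mk'_surjective O) ?_ hreal)
    rw [hπ, QuotientGroup.ker_mk']
    obtain ⟨n, hn⟩ := hOp.exists_card_eq
    rw [hn]
    exact ((Nat.coprime_primes Nat.prime_two hq).mpr (Ne.symm hq2)).pow_left n
  · have hle : (P : Subgroup G) ≤ O := fun x hx => by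
      rw [← QuotientGroup.eq_one_iff]
      obtain ⟨k, hk⟩ := P.2 ⟨x, hx⟩
      refine orderOf_eq_one_iff.mp (Nat.eq_one_of_dvd_coprimes
        (((Nat.prime_two.coprime_iff_not_dvd).mpr h2).pow_left k).symm
        (orderOf_dvd_natCard _) (orderOf_dvd_of_pow_eq_one ?_))
      rw [← QuotientGroup.mk_pow, show x ^ 2 ^ k = 1 from congrArg Subtype.val hk]
      rfl
    rw [← P.3 hOp hle]
    exact hOn

end CfsgLib.ZJ
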