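import Mathlib
import Cfsg.Agent.Lib.ZJ.Replacement

/-!
The subgroup built from an abelian subgroup `A` and an element `b` of a normal subgroup `B`
(`[B, B] ≤ A`) that normalizes `N(A)` and moves `A`.
-/

set_option autoImplicit false

open scoped commutatorElement

namespace CfsgLib.ZJ

variable {S : Type*} [Group S]

/-- `A* = (A ⊓ A^b) ⊔ ⟨a b⁻¹ a⁻¹ b⟩`. -/
def replSub (A : Subgroup S) (b : S) : Subgroup S :=
  (A ⊓ A.map (MulAut.conj (b⁻¹)).toMonoidHom) ⊔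
    Subgroup.closure {g : S | ∃ a ∈ A, g = a * b⁻¹ * a⁻¹ * b}

theorem replSub_props [Finite S] {p : ℕ} [Fact p.Prime] (hS : IsPGroup p S) (B : Subgroup S)
    [B.Normal] (hB2 : p = 2 → IsMulCommutative B) (A : Subgroup S) (hA : IsMulCommutative A)
    (hBA : ⁅B, B⁆ ≤ A) (hnot : ¬ B ≤ Subgroup.normalizer (A : Set S)) (b : S) (hb : b ∈ B)
    (hbN : b ∈ Subgroup.normalizer ((Subgroup.normalizer (A : Set S)) : Set S))
    (hbA : b ∉ Subgroup.normalizer (A : Set S)) :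
    Nat.card ↥(replSub A b) = Nat.card A ∧ IsMulCommutative ↥(replSub A b) ∧
      ⁅B, B⁆ ≤ replSub A b ∧ A ⊓ B < replSub A b ⊓ B ∧ replSub A b ⊓ B < B ∧
      A ≤ Subgroup.normalizer (replSub A b : Set S) ∧
      replSub A b ≤ Subgroup.normalizer (A : Set S) ∧
      b ∈ Subgroup.normalizer (replSub A b : Set S) ∧
      Subgroup.normalizer (A : Set S) < Subgroup.normalizer (replSub A b : Set S) ∧
      (p ≠ 2 → Monoid.exponent ↥(replSub A b) ∣ Monoid.exponent A) := by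
  have hAcomm : ∀ x ∈ A, ∀ z ∈ A, Commute x z := fun x hx z hz =>
    congrArg Subtype.val (mul_comm' (⟨x, hx⟩ : A) ⟨z, hz⟩)
  have hcBA : ∀ x ∈ B, ∀ z ∈ B, ⁅x, z⁆ ∈ A := fun x hx z hz =>
    hBA (Subgroup.commutator_mem_commutator hx hz)
  set c : S →* S := (MulAut.conj b⁻¹).toMonoidHom with hc
  have hcapp : ∀ g, c g = b⁻¹ * g * b := fun g => by simp [hc]
  set N := Subgroup.normalizer (A : Set S) with hN
  set A₁ := A.map c with hA₁
  have hA₁c : ∀ x ∈ A₁, ∀ z ∈ A₁, Commute x z := by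
    rintro _ ⟨x, hx, rfl⟩ _ ⟨z, hz, rfl⟩
    exact (hAcomm x hx z hz).map c
  have hA₁mem : ∀ x, x ∈ A₁ ↔ b * x * b⁻¹ ∈ A := fun x => by
    constructor
    · rintro ⟨a, ha, rfl⟩
      rw [hcapp]
      simpa [mul_assoc] using ha
    · exact fun h => ⟨_, h, by rw [hcapp]; group⟩
  have hNA₁ : N ≤ Subgroup.normalizer (A₁ : Set S) := by
    intro n hn
    rw [Subgroup.mem_normalizer_iff]
    intro x
    have h := Subgroup.mem_normalizer_iff.mp ((Subgroup.mem_normalizer_iff.mp hbN n).mp hn) (b * x * b⁻¹)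
    rw [show b * n * b⁻¹ * (b * x * b⁻¹) * (b * n * b⁻¹)⁻¹ = b * (n * x * n⁻¹) * b⁻¹ by group] at h
    rw [hA₁mem, hA₁mem, h]
  have hA₁N : A₁ ≤ N := fun x hx =>
    (Subgroup.mem_normalizer_iff.mp hbN x).mpr (Subgroup.le_normalizer ((hA₁mem x).mp hx))
  set Z := A ⊓ A₁ with hZ
  have hZA : ∀ z ∈ Z, ∀ a ∈ A, Commute z a := fun z hz a ha => hAcomm z hz.1 a ha
  have hZA₁ : ∀ z ∈ Z, ∀ a ∈ A₁, Commute z a := fun z hz a ha => hA₁c z hz.2 a ha
  have hZc : ∀ x ∈ A, ∀ z ∈ A₁, ⁅x, z⁆ ∈ Z := fun x hx z hz => Subgroup.mem_inf.mpr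
    ⟨by
      rw [show ⁅x, z⁆ = x * (z * x⁻¹ * z⁻¹) by rw [commutatorElement_def]; group]
      exact mul_mem hx ((Subgroup.mem_normalizer_iff.mp (hA₁N hz) _).mp (inv_mem hx)),
     by
      rw [commutatorElement_def]
      exact mul_mem ((Subgroup.mem_normalizer_iff.mp (hNA₁ (Subgroup.le_normalizer hx)) _).mp hz)
        (inv_mem hz)⟩
  have hDZ : ∀ x ∈ B, ∀ z ∈ B, ⁅x, z⁆ ∈ Z := fun x hx z hz => by
    refine Subgroup.mem_inf.mpr ⟨hcBA x hx z hz, (hA₁mem _).mpr ?_⟩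
    rw [show b * ⁅x, z⁆ * b⁻¹ = ⁅b * x * b⁻¹, b * z * b⁻¹⁆ by
      simp only [commutatorElement_def]; group]
    exact hcBA _ (mul_mem (mul_mem hb hx) (inv_mem hb)) _ (mul_mem (mul_mem hb hz) (inv_mem hb))
  -- the generators
  set w : S → S := fun a => a * (c a)⁻¹ with hw
  have hwB : ∀ a, w a ∈ B := fun a => by
    show a * (c a)⁻¹ ∈ B
    rw [hcapp, show a * (b⁻¹ * a * b)⁻¹ = a * b⁻¹ * a⁻¹ * b by group]
    exact mul_mem (Subgroup.Normal.conj_mem inferInstance _ (inv_mem hb) a) hb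
  have hwN : ∀ a ∈ A, w a ∈ N := fun a ha =>
    mul_mem (Subgroup.le_normalizer ha) (inv_mem (hA₁N ⟨a, ha, rfl⟩))
  -- conjugation by `b` on `A`
  have hc' : ∀ a ∈ A, ∃ e ∈ Z, b * a * b⁻¹ = e * (a * (c a)⁻¹ * a) := fun a ha =>
    ⟨⁅b, w a⁆, hDZ b hb _ (hwB a), by
      rw [commutatorElement_def]; simp only [hw, hcapp]; group⟩
  have hkey : ∀ a ∈ A, (a ∈ A₁ ↔ c a ∈ A) := fun a ha => by
    obtain ⟨e, he, hae⟩ := hc' a ha
    rw [hA₁mem, hae]
    constructor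
    · intro h
      have := mul_mem (mul_mem (inv_mem ha) ((Subgroup.mul_mem_cancel_left _ he.1).mp h)) (inv_mem ha)
      rw [← inv_mem_iff (x := c a)]
      simpa [mul_assoc] using this
    · exact fun h => mul_mem he.1 (mul_mem (mul_mem ha (inv_mem h)) ha)
  -- `[a, c d]` and `[d, c a]`
  have hrel : ∀ a ∈ A, ∀ d ∈ A, a * c d = ⁅a, c d⁆ * c d * a := fun a _ d _ => by
    rw [commutatorElement_def]; group
  have hwmul : ∀ a ∈ A, ∀ d ∈ A, w a * w d = ⁅d, c a⁆ * w (a * d) := by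
    intro a ha d hd
    have ht := hZc d hd (c a) ⟨a, ha, rfl⟩
    have h1 : (c a)⁻¹ * d = ⁅d, c a⁆ * d * (c a)⁻¹ := by
      have h2 := (hZA₁ _ ht _ ⟨a, ha, rfl⟩).eq
      calc (c a)⁻¹ * d = (c a)⁻¹ * (d * c a) * (c a)⁻¹ := by group
        _ = (c a)⁻¹ * (⁅d, c a⁆ * c a) * d * (c a)⁻¹ := by rw [hrel d hd a ha]; group
        _ = _ := by rw [h2]; group
    show a * (c a)⁻¹ * (d * (c d)⁻¹) = ⁅d, c a⁆ * (a * d * (c (a * d))⁻¹)
    rw [map_mul, mul_inv_rev, ((hA₁c _ ⟨a, ha, rfl⟩ _ ⟨d, hd, rfl⟩).inv_inv).symm.eq]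
    calc a * (c a)⁻¹ * (d * (c d)⁻¹) = a * ((c a)⁻¹ * d) * (c d)⁻¹ := by group
      _ = a * ⁅d, c a⁆ * (d * (c a)⁻¹ * (c d)⁻¹) := by rw [h1]; group
      _ = _ := by rw [← (hZA _ ht a ha).eq]; group
  have hwcomm : ∀ a ∈ A, ∀ d ∈ A, Commute (w a) (w d) := by
    intro a ha d hd
    by_cases hp2 : p = 2
    · haveI := hB2 hp2
      exact congrArg Subtype.val (mul_comm' (⟨w a, hwB a⟩ : B) ⟨w d, hwB d⟩)
    set X := c a with hX
    set Y := c d with hY
    have hXA : X ∈ A₁ := ⟨a, ha, rfl⟩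
    have hYA : Y ∈ A₁ := ⟨d, hd, rfl⟩
    set s := ⁅a, Y⁆ with hs
    set t := ⁅d, X⁆ with ht
    have hsZ : s ∈ Z := hZc a ha Y hYA
    have htZ : t ∈ Z := hZc d hd X hXA
    have had : a * d = d * a := (hAcomm a ha d hd).eq
    have hXY : X⁻¹ * Y⁻¹ = Y⁻¹ * X⁻¹ := (hA₁c X hXA Y hYA).inv_inv.eq
    have hXd : X⁻¹ * d = t * d * X⁻¹ := by
      calc X⁻¹ * d = X⁻¹ * (d * X) * X⁻¹ := by group
        _ = X⁻¹ * (t * X) * d * X⁻¹ := by
          rw [show d * X = t * X * d from hrel d hd a ha]; group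
        _ = _ := by rw [(hZA₁ t htZ X hXA).eq]; group
    have hYa : Y⁻¹ * a = s * a * Y⁻¹ := by
      calc Y⁻¹ * a = Y⁻¹ * (a * Y) * Y⁻¹ := by group
        _ = Y⁻¹ * (s * Y) * a * Y⁻¹ := by
          rw [show a * Y = s * Y * a from hrel a ha d hd]; group
        _ = _ := by rw [(hZA₁ s hsZ Y hYA).eq]; group
    have hwa : w a * w d = t * (a * d * (X⁻¹ * Y⁻¹)) := by
      show a * X⁻¹ * (d * Y⁻¹) = _
      calc a * X⁻¹ * (d * Y⁻¹) = a * (X⁻¹ * d) * Y⁻¹ := by group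
        _ = a * t * (d * X⁻¹ * Y⁻¹) := by rw [hXd]; group
        _ = _ := by rw [← (hZA t htZ a ha).eq]; group
    have hwd : w d * w a = s * (a * d * (X⁻¹ * Y⁻¹)) := by
      show d * Y⁻¹ * (a * X⁻¹) = _
      calc d * Y⁻¹ * (a * X⁻¹) = d * (Y⁻¹ * a) * X⁻¹ := by group
        _ = d * s * (a * Y⁻¹ * X⁻¹) := by rw [hYa]; group
        _ = s * (d * a * (Y⁻¹ * X⁻¹)) := by rw [← (hZA s hsZ d hd).eq]; group
        _ = _ := by rw [← hXY, ← had]
    -- conjugating by `b`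
    obtain ⟨e, he, hae⟩ := hc' a ha
    obtain ⟨e', he', hde⟩ := hc' d hd
    have hM : ∀ z ∈ Z, ∀ q, q ∈ A → Commute z (q * (c q)⁻¹ * q) := fun z hz q hq =>
      ((hZA z hz q hq).mul_right (hZA₁ z hz _ ⟨q, hq, rfl⟩).inv_right).mul_right (hZA z hz q hq)
    have hMa : ∀ z ∈ Z, Commute z (a * X⁻¹ * a) := fun z hz => hM z hz a ha
    have hMd : ∀ z ∈ Z, Commute z (d * Y⁻¹ * d) := fun z hz => hM z hz d hd
    have hw2 : Commute (a * X⁻¹ * a) (d * Y⁻¹ * d) := by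
      have h := (hAcomm a ha d hd).map (MulAut.conj b).toMonoidHom
      simp only [MulEquiv.coe_toMonoidHom, MulAut.conj_apply, hae, hde] at h
      have hee : Commute e e' := hZA e he e' he'.1
      have h' : e * e' * (a * X⁻¹ * a * (d * Y⁻¹ * d)) = e * e' * (d * Y⁻¹ * d * (a * X⁻¹ * a)) := by
        calc e * e' * (a * X⁻¹ * a * (d * Y⁻¹ * d))
            = e * (e' * (a * X⁻¹ * a)) * (d * Y⁻¹ * d) := by group
          _ = e * (a * X⁻¹ * a) * (e' * (d * Y⁻¹ * d)) := by rw [(hMa e' he').eq]; group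
          _ = e' * (d * Y⁻¹ * d) * (e * (a * X⁻¹ * a)) := h.eq
          _ = e' * ((d * Y⁻¹ * d) * e) * (a * X⁻¹ * a) := by group
          _ = e' * e * (d * Y⁻¹ * d * (a * X⁻¹ * a)) := by rw [← (hMd e he).eq]; group
          _ = _ := by rw [hee.eq]
      exact mul_left_cancel h'
    have hl : a * X⁻¹ * a * (d * Y⁻¹ * d) = t * s⁻¹ * (a * d * (X⁻¹ * Y⁻¹) * (a * d)) := by
      have hadY : a * Y⁻¹ = s⁻¹ * Y⁻¹ * a := by
        calc a * Y⁻¹ = s⁻¹ * (s * a * Y⁻¹) := by group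
          _ = _ := by rw [← hYa]; group
      calc a * X⁻¹ * a * (d * Y⁻¹ * d) = a * X⁻¹ * (a * d) * (Y⁻¹ * d) := by group
        _ = a * (X⁻¹ * d) * (a * Y⁻¹) * d := by rw [had]; group
        _ = a * t * (d * X⁻¹ * s⁻¹) * (Y⁻¹ * a * d) := by rw [hXd, hadY]; group
        _ = a * t * s⁻¹ * (d * X⁻¹ * (Y⁻¹ * a * d)) := by
          rw [← ((hZA s hsZ d hd).mul_right (hZA₁ s hsZ X hXA).inv_right).inv_left.eq]; group
        _ = _ := by
          rw [show a * t * s⁻¹ = t * s⁻¹ * a by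
            rw [mul_assoc]; exact ((hZA t htZ a ha).mul_left (hZA s hsZ a ha).inv_left).eq.symm]
          group
    have hr : d * Y⁻¹ * d * (a * X⁻¹ * a) = s * t⁻¹ * (a * d * (X⁻¹ * Y⁻¹) * (a * d)) := by
      have hdX : d * X⁻¹ = t⁻¹ * X⁻¹ * d := by
        calc d * X⁻¹ = t⁻¹ * (t * d * X⁻¹) := by group
          _ = _ := by rw [← hXd]; group
      calc d * Y⁻¹ * d * (a * X⁻¹ * a) = d * Y⁻¹ * (d * a) * (X⁻¹ * a) := by group
        _ = d * (Y⁻¹ * a) * (d * X⁻¹) * a := by rw [← had]; group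
        _ = d * s * (a * Y⁻¹ * t⁻¹) * (X⁻¹ * d * a) := by rw [hYa, hdX]; group
        _ = d * s * t⁻¹ * (a * Y⁻¹ * (X⁻¹ * d * a)) := by
          rw [← ((hZA t htZ a ha).mul_right (hZA₁ t htZ Y hYA).inv_right).inv_left.eq]; group
        _ = s * t⁻¹ * (d * a * (Y⁻¹ * X⁻¹) * (d * a)) := by
          rw [show d * s * t⁻¹ = s * t⁻¹ * d by
            rw [mul_assoc]; exact ((hZA s hsZ d hd).mul_left (hZA t htZ d hd).inv_left).eq.symm]
          group
        _ = _ := by rw [← hXY, ← had]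
    have heq : t * s⁻¹ = s * t⁻¹ := by
      have h := hw2.eq
      rw [hl, hr] at h
      exact mul_right_cancel h
    have hk2 : (t * s⁻¹) ^ 2 = 1 := by
      rw [pow_two]; nth_rw 2 [heq]; group
    have hk : t * s⁻¹ = 1 := by
      obtain ⟨i, hi⟩ := hS (t * s⁻¹)
      rw [← orderOf_eq_one_iff]
      exact Nat.eq_one_of_dvd_coprimes
        (Nat.Coprime.pow_right i ((Nat.coprime_primes Nat.prime_two Fact.out).mpr (Ne.symm hp2)))
        (orderOf_dvd_of_pow_eq_one hk2) (orderOf_dvd_of_pow_eq_one hi)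
    show w a * w d = w d * w a
    rw [hwa, hwd, mul_inv_eq_one.mp hk]
  -- the subgroup
  have hgen : {g : S | ∃ a ∈ A, g = a * b⁻¹ * a⁻¹ * b} = w '' (A : Set S) := by
    ext g
    constructor
    · rintro ⟨a, ha, rfl⟩
      exact ⟨a, ha, by simp only [hw, hcapp]; group⟩
    · rintro ⟨a, ha, rfl⟩
      exact ⟨a, ha, by simp only [hw, hcapp]; group⟩
  have hR : replSub A b = Z ⊔ Subgroup.closure (w '' (A : Set S)) := by rw [replSub, hgen]
  rw [hR]
  set R := Z ⊔ Subgroup.closure (w '' (A : Set S)) with hR'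
  have hZw : ∀ z ∈ Z, ∀ a ∈ A, Commute z (w a) := fun z hz a ha =>
    (hZA z hz a ha).mul_right (hZA₁ z hz _ ⟨a, ha, rfl⟩).inv_right
  have hw1 : w 1 = 1 := by simp [hw]
  let T : Subgroup S :=
    { carrier := {g | ∃ z ∈ Z, ∃ a ∈ A, g = z * w a}
      one_mem' := ⟨1, one_mem _, 1, one_mem _, by rw [hw1, mul_one]⟩
      mul_mem' := by
        rintro _ _ ⟨z, hz, a, ha, rfl⟩ ⟨z', hz', a', ha', rfl⟩
        refine ⟨z * z' * ⁅a', c a⁆, mul_mem (mul_mem hz hz') (hZc a' ha' _ ⟨a, ha, rfl⟩),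
          a * a', mul_mem ha ha', ?_⟩
        rw [mul_assoc (z * z'), ← hwmul a ha a' ha', mul_assoc z, ← mul_assoc (w a),
          ← (hZw z' hz' a ha).eq]
        group
      inv_mem' := by
        rintro _ ⟨z, hz, a, ha, rfl⟩
        refine ⟨z⁻¹ * ⁅a, c a⁻¹⁆⁻¹,
          mul_mem (inv_mem hz) (inv_mem (hZc a ha _ ⟨a⁻¹, inv_mem ha, rfl⟩)), a⁻¹, inv_mem ha, ?_⟩
        have h : w a⁻¹ * w a = ⁅a, c a⁻¹⁆ := by
          rw [hwmul _ (inv_mem ha) a ha, inv_mul_cancel, hw1, mul_one]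
        rw [(hZw z hz a ha).eq, mul_inv_rev, mul_assoc, ← h]
        group }
  have hRT : R = T := by
    refine le_antisymm (sup_le (fun z hz => ⟨z, hz, 1, one_mem _, by rw [hw1, mul_one]⟩)
      ((Subgroup.closure_le _).mpr ?_)) ?_
    · rintro _ ⟨a, ha, rfl⟩
      exact ⟨1, one_mem _, a, ha, (one_mul _).symm⟩
    · rintro _ ⟨z, hz, a, ha, rfl⟩
      exact mul_mem (Subgroup.mem_sup_left hz)
        (Subgroup.mem_sup_right (Subgroup.subset_closure ⟨a, ha, rfl⟩))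
  have hmem : ∀ g ∈ R, ∃ z ∈ Z, ∃ a ∈ A, g = z * w a := fun g hg => hRT.le hg
  have hwR : ∀ a ∈ A, w a ∈ R := fun a ha =>
    Subgroup.mem_sup_right (Subgroup.subset_closure ⟨a, ha, rfl⟩)
  have hZR : Z ≤ R := le_sup_left
  have hRc : IsMulCommutative R := by
    refine ⟨⟨fun x y => Subtype.ext ?_⟩⟩
    obtain ⟨z, hz, a, ha, hx⟩ := hmem _ x.2
    obtain ⟨z', hz', a', ha', hy⟩ := hmem _ y.2
    show (x : S) * y = y * x
    rw [hx, hy]
    exact (((hZA z hz z' hz'.1).mul_right (hZw z hz a' ha')).mul_left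
      ((hZw z' hz' a ha).symm.mul_right (hwcomm a ha a' ha'))).eq
  -- the order
  have hwZ : ∀ a ∈ A, w a ∈ Z → a ∈ Z := fun a ha h => by
    refine Subgroup.mem_inf.mpr ⟨ha, ?_⟩
    have := mul_mem h.2 (show c a ∈ A₁ from ⟨a, ha, rfl⟩)
    simpa [hw] using this
  have hZw' : ∀ a ∈ Z, w a ∈ Z := fun a ha => Subgroup.mem_inf.mpr
    ⟨mul_mem ha.1 (inv_mem ((hkey a ha.1).mp ha.2)), mul_mem ha.2 (inv_mem ⟨a, ha.1, rfl⟩)⟩
  haveI hZn : (Z.subgroupOf R).Normal := Subgroup.normal_of_comm _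
  have hcard : Nat.card R = Nat.card A := by
    let f : A →* R ⧸ Z.subgroupOf R := MonoidHom.mk'
      (fun a => QuotientGroup.mk ⟨w a, hwR a a.2⟩) fun a d => by
        rw [← QuotientGroup.mk_mul, QuotientGroup.eq, Subgroup.mem_subgroupOf]
        show (w ((a : S) * d))⁻¹ * (w a * w d) ∈ Z
        rw [hwmul a a.2 d d.2, (hZw _ (hZc d d.2 _ ⟨a, a.2, rfl⟩) _ (mul_mem a.2 d.2)).eq,
          inv_mul_cancel_left]
        exact hZc d d.2 _ ⟨a, a.2, rfl⟩
    have hsurj : Function.Surjective f := fun q => by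
      obtain ⟨⟨g, hg⟩, rfl⟩ := QuotientGroup.mk_surjective q
      obtain ⟨z, hz, a, ha, rfl⟩ := hmem g hg
      refine ⟨⟨a, ha⟩, ?_⟩
      show QuotientGroup.mk _ = QuotientGroup.mk _
      rw [QuotientGroup.eq, Subgroup.mem_subgroupOf]
      show (w a)⁻¹ * (z * w a) ∈ Z
      rw [(hZw z hz a ha).eq, inv_mul_cancel_left]
      exact hz
    have hker : f.ker = Z.subgroupOf A := by
      ext a
      rw [MonoidHom.mem_ker, Subgroup.mem_subgroupOf]
      show QuotientGroup.mk _ = (1 : R ⧸ Z.subgroupOf R) ↔ _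
      rw [QuotientGroup.eq_one_iff, Subgroup.mem_subgroupOf]
      exact ⟨hwZ a a.2, hZw' a⟩
    have h1 := Subgroup.card_eq_card_quotient_mul_card_subgroup f.ker
    have h2 := Subgroup.card_eq_card_quotient_mul_card_subgroup (Z.subgroupOf R)
    rw [Nat.card_congr (QuotientGroup.quotientKerEquivOfSurjective f hsurj).toEquiv, hker,
      Nat.card_congr (Subgroup.subgroupOfEquivOfLe (inf_le_left : Z ≤ A)).toEquiv] at h1
    rw [Nat.card_congr (Subgroup.subgroupOfEquivOfLe hZR).toEquiv] at h2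
    rw [h1, h2]
  -- normalizers
  have hABZ : A ⊓ B ≤ Z := fun x hx => by
    refine Subgroup.mem_inf.mpr ⟨hx.1, (hkey x hx.1).mpr ?_⟩
    rw [hcapp, show b⁻¹ * x * b = ⁅b⁻¹, x⁆ * x by rw [commutatorElement_def]; group]
    exact mul_mem (hcBA _ (inv_mem hb) x hx.2) hx.1
  have hcZ : ∀ z ∈ Z, c z ∈ Z := fun z hz =>
    Subgroup.mem_inf.mpr ⟨(hkey z hz.1).mp hz.2, z, hz.1, rfl⟩
  have hbR : b ∈ Subgroup.normalizer (R : Set S) := by
    have hle : R.map c ≤ R := by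
      rintro _ ⟨g, hg, rfl⟩
      obtain ⟨z, hz, a, ha, rfl⟩ := hmem g hg
      rw [map_mul]
      refine mul_mem (hZR (hcZ z hz)) ?_
      rw [hcapp, show b⁻¹ * w a * b = ⁅b⁻¹, w a⁆ * w a by rw [commutatorElement_def]; group]
      exact mul_mem (hZR (hDZ _ (inv_mem hb) _ (hwB a))) (hwR a ha)
    have heq : R.map c = R := Subgroup.eq_of_le_of_card_ge hle
      (by rw [Subgroup.card_map_of_injective (MulAut.conj b⁻¹).injective])
    exact inv_mem_iff.mp (Transfer.map_conj_eq_self_iff.mp heq)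
  have hNR : N ≤ Subgroup.normalizer (R : Set S) := by
    intro n hn
    have hle : R.map (MulAut.conj n).toMonoidHom ≤ R := by
      rintro _ ⟨g, hg, rfl⟩
      obtain ⟨z, hz, a, ha, rfl⟩ := hmem g hg
      rw [map_mul]
      refine mul_mem (hZR (Subgroup.mem_inf.mpr ⟨(Subgroup.mem_normalizer_iff.mp hn z).mp hz.1,
        (Subgroup.mem_normalizer_iff.mp (hNA₁ hn) z).mp hz.2⟩)) ?_
      show n * w a * n⁻¹ ∈ R
      set a'' := n * a * n⁻¹ with ha''
      have ha''A : a'' ∈ A := (Subgroup.mem_normalizer_iff.mp hn a).mp ha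
      have hn' : b * n * b⁻¹ ∈ N := (Subgroup.mem_normalizer_iff.mp hbN n).mp hn
      set δ := a'' * (b * n * b⁻¹ * a⁻¹ * (b * n * b⁻¹)⁻¹) with hδ
      have hδA : δ ∈ A :=
        mul_mem ha''A ((Subgroup.mem_normalizer_iff.mp hn' _).mp (inv_mem ha))
      have hδB : δ ∈ B := by
        have he : ⁅b, n⁆ ∈ B := by
          rw [show ⁅b, n⁆ = b * (n * b⁻¹ * n⁻¹) by rw [commutatorElement_def]; group]
          exact mul_mem hb (Subgroup.Normal.conj_mem inferInstance _ (inv_mem hb) n)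
        rw [show δ = (a'' * ⁅b, n⁆ * a''⁻¹) * ⁅b, n⁆⁻¹ by
          rw [hδ, ha'', commutatorElement_def]; group]
        exact mul_mem (Subgroup.Normal.conj_mem inferInstance _ he a'') (inv_mem he)
      have hn2 : n * w a * n⁻¹ = w a'' * c δ := by
        simp only [hw, hδ, ha'', hcapp]; group
      rw [hn2]
      exact mul_mem (hwR a'' ha''A) (hZR (hcZ δ (hABZ (Subgroup.mem_inf.mpr ⟨hδA, hδB⟩))))
    exact Transfer.map_conj_eq_self_iff.mp (Subgroup.eq_of_le_of_card_ge hle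
      (by rw [Subgroup.card_map_of_injective (MulAut.conj n).injective]))
  have hRN : R ≤ N := sup_le (inf_le_left.trans Subgroup.le_normalizer)
    ((Subgroup.closure_le _).mpr (by rintro _ ⟨a, ha, rfl⟩; exact hwN a ha))
  refine ⟨hcard, hRc, Subgroup.commutator_le.mpr fun x hx z hz => hZR (hDZ x hx z hz), ?_, ?_,
    Subgroup.le_normalizer.trans hNR, hRN, hbR,
    lt_of_le_of_ne hNR fun h => hbA (h ▸ hbR), fun hp2 => ?_⟩
  · refine lt_of_le_of_ne (le_inf (hABZ.trans hZR) inf_le_right) fun heq => hbA ?_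
    have hle : A₁ ≤ A := by
      rintro _ ⟨a, ha, rfl⟩
      have h1 : w a ∈ A := (heq.ge (Subgroup.mem_inf.mpr ⟨hwR a ha, hwB a⟩)).1
      have := mul_mem (inv_mem h1) ha
      simpa [hw] using this
    exact inv_mem_iff.mp (Transfer.map_conj_eq_self_iff.mp (Subgroup.eq_of_le_of_card_ge hle
      (Subgroup.card_map_of_injective (MulAut.conj b⁻¹).injective).ge))
  · exact lt_of_le_of_ne inf_le_right fun h => hnot ((h.ge.trans inf_le_left).trans hRN)
  · rw [Monoid.exponent_dvd_iff_forall_pow_eq_one]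
    intro g
    set n := Monoid.exponent A with hn
    have hAn : ∀ a ∈ A, a ^ n = 1 := fun a ha =>
      congrArg Subtype.val (Monoid.pow_exponent_eq_one (⟨a, ha⟩ : A))
    obtain ⟨z, hz, a, ha, hg⟩ := hmem _ g.2
    refine Subtype.ext ?_
    show (g : S) ^ n = 1
    rw [hg, (hZw z hz a ha).mul_pow, hAn z hz.1, one_mul]
    have hXA : (c a)⁻¹ ∈ A₁ := inv_mem ⟨a, ha, rfl⟩
    have hq : ⁅(c a)⁻¹, a⁆ ∈ Z := by
      rw [← commutatorElement_inv]; exact inv_mem (hZc a ha _ hXA)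
    show (a * (c a)⁻¹) ^ n = 1
    rw [mul_pow_of_central (hZA _ hq a ha) (hZA₁ _ hq _ hXA), hAn a ha, one_mul, inv_pow,
      ← map_pow, hAn a ha, map_one, inv_one, one_mul]
    have hodd : Odd n := by
      obtain ⟨m, hm⟩ := IsPGroup.iff_card.mp (hS.to_subgroup A)
      obtain ⟨i, -, hi⟩ := (Nat.dvd_prime_pow Fact.out).mp
        (hm ▸ Group.exponent_dvd_nat_card (G := A))
      rw [hn, hi]
      exact ((Fact.out : p.Prime).odd_of_ne_two hp2).pow
    obtain ⟨j, hj⟩ := hodd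
    have hdvd : n ∣ n.choose 2 :=
      ⟨j, by rw [Nat.choose_two_right, hj, show (2 * j + 1) * (2 * j + 1 - 1) = (2 * j + 1) * j * 2 by
        rw [Nat.add_sub_cancel]; ring, Nat.mul_div_cancel _ two_pos]⟩
    obtain ⟨q, hq'⟩ := hdvd
    rw [hq', pow_mul, hAn _ hq.1, one_pow]

end CfsgLib.ZJ
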